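import Cfsg.Agent.Lib.CoreKilling.RankTwo.Conic
import Cfsg.Agent.Lib.DGroup.Outer
import Cfsg.Agent.Lib.QGroup.Tools
import Cfsg.Agent.Lib.GLOrder.Basic

/-!
# Semilinear automorphisms of `SL₂` (owner: helper44)

* `exists_semiSL` : every automorphism is `semiSL g σ`
* `semiSL_invol` : an involutory one has `σ² = 1` and `g σ(g)` scalar
* `exists_quat` : one with `σ ≠ 1` fixes two anticommuting roots of `-1`
* `conjSL`, `card_range_conjSL` : the linear ones, `q (q² - 1)` in number
-/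

set_option autoImplicit false

namespace Cfsg.Agent.CoreKilling.RankTwo

open Matrix Cfsg.Agent.AutPSL
open scoped MatrixGroups

variable {F : Type} [Field F]

/-- `!![1, x; 0, 1]`. -/
def upp (x : F) : Matrix.SpecialLinearGroup (Fin 2) F :=
  ⟨!![1, x; 0, 1], by simp [Matrix.det_fin_two_of]⟩

/-- `!![0, 1; -1, 0]`. -/
def rot : Matrix.SpecialLinearGroup (Fin 2) F :=
  ⟨!![0, 1; -1, 0], by simp [Matrix.det_fin_two_of]⟩

theorem rot_coe : ((rot : Matrix.SpecialLinearGroup (Fin 2) F) : Matrix (Fin 2) (Fin 2) F) = !![0, 1; -1, 0] := rfl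

/-- A matrix commuting with `SL₂` is scalar. -/
theorem eq_smul_of_commute {A : Matrix (Fin 2) (Fin 2) F}
    (h : ∀ s : Matrix.SpecialLinearGroup (Fin 2) F, A * (s : Matrix (Fin 2) (Fin 2) F) = s * A) :
    A = A 0 0 • (1 : Matrix (Fin 2) (Fin 2) F) := by
  have a := congrFun (congrFun (h (upp 1)) 0) 0
  have b := congrFun (congrFun (h (upp 1)) 0) 1
  have c := congrFun (congrFun (h rot) 0) 0
  simp [upp, rot, Matrix.mul_apply, Fin.sum_univ_two] at a b c
  ext i j
  fin_cases i <;> fin_cases j <;> simp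
  · linear_combination -c - a
  · exact a
  · linear_combination -b

/-- The matrix in front. -/
theorem semiSL_mul_coe (g : GL (Fin 2) F) (σ : F ≃+* F) (s : Matrix.SpecialLinearGroup (Fin 2) F) :
    (semiSL g σ s : Matrix (Fin 2) (Fin 2) F) * g = g * (s : Matrix (Fin 2) (Fin 2) F).map σ := by
  rw [semiSL_coe, mul_assoc, Units.inv_mul, mul_one]

theorem center_sq {c : Matrix.SpecialLinearGroup (Fin 2) F}
    (hc : c ∈ Subgroup.center (Matrix.SpecialLinearGroup (Fin 2) F)) : c * c = 1 := by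
  obtain ⟨r, hr, hr'⟩ := Matrix.SpecialLinearGroup.mem_center_iff.1 hc
  refine Subtype.ext ?_
  rw [Matrix.SpecialLinearGroup.coe_mul, Matrix.SpecialLinearGroup.coe_one, ← hr', ← map_mul, ← sq]
  rw [Fintype.card_fin] at hr
  rw [hr, map_one]

/-- The automorphisms of `SL₂`. -/
theorem exists_semiSL [Finite F] (hodd : Odd (Nat.card F))
    (α : MulAut (Matrix.SpecialLinearGroup (Fin 2) F)) :
    ∃ (g : GL (Fin 2) F) (σ : F ≃+* F), ∀ s, α s = semiSL g σ s := by
  have := Fintype.ofFinite F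
  set Z := Subgroup.center (Matrix.SpecialLinearGroup (Fin 2) F)
  obtain ⟨g, σ, h⟩ := DGroup.AutTwo.exists_semi
    (QuotientGroup.congr Z Z α (Linear.map_center_mulEquiv α))
  refine ⟨g, σ, ?_⟩
  have hm : ∀ s, (semiSL g σ s)⁻¹ * α s ∈ Z := fun s => by
    have hs := MulEquiv.congr_fun h (proj (Fin 2) F s)
    rw [semi_proj] at hs
    exact QuotientGroup.eq.1 hs.symm
  let χ : Matrix.SpecialLinearGroup (Fin 2) F →* Z := MonoidHom.mk'
    (fun s => ⟨(semiSL g σ s)⁻¹ * α s, hm s⟩) fun a b => Subtype.ext (by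
      show (semiSL g σ (a * b))⁻¹ * α (a * b) = (semiSL g σ a)⁻¹ * α a * ((semiSL g σ b)⁻¹ * α b)
      have hc := Subgroup.mem_center_iff.1 (hm a) (semiSL g σ b)⁻¹
      rw [map_mul, map_mul, _root_.mul_inv_rev]
      calc (semiSL g σ b)⁻¹ * (semiSL g σ a)⁻¹ * (α a * α b)
          = (semiSL g σ b)⁻¹ * ((semiSL g σ a)⁻¹ * α a) * α b := by group
        _ = _ := by rw [hc]; group)
  have h1 := QGroup.sl_two_hom_two_group (F := F) (by rwa [← Nat.card_eq_fintype_card])
    (A := Z) (fun c => ⟨1, Subtype.ext (by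
      show ((c : Z) ^ 2 ^ 1 : Z).1 = 1
      rw [pow_one, sq]; exact center_sq c.2)⟩) χ
  intro s
  exact (inv_mul_eq_one.1 (congrArg Subtype.val (DFunLike.congr_fun h1 s))).symm

/-- The square of a semilinear map. -/
theorem semiSL_invol {g : GL (Fin 2) F} {σ : F ≃+* F}
    (h : ∀ s, semiSL g σ (semiSL g σ s) = s) :
    (∀ x, σ (σ x) = x) ∧
      ∃ c : F, c ≠ 0 ∧ (g : Matrix (Fin 2) (Fin 2) F) * (g : Matrix (Fin 2) (Fin 2) F).map σ = c • 1 := by
  set A := (g : Matrix (Fin 2) (Fin 2) F) * (g : Matrix (Fin 2) (Fin 2) F).map σ with hA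
  have key : ∀ s : Matrix.SpecialLinearGroup (Fin 2) F,
      (s : Matrix (Fin 2) (Fin 2) F) * A = A * ((s : Matrix (Fin 2) (Fin 2) F).map σ).map σ := by
    intro s
    have h1 := semiSL_mul_coe g σ (semiSL g σ s)
    rw [h] at h1
    rw [hA, ← mul_assoc, h1, mul_assoc, ← Matrix.map_mul, semiSL_mul_coe, Matrix.map_mul, ← mul_assoc]
  have hfix : ∀ s : Matrix.SpecialLinearGroup (Fin 2) F, (∀ i j, σ (σ (s.1 i j)) = s.1 i j) →
      A * (s : Matrix (Fin 2) (Fin 2) F) = s * A := fun s hs => by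
    rw [key s]
    congr 1
    ext i j
    exact (hs i j).symm
  have a := congrFun (congrFun (hfix (upp 1) (by intro i j; fin_cases i <;> fin_cases j <;> simp [upp])) 0) 0
  have b := congrFun (congrFun (hfix (upp 1) (by intro i j; fin_cases i <;> fin_cases j <;> simp [upp])) 0) 1
  have c := congrFun (congrFun (hfix rot (by intro i j; fin_cases i <;> fin_cases j <;> simp [rot])) 0) 0
  simp [upp, rot, Matrix.mul_apply, Fin.sum_univ_two] at a b c
  have hAs : A = A 0 0 • (1 : Matrix (Fin 2) (Fin 2) F) := by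
    ext i j
    fin_cases i <;> fin_cases j <;> simp
    · linear_combination -c - a
    · exact a
    · linear_combination -b
  have hdet : A.det ≠ 0 := by
    rw [hA, Matrix.det_mul, show (g : Matrix (Fin 2) (Fin 2) F).map σ =
      σ.toRingHom.mapMatrix (g : Matrix (Fin 2) (Fin 2) F) from rfl, ← RingHom.map_det]
    refine mul_ne_zero ?_ ((map_ne_zero _).2 ?_) <;>
      exact (Matrix.isUnit_iff_isUnit_det _).1 ⟨g, rfl⟩ |>.ne_zero
  have hne : A 0 0 ≠ 0 := fun e => hdet (by rw [hAs, e, zero_smul, Matrix.det_zero])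
  refine ⟨fun x => ?_, A 0 0, hne, hAs⟩
  have h2 := congrFun (congrFun (key (upp x)) 0) 1
  rw [hAs] at h2
  simp [upp, Matrix.mul_apply, Fin.sum_univ_two] at h2
  exact (mul_left_cancel₀ hne (by linear_combination h2)).symm

theorem gl_det_ne_zero (g : GL (Fin 2) F) : (g : Matrix (Fin 2) (Fin 2) F).det ≠ 0 :=
  ((Matrix.isUnit_iff_isUnit_det _).1 ⟨g, rfl⟩).ne_zero

/-- With a field part, two anticommuting roots of `-1` are fixed. -/
theorem exists_quat [Finite F] (h2 : (2 : F) ≠ 0) {g : GL (Fin 2) F} {σ : F ≃+* F}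
    (hσσ : ∀ x, σ (σ x) = x) (hne : σ ≠ RingEquiv.refl F) {c : F} (hc : c ≠ 0)
    (hg : (g : Matrix (Fin 2) (Fin 2) F) * (g : Matrix (Fin 2) (Fin 2) F).map σ = c • 1) :
    ∃ u w : Matrix.SpecialLinearGroup (Fin 2) F, orderOf (u * u) = 2 ∧ w * w = u * u ∧
      w * u * w⁻¹ = u⁻¹ ∧ semiSL g σ u = u ∧ semiSL g σ w = w := by
  obtain ⟨θ, hθ, hθ0⟩ : ∃ θ, σ θ = -θ ∧ θ ≠ 0 := by
    obtain ⟨x, hx⟩ : ∃ x, σ x ≠ x := by
      by_contra hh
      push Not at hh
      exact hne (RingEquiv.ext hh)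
    exact ⟨x - σ x, by rw [map_sub, hσσ, neg_sub], sub_ne_zero.2 (Ne.symm hx)⟩
  let K : Subfield F := RingHom.eqLocusField (σ : F →+* F) (RingHom.id F)
  have h2K : (2 : K) ≠ 0 := fun e => h2 (congrArg Subtype.val e)
  -- `c` is fixed
  have hcc : σ c = c := by
    set G0 := (g : Matrix (Fin 2) (Fin 2) F)
    set Gs := G0.map σ
    have h1 := congrArg (fun A : Matrix (Fin 2) (Fin 2) F => A.map σ) hg
    simp only [Matrix.map_mul] at h1
    have h11 : (G0.map σ).map σ = G0 := by ext i j; exact hσσ _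
    rw [h11] at h1
    have h12 : ((c • (1 : Matrix (Fin 2) (Fin 2) F)).map σ) = σ c • 1 := by
      ext i j; fin_cases i <;> fin_cases j <;> simp
    rw [h12] at h1
    have h3 : G0 * (Gs * G0) = c • G0 := by rw [← mul_assoc, hg, smul_mul_assoc, one_mul]
    rw [h1, mul_smul_comm, mul_one] at h3
    have hG : G0 ≠ 0 := fun e => gl_det_ne_zero g (by show G0.det = 0; rw [e, Matrix.det_zero])
    exact smul_left_injective F hG h3
  -- `c` is a norm
  obtain ⟨a, b, hab⟩ := Tri.exists_quad (F := K) h2K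
    (e := ⟨-θ ^ 2, by show σ (-θ ^ 2) = -θ ^ 2; rw [map_neg, map_pow, hθ, neg_sq]⟩)
    (fun e => hθ0 (eq_zero_of_pow_eq_zero (neg_eq_zero.1 (congrArg Subtype.val e)))) ⟨c, hcc⟩
  have hab' : (a : F) ^ 2 + -θ ^ 2 * (b : F) ^ 2 = c := by
    have := congrArg Subtype.val hab
    push_cast at this
    exact this
  set μ₀ : F := (a : F) + θ * b with hμ₀
  have hN : μ₀ * σ μ₀ = c := by
    rw [hμ₀, map_add, map_mul, hθ, show σ (a : F) = a from a.2, show σ (b : F) = b from b.2]
    linear_combination hab'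
  have hμ0 : μ₀ ≠ 0 := left_ne_zero_of_mul (hN ▸ hc)
  -- normalise `g`
  set g' : Matrix (Fin 2) (Fin 2) F := μ₀⁻¹ • (g : Matrix (Fin 2) (Fin 2) F) with hg'def
  have hg' : g' * g'.map σ = 1 := by
    rw [hg'def, show (μ₀⁻¹ • (g : Matrix (Fin 2) (Fin 2) F)).map σ =
      σ μ₀⁻¹ • (g : Matrix (Fin 2) (Fin 2) F).map σ by ext i j; simp, smul_mul_assoc, mul_smul_comm,
      hg, smul_smul, smul_smul, map_inv₀, ← hN]
    have : σ μ₀ ≠ 0 := (map_ne_zero _).2 hμ0
    convert one_smul F (1 : Matrix (Fin 2) (Fin 2) F) using 2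
    field_simp
  obtain ⟨μ, hμ⟩ : ∃ μ : F, (μ • (1 : Matrix (Fin 2) (Fin 2) F) + σ μ • g').det ≠ 0 := by
    by_contra hh
    push Not at hh
    have e1 := hh 1
    have e2 := hh θ
    have e3 := hh (1 + θ)
    simp only [map_one, map_add, hθ] at e1 e2 e3
    simp [Matrix.det_fin_two] at e1 e2 e3
    have ht : g' 0 0 + g' 1 1 = 0 := by
      have : θ ^ 2 * (2 * (g' 0 0 + g' 1 1)) = 0 := by linear_combination θ ^ 2 * e1 - e2
      exact (mul_eq_zero.1 ((mul_eq_zero.1 this).resolve_left (pow_ne_zero _ hθ0))).resolve_left h2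
    have hd : g' 0 0 * g' 1 1 - g' 0 1 * g' 1 0 = -1 := by linear_combination e1 - ht
    have : (2 * 2 : F) * θ = 0 := by
      linear_combination e3 - (1 - θ ^ 2) * ht - (1 - θ) ^ 2 * hd
    exact hθ0 ((mul_eq_zero.1 this).resolve_left (mul_ne_zero h2 h2))
  set h : Matrix (Fin 2) (Fin 2) F := μ • (1 : Matrix (Fin 2) (Fin 2) F) + σ μ • g' with hh
  let H : GL (Fin 2) F := Matrix.GeneralLinearGroup.mkOfDetNeZero h hμ
  -- `g' σ(h) = h`
  have hfix : g' * h.map σ = h := by
    have e1 : h.map σ = σ μ • (1 : Matrix (Fin 2) (Fin 2) F) + μ • g'.map σ := by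
      rw [hh]
      ext i j
      by_cases hij : i = j <;> simp [hij, hσσ]
    rw [e1, mul_add, mul_smul_comm, mul_smul_comm, mul_one, hg', hh, add_comm]
  -- the roots
  obtain ⟨x, y, hxy⟩ := Tri.exists_quad (F := K) h2K (e := 1) one_ne_zero (-1)
  have hxy' : (x : F) ^ 2 + (y : F) ^ 2 = -1 := by
    have := congrArg Subtype.val hxy
    push_cast at this
    linear_combination this
  let w₀ : Matrix.SpecialLinearGroup (Fin 2) F :=
    ⟨!![(x : F), y; y, -x], by rw [Matrix.det_fin_two_of]; linear_combination -hxy'⟩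
  have hw0c : (w₀ : Matrix (Fin 2) (Fin 2) F) = !![(x : F), y; y, -x] := rfl
  have hJJ : orderOf (rot * rot : Matrix.SpecialLinearGroup (Fin 2) F) = 2 := by
    refine orderOf_eq_prime ?_ ?_
    · refine Subtype.ext ?_
      ext i j
      fin_cases i <;> fin_cases j <;> simp [rot_coe, sq, Matrix.mul_apply, Fin.sum_univ_two]
    · intro e
      have := congrFun (congrFun (congrArg Subtype.val e) 0) 0
      simp [rot_coe, Matrix.mul_apply, Fin.sum_univ_two] at this
      exact h2 (by linear_combination -this)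
  have hww : w₀ * w₀ = rot * rot := by
    refine Subtype.ext ?_
    ext i j
    fin_cases i <;> fin_cases j <;> simp [hw0c, rot_coe, Matrix.mul_apply, Fin.sum_univ_two] <;>
      first | linear_combination hxy' | ring1
  have hinv : w₀ * rot * w₀⁻¹ = rot⁻¹ := by
    rw [mul_inv_eq_iff_eq_mul, eq_inv_mul_iff_mul_eq]
    refine Subtype.ext ?_
    ext i j
    fin_cases i <;> fin_cases j <;> simp [hw0c, rot_coe, Matrix.mul_apply, Fin.sum_univ_two] <;> ring
  let C : MulAut (Matrix.SpecialLinearGroup (Fin 2) F) := semiSL H (RingEquiv.refl F)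
  refine ⟨C rot, C w₀, ?_, by rw [← map_mul, ← map_mul, hww], ?_, ?_, ?_⟩
  · rw [← map_mul]; exact (orderOf_injective C.toMonoidHom C.injective _).trans hJJ
  · rw [← map_inv, ← map_mul, ← map_mul, ← map_inv, hinv]
  all_goals
    have hgh : (g : Matrix (Fin 2) (Fin 2) F) * h.map σ = μ₀ • h := by
      conv_rhs => rw [← hfix, hg'def, smul_mul_assoc, smul_smul, mul_inv_cancel₀ hμ0, one_smul]
    have key : ∀ s : Matrix.SpecialLinearGroup (Fin 2) F, (∀ i j, σ (s.1 i j) = s.1 i j) →
        semiSL g σ (C s) = C s := fun s hs => by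
      have e1 : (C s : Matrix (Fin 2) (Fin 2) F) * h = h * (s : Matrix (Fin 2) (Fin 2) F) := by
        have := semiSL_mul_coe H (RingEquiv.refl F) s
        rw [show (s : Matrix (Fin 2) (Fin 2) F).map (RingEquiv.refl F) = s by ext i j; rfl] at this
        exact this
      have e2 := congrArg (fun A : Matrix (Fin 2) (Fin 2) F => (g : Matrix (Fin 2) (Fin 2) F) * A.map σ) e1
      simp only [Matrix.map_mul, ← mul_assoc] at e2
      rw [← semiSL_mul_coe, mul_assoc, hgh, mul_smul_comm, smul_mul_assoc,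
        show (s : Matrix (Fin 2) (Fin 2) F).map σ = s by ext i j; exact hs i j, ← e1] at e2
      refine Subtype.ext ?_
      have e3 := smul_right_injective (Matrix (Fin 2) (Fin 2) F) hμ0 e2
      exact (Matrix.isUnit_iff_isUnit_det _).2 (Ne.isUnit hμ) |>.mul_right_cancel e3
  · exact key rot (by intro i j; fin_cases i <;> fin_cases j <;> simp [rot])
  · exact key w₀ (by
      intro i j
      fin_cases i <;> fin_cases j <;> simp [w₀, show σ (x : F) = x from x.2, show σ (y : F) = y from y.2])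

theorem map_refl (M : Matrix (Fin 2) (Fin 2) F) : M.map (RingEquiv.refl F) = M := by
  ext i j; rfl

/-- Conjugation by `GL₂`. -/
def conjSL : GL (Fin 2) F →* MulAut (Matrix.SpecialLinearGroup (Fin 2) F) where
  toFun g := semiSL g (RingEquiv.refl F)
  map_one' := MulEquiv.ext fun s => Subtype.ext (by rw [semiSL_coe, map_refl]; simp)
  map_mul' g h := MulEquiv.ext fun s => Subtype.ext (by
    rw [MulAut.mul_apply, semiSL_coe, semiSL_coe, semiSL_coe, map_refl, map_refl]
    simp [mul_assoc])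

/-- There are `q (q² - 1)` of them. -/
theorem card_range_conjSL [Finite F] :
    Nat.card (conjSL (F := F)).range = Nat.card F * (Nat.card F ^ 2 - 1) := by
  have hker : Nat.card (conjSL (F := F)).ker = Nat.card F - 1 := by
    rw [← GLOrder.card_units]
    symm
    refine Nat.card_eq_of_bijective (fun u : Fˣ =>
      (⟨Matrix.GeneralLinearGroup.mkOfDetNeZero ((u : F) • (1 : Matrix (Fin 2) (Fin 2) F))
          (by simp [Matrix.det_smul]),
        MonoidHom.mem_ker.2 (MulEquiv.ext fun s => Subtype.ext (Matrix.isUnit_iff_isUnit_det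
          ((u : F) • (1 : Matrix (Fin 2) (Fin 2) F)) |>.2 (Ne.isUnit (by simp [Matrix.det_smul]))
          |>.mul_right_cancel ?_))⟩ : (conjSL (F := F)).ker)) ⟨fun u v e => ?_, fun k => ?_⟩
    · refine (semiSL_mul_coe (Matrix.GeneralLinearGroup.mkOfDetNeZero ((u : F) • (1 : Matrix (Fin 2) (Fin 2) F))
        (by simp [Matrix.det_smul])) _ s).trans ?_
      show ((u : F) • (1 : Matrix (Fin 2) (Fin 2) F)) * _ = _
      rw [smul_one_mul, mul_smul_one]
      ext i j; rfl
    · have := congrFun (congrFun (congrArg (fun k : (conjSL (F := F)).ker => ((k : GL (Fin 2) F) : Matrix (Fin 2) (Fin 2) F)) e) 0) 0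
      exact Units.ext (by simpa using this)
    · obtain ⟨k, hk⟩ := k
      have hk' := eq_smul_of_commute (A := (k : Matrix (Fin 2) (Fin 2) F)) fun s => by
        have h1 := semiSL_mul_coe k (RingEquiv.refl F) s
        rw [show semiSL k (RingEquiv.refl F) s = s from MulEquiv.congr_fun (MonoidHom.mem_ker.1 hk) s,
          show (s : Matrix (Fin 2) (Fin 2) F).map (RingEquiv.refl F) = s by ext i j; rfl] at h1
        exact h1.symm
      refine ⟨Units.mk0 ((k : Matrix (Fin 2) (Fin 2) F) 0 0) fun e => ?_, ?_⟩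
      · rw [e, zero_smul] at hk'
        exact gl_det_ne_zero k (by rw [hk', Matrix.det_zero])
      · exact Subtype.ext (Units.ext hk'.symm)
  have h := Subgroup.card_mul_index (conjSL (F := F)).ker
  rw [Subgroup.index_ker, hker, GLOrder.card_GL_two] at h
  have h1 : 1 < Nat.card F := Finite.one_lt_card
  refine Nat.eq_of_mul_eq_mul_left (show 0 < Nat.card F - 1 by omega) ?_
  rw [h]; ring

/-- Finite fields: `x σ(x)` is a square. -/
theorem isSquare_mul_map [Finite F] (hodd : Odd (Nat.card F)) (σ : F ≃+* F) (δ : F) :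
    IsSquare (δ * σ δ) := by
  have := Fintype.ofFinite F
  have hne : ringChar F ≠ 2 := fun h => by
    haveI : CharP F 2 := ringChar.of_eq h
    exact PSL2.two_ne_zero_iff_odd.2 hodd (by exact_mod_cast CharP.cast_eq_zero F 2)
  by_cases hδ : δ = 0
  · simp [hδ]
  have hσ : σ δ ≠ 0 := (map_ne_zero _).2 hδ
  rw [FiniteField.isSquare_iff hne (mul_ne_zero hδ hσ), mul_pow, ← map_pow]
  rcases FiniteField.pow_dichotomy hne hδ with h | h <;> rw [h] <;> simp

end Cfsg.Agent.CoreKilling.RankTwo
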