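import Cfsg.Agent.Lib.CoreKilling.RankTwo.TwoGroup
import Cfsg.Agent.Lib.CoreKilling.RankTwo.Semi
import Cfsg.Agent.Lib.Involution.StronglyEmbedded

/-!
# An involution centraliser modulo its core, in 2-rank two (owner: helper44)

* `Amb Q F z` : `z` central, no odd normal subgroup, `TwoFacts` Sylow, `Q' ≅ SL₂(F)`
* `Amb.act`, `Amb.Rep` : the action on `SL₂(F)`; a noncentral involution acts by a trace zero matrix
* `Amb.psi_*` : the noncentral involutions are the triples of one determinant, orthogonality says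
  that one moves the other to its product with `z`
-/

set_option autoImplicit false
set_option linter.unusedSectionVars false

namespace Cfsg.Agent.CoreKilling.RankTwo

open Matrix Subgroup
open scoped MatrixGroups

universe u

variable {F : Type} [Field F]

theorem coe_smul_mat (r : F) (x : F × F × F) : Tri.mat (r • x) = r • Tri.mat x := by
  ext i j
  fin_cases i <;> fin_cases j <;> simp [Tri.mat]

theorem mat_neg (x : F × F × F) : Tri.mat (-x) = -Tri.mat x := by
  ext i j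
  fin_cases i <;> fin_cases j <;> simp [Tri.mat]

theorem det_mat' (x : F × F × F) : (Tri.mat x).det = -x.1 ^ 2 - x.2.1 * x.2.2 := by
  simp [Tri.mat, Matrix.det_fin_two]; ring

theorem eq_mat_of_trace {M : Matrix (Fin 2) (Fin 2) F} (h : M.trace = 0) :
    Tri.mat (M 0 0, M 0 1, M 1 0) = M := by
  rw [Matrix.trace_fin_two] at h
  ext i j
  fin_cases i <;> fin_cases j <;> simp [Tri.mat]
  linear_combination -h

/-- The involution of `SL₂`. -/
theorem sl_invol (h2 : (2 : F) ≠ 0) {a : Matrix.SpecialLinearGroup (Fin 2) F} (ha : orderOf a = 2) :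
    (a : Matrix (Fin 2) (Fin 2) F) = -1 := by
  have h1 : a⁻¹ = a := inv_eq_of_mul_eq_one_right (by
    have := pow_orderOf_eq_one a; rwa [ha, sq] at this)
  have e := congrArg Subtype.val h1
  rw [Matrix.SpecialLinearGroup.coe_inv, Matrix.adjugate_fin_two] at e
  have e00 := congrFun (congrFun e 0) 0
  have e01 := congrFun (congrFun e 0) 1
  have e10 := congrFun (congrFun e 1) 0
  simp at e00 e01 e10
  have z : ∀ t : F, -t = t → t = 0 := fun t ht =>
    (mul_eq_zero.1 (show (2 : F) * t = 0 by linear_combination -ht)).resolve_left h2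
  have hd := a.2
  rw [Matrix.det_fin_two, z _ e01, z _ e10, e00, mul_zero, sub_zero] at hd
  have hne : (a : Matrix (Fin 2) (Fin 2) F) 0 0 ≠ 1 := fun e1 => by
    have : a = 1 := Subtype.ext (by
      ext i j
      fin_cases i <;> fin_cases j <;> simp [z _ e01, z _ e10, e1, e00])
    rw [this, orderOf_one] at ha; omega
  have hm := (mul_self_eq_one_iff.1 hd).resolve_left hne
  ext i j
  fin_cases i <;> fin_cases j <;> simp [z _ e01, z _ e10, hm, e00]

/-- Two anticommuting roots of `-1`. -/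
theorem exists_quat_sl [Finite F] (h2 : (2 : F) ≠ 0) :
    ∃ u w : Matrix.SpecialLinearGroup (Fin 2) F, orderOf (u * u) = 2 ∧ w * w = u * u ∧
      w * u * w⁻¹ = u⁻¹ := by
  obtain ⟨x, y, hxy⟩ := Tri.exists_quad h2 (e := (1 : F)) one_ne_zero (-1)
  let w₀ : Matrix.SpecialLinearGroup (Fin 2) F :=
    ⟨!![x, y; y, -x], by rw [Matrix.det_fin_two_of]; linear_combination -hxy⟩
  have hw0c : (w₀ : Matrix (Fin 2) (Fin 2) F) = !![x, y; y, -x] := rfl
  refine ⟨rot, w₀, ?_, ?_, ?_⟩
  · refine orderOf_eq_prime ?_ ?_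
    · refine Subtype.ext ?_
      ext i j
      fin_cases i <;> fin_cases j <;> simp [rot_coe, sq, Matrix.mul_apply, Fin.sum_univ_two]
    · intro e
      have := congrFun (congrFun (congrArg Subtype.val e) 0) 0
      simp [rot_coe, Matrix.mul_apply, Fin.sum_univ_two] at this
      exact h2 (by linear_combination -this)
  · refine Subtype.ext ?_
    ext i j
    fin_cases i <;> fin_cases j <;> simp [hw0c, rot_coe, Matrix.mul_apply, Fin.sum_univ_two] <;>
      first | linear_combination hxy | ring1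
  · rw [mul_inv_eq_iff_eq_mul, eq_inv_mul_iff_mul_eq]
    refine Subtype.ext ?_
    ext i j
    fin_cases i <;> fin_cases j <;> simp [hw0c, rot_coe, Matrix.mul_apply, Fin.sum_univ_two] <;> ring

/-- `C(z)/O(C(z))` as used in 2-rank two. -/
structure Amb (Q : Type u) [Group Q] (F : Type) [Field F] (z : Q) where
  S : Sylow 2 Q
  hzS : z ∈ S
  facts : TwoFacts (S : Subgroup Q) ⟨z, hzS⟩
  zc : z ∈ center Q
  core : ∀ N : Subgroup Q, N.Normal → Odd (Nat.card N) → N = ⊥
  e : commutator Q ≃* Matrix.SpecialLinearGroup (Fin 2) F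
  hodd : Odd (Nat.card F)

namespace Amb

variable {Q : Type u} [Group Q] [Finite Q] [Finite F] {z : Q} (A : Amb Q F z)
include A

theorem h2 : (2 : F) ≠ 0 := PSL2.two_ne_zero_iff_odd.2 A.hodd

theorem z2 : orderOf z = 2 := by
  have := A.facts.z2
  rwa [Subgroup.orderOf_mk] at this

theorem commz (g : Q) : Commute g z := mem_center_iff.1 A.zc g

theorem conj_z (g : Q) : g * z * g⁻¹ = z := by rw [(A.commz g).eq, mul_inv_cancel_right]

theorem zz : z * z = 1 := by rw [← sq, ← A.z2, pow_orderOf_eq_one]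

theorem into {P : Subgroup Q} (hP : IsPGroup 2 P) : ∃ g, ∀ x ∈ P, g * x * g⁻¹ ∈ A.S := by
  haveI : Fact (Nat.Prime 2) := ⟨Nat.prime_two⟩
  obtain ⟨T, hT⟩ := hP.exists_le_sylow
  obtain ⟨g, hg⟩ := MulAction.exists_smul_eq Q T A.S
  exact ⟨g, fun x hx => hg ▸ ⟨x, hT hx, rfl⟩⟩

/-- The only involution of the centre of `S`. -/
theorem eq_z {c : Q} (hc : c ∈ A.S) (hcc : ∀ s ∈ A.S, Commute s c) (h : orderOf c = 2) : c = z :=
  congrArg Subtype.val (A.facts.uniq ⟨c, hc⟩ (mem_center_iff.2 fun s => Subtype.ext (hcc s.1 s.2).eq)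
    (by rw [Subgroup.orderOf_mk]; exact h))

/-- The action on `SL₂`. -/
noncomputable def act : Q →* MulAut (Matrix.SpecialLinearGroup (Fin 2) F) :=
  (MulAut.congr A.e).toMonoidHom.comp MulAut.conjNormal

theorem act_apply (q : Q) (x : commutator Q) :
    A.act q (A.e x) = A.e ⟨q * x * q⁻¹, Normal.conj_mem inferInstance _ x.2 q⟩ := by
  show A.e (MulAut.conjNormal q (A.e.symm (A.e x))) = _
  rw [A.e.symm_apply_apply]
  exact congrArg A.e (Subtype.ext (MulAut.conjNormal_apply _ _))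

theorem act_inner (l : commutator Q) (s : Matrix.SpecialLinearGroup (Fin 2) F) :
    A.act (l : Q) s = A.e l * s * (A.e l)⁻¹ := by
  obtain ⟨x, rfl⟩ := A.e.surjective s
  rw [A.act_apply, ← map_inv, ← map_mul, ← map_mul]
  rfl

theorem mem_ker_iff {q : Q} : q ∈ A.act.ker ↔ ∀ x ∈ commutator Q, Commute q x := by
  refine ⟨fun h x hx => ?_, fun h => MonoidHom.mem_ker.2 (MulEquiv.ext fun s => ?_)⟩
  · have h1 := A.act_apply q ⟨x, hx⟩
    rw [MonoidHom.mem_ker.1 h, MulAut.one_apply] at h1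
    exact mul_inv_eq_iff_eq_mul.1 (congrArg Subtype.val (A.e.injective h1)).symm
  · obtain ⟨x, rfl⟩ := A.e.surjective s
    rw [A.act_apply, MulAut.one_apply]
    refine congrArg A.e (Subtype.ext ?_)
    show q * (x : Q) * q⁻¹ = x
    rw [(h _ x.2).eq, mul_inv_cancel_right]

/-- An involution of the commutator subgroup is `z`. -/
theorem eq_z_of_commutator {t : Q} (ht : t ∈ commutator Q) (h : orderOf t = 2) : t = z := by
  have key : ∀ s : commutator Q, orderOf s = 2 → (A.e s : Matrix (Fin 2) (Fin 2) F) = -1 := fun s hs =>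
    sl_invol A.h2 ((orderOf_injective A.e.toMonoidHom A.e.injective s).trans hs)
  have hc : ∀ g : Q, Commute g t := fun g => by
    have h1 := key ⟨t, ht⟩ (by rwa [Subgroup.orderOf_mk])
    have h2 := key ⟨g * t * g⁻¹, Normal.conj_mem inferInstance _ ht g⟩
      (by rw [Subgroup.orderOf_mk, Involution.orderOf_conj]; exact h)
    have h3 := congrArg Subtype.val (A.e.injective (Subtype.ext (h2.trans h1.symm)))
    exact mul_inv_eq_iff_eq_mul.1 h3
  haveI : Fact (Nat.Prime 2) := ⟨Nat.prime_two⟩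
  obtain ⟨g, hg⟩ := A.into (IsPGroup.of_card (G := zpowers t) (p := 2) (n := 1)
    (by rw [Nat.card_zpowers, h, pow_one]))
  have htS := hg t (mem_zpowers t)
  rw [(hc g).eq, mul_inv_cancel_right] at htS
  exact A.eq_z htS (fun s _ => hc s) h

/-- A quaternion pair of `SL₂` in `Q`. -/
theorem lift_quat {u w : Matrix.SpecialLinearGroup (Fin 2) F} (hu : orderOf (u * u) = 2)
    (hw : w * w = u * u) (hwu : w * u * w⁻¹ = u⁻¹) :
    (A.e.symm u : Q) * A.e.symm u = z ∧ (A.e.symm w : Q) * A.e.symm w = z ∧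
      (A.e.symm w : Q) * A.e.symm u * (A.e.symm w : Q)⁻¹ = (A.e.symm u : Q)⁻¹ ∧
      IsPGroup 2 (zpowers (A.e.symm u : Q) ⊔ zpowers (A.e.symm w : Q) : Subgroup Q) := by
  haveI : Fact (Nat.Prime 2) := ⟨Nat.prime_two⟩
  have h1 : (A.e.symm u : Q) * A.e.symm u = z := by
    rw [← Subgroup.coe_mul, ← map_mul]
    refine A.eq_z_of_commutator (Subtype.coe_prop _) ?_
    rw [Subgroup.orderOf_coe]
    exact (orderOf_injective A.e.symm.toMonoidHom A.e.symm.injective _).trans hu
  have h2 : (A.e.symm w : Q) * A.e.symm w = z := by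
    rw [← Subgroup.coe_mul, ← map_mul, hw, map_mul, Subgroup.coe_mul, h1]
  have h3 : (A.e.symm w : Q) * A.e.symm u * (A.e.symm w : Q)⁻¹ = (A.e.symm u : Q)⁻¹ := by
    rw [← Subgroup.coe_inv, ← Subgroup.coe_mul, ← Subgroup.coe_mul, ← map_inv, ← map_mul, ← map_mul,
      hwu, map_inv, Subgroup.coe_inv]
  refine ⟨h1, h2, h3, ?_⟩
  have hp : ∀ a : Q, a * a = z → IsPGroup 2 (zpowers a) := fun a ha x => ⟨2, by
    refine Subtype.ext ?_
    obtain ⟨i, hi⟩ := mem_zpowers_iff.1 x.2
    rw [SubgroupClass.coe_pow, OneMemClass.coe_one, ← hi, ← zpow_natCast, ← _root_.zpow_mul, mul_comm,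
      _root_.zpow_mul, zpow_natCast, show (2 : ℕ) ^ 2 = 2 * 2 by norm_num, pow_mul, pow_two a, ha, pow_two,
      A.zz, _root_.one_zpow]⟩
  refine (hp _ h1).to_sup_of_normal_left' (hp _ h2) (zpowers_le.2 ?_)
  refine Solvable.mem_normalizer_iff_conj.2 ?_
  rw [Solvable.conj_eq_map, MonoidHom.map_zpowers]
  show zpowers ((A.e.symm w : Q) * A.e.symm u * (A.e.symm w : Q)⁻¹) = _
  rw [h3, zpowers_inv]

/-- A 2-element commuting with a quaternion pair is conjugate into the centre of `S`. -/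
theorem exists_conj_central {u w : Matrix.SpecialLinearGroup (Fin 2) F} (hu : orderOf (u * u) = 2)
    (hw : w * w = u * u) (hwu : w * u * w⁻¹ = u⁻¹) {c : Q} (hc : IsPGroup 2 (zpowers c))
    (hcu : Commute c (A.e.symm u : Q)) (hcw : Commute c (A.e.symm w : Q)) :
    ∃ g, g * c * g⁻¹ ∈ A.S ∧ ∀ s ∈ A.S, Commute s (g * c * g⁻¹) := by
  obtain ⟨h1, h2, h3, hP⟩ := A.lift_quat hu hw hwu
  set a := (A.e.symm u : Q)
  set b := (A.e.symm w : Q)
  have hn : zpowers c ≤ normalizer ((zpowers a ⊔ zpowers b : Subgroup Q) : Set Q) := by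
    refine le_trans ?_ (centralizer_le_normalizer _)
    rw [zpowers_le, ← Subgroup.le_centralizer_iff.trans zpowers_le, sup_le_iff, zpowers_le, zpowers_le,
      mem_centralizer_iff, mem_centralizer_iff]
    constructor <;> intro y hy <;> obtain ⟨i, rfl⟩ := mem_zpowers_iff.1 hy
    · exact (hcu.zpow_left i).eq
    · exact (hcw.zpow_left i).eq
  obtain ⟨g, hg⟩ := A.into (hP.to_sup_of_normal_left' hc hn)
  have ha := hg a (mem_sup_left (mem_sup_left (mem_zpowers a)))
  have hb := hg b (mem_sup_left (mem_sup_right (mem_zpowers b)))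
  have hc' := hg c (mem_sup_right (mem_zpowers c))
  refine ⟨g, hc', fun s hs => ?_⟩
  have key := A.facts.cent ⟨_, ha⟩ ⟨_, hb⟩ ⟨_, hc'⟩
    (Subtype.ext (show g * a * g⁻¹ * (g * a * g⁻¹) = z by rw [conj_mul, h1, A.conj_z]))
    (Subtype.ext (show g * b * g⁻¹ * (g * b * g⁻¹) = z by rw [conj_mul, h2, A.conj_z]))
    (Subtype.ext (show g * b * g⁻¹ * (g * a * g⁻¹) * (g * b * g⁻¹)⁻¹ = (g * a * g⁻¹)⁻¹ by
      rw [conj_inv, conj_inv, conj_mul, conj_mul, h3]))
    (Subtype.ext ((hcu.map (MulAut.conj g).toMonoidHom).eq))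
    (Subtype.ext ((hcw.map (MulAut.conj g).toMonoidHom).eq))
  exact congrArg Subtype.val (mem_center_iff.1 key ⟨s, hs⟩)

/-- The kernel of the action is a 2-group. -/
theorem ker_pow {c : Q} (hc : c ∈ A.act.ker) : ∃ k, c ^ 2 ^ k = 1 := by
  have comm : ∀ a ∈ A.act.ker, ∀ b ∈ A.act.ker, Odd (orderOf b) → Commute a b := by
    intro a ha b hb hbo
    set c' := a * b * a⁻¹ * b⁻¹ with hc'
    have hL : c' ∈ commutator Q := by
      rw [_root_.commutator_def]; exact commutator_mem_commutator (mem_top a) (mem_top b)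
    have hC : c' ∈ A.act.ker := mul_mem (mul_mem (mul_mem ha hb) (inv_mem ha)) (inv_mem hb)
    have hsq : c' * c' = 1 := by
      have hcen : A.e ⟨c', hL⟩ ∈ center (Matrix.SpecialLinearGroup (Fin 2) F) := mem_center_iff.2 fun s => by
        obtain ⟨x, rfl⟩ := A.e.surjective s
        rw [← map_mul, ← map_mul]
        exact congrArg A.e (Subtype.ext (((A.mem_ker_iff.1 hC) x x.2).eq.symm))
      have h1 := center_sq hcen
      rw [← map_mul, ← map_one A.e] at h1
      exact congrArg Subtype.val (A.e.injective h1)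
    have hcb : ∀ g : Q, Commute g c' := fun g => by
      by_cases h1 : c' = 1
      · rw [h1]; exact Commute.one_right g
      · rw [A.eq_z_of_commutator hL (orderOf_eq_prime (by rwa [sq]) h1)]; exact A.commz g
    have h1 : a * b * a⁻¹ = c' * b := by rw [hc', inv_mul_cancel_right]
    have h2 : c' ^ orderOf b = 1 := by
      have := congrArg (· ^ orderOf b) h1
      simp only [conj_pow, (hcb b).symm.mul_pow, pow_orderOf_eq_one, mul_one, mul_inv_cancel] at this
      exact this.symm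
    obtain ⟨m, hm⟩ := hbo
    rw [hm, pow_succ, pow_mul, sq, hsq, one_pow, one_mul] at h2
    rw [h2, one_mul] at h1
    exact mul_inv_eq_iff_eq_mul.1 h1
  let O : Subgroup Q :=
    { carrier := {x | x ∈ A.act.ker ∧ Odd (orderOf x)}
      one_mem' := ⟨one_mem _, by rw [orderOf_one]; exact odd_one⟩
      mul_mem' := fun {a b} ha hb => ⟨mul_mem ha.1 hb.1,
        (ha.2.mul hb.2).of_dvd_nat (comm a ha.1 b hb.1 hb.2).orderOf_mul_dvd_mul_orderOf⟩
      inv_mem' := fun {a} ha => ⟨inv_mem ha.1, by rw [orderOf_inv]; exact ha.2⟩ }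
  have hO : O = ⊥ := A.core O ⟨fun x hx g => ⟨(MonoidHom.normal_ker _).conj_mem x hx.1 g,
    by rw [Involution.orderOf_conj]; exact hx.2⟩⟩ (by
      rw [Nat.odd_iff, ← Nat.two_dvd_ne_zero]
      intro hd
      haveI : Fact (Nat.Prime 2) := ⟨Nat.prime_two⟩
      obtain ⟨x, hx⟩ := exists_prime_orderOf_dvd_card' (G := O) 2 hd
      have h2' := x.2.2
      rw [Subgroup.orderOf_coe, hx] at h2'
      exact Nat.not_even_iff_odd.2 h2' even_two)
  obtain ⟨k, m, hm, hk⟩ := Nat.exists_eq_two_pow_mul_odd (n := orderOf c) (orderOf_pos c).ne'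
  refine ⟨k, ?_⟩
  have : c ^ 2 ^ k ∈ O := ⟨pow_mem hc _, by
    rw [orderOf_pow, hk, Nat.gcd_eq_right (dvd_mul_right _ _), Nat.mul_div_cancel_left _ (by positivity)]
    exact hm⟩
  rw [hO] at this
  exact mem_bot.1 this

theorem ker_isPGroup : IsPGroup 2 A.act.ker := fun x => by
  obtain ⟨k, hk⟩ := A.ker_pow x.2
  exact ⟨k, Subtype.ext (by simpa using hk)⟩

/-- It lies in the centre of every Sylow 2-subgroup. -/
theorem ker_central {c : Q} (hc : c ∈ A.act.ker) : c ∈ A.S ∧ ∀ s ∈ A.S, Commute s c := by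
  have hmem : ∀ b ∈ A.act.ker, b ∈ A.S := by
    obtain ⟨g, hg⟩ := A.into A.ker_isPGroup
    intro b hb
    have := hg _ ((MonoidHom.normal_ker A.act).conj_mem b hb g⁻¹)
    simpa [mul_assoc] using this
  refine ⟨hmem c hc, fun s hs => ?_⟩
  obtain ⟨u, w, hu, hw, hwu⟩ := exists_quat_sl (F := F) A.h2
  obtain ⟨h1, h2, h3, hP⟩ := A.lift_quat hu hw hwu
  set a := (A.e.symm u : Q) with ha0
  set b := (A.e.symm w : Q) with hb0
  obtain ⟨g, hg⟩ := A.into hP
  have ha := hg a (mem_sup_left (mem_zpowers a))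
  have hb := hg b (mem_sup_right (mem_zpowers b))
  have hcc := A.mem_ker_iff.1 hc
  have key := A.facts.cent ⟨_, ha⟩ ⟨_, hb⟩ ⟨_, hmem c hc⟩
    (Subtype.ext (show g * a * g⁻¹ * (g * a * g⁻¹) = z by rw [conj_mul, h1, A.conj_z]))
    (Subtype.ext (show g * b * g⁻¹ * (g * b * g⁻¹) = z by rw [conj_mul, h2, A.conj_z]))
    (Subtype.ext (show g * b * g⁻¹ * (g * a * g⁻¹) * (g * b * g⁻¹)⁻¹ = (g * a * g⁻¹)⁻¹ by
      rw [conj_inv, conj_inv, conj_mul, conj_mul, h3]))
    (Subtype.ext (hcc _ (Normal.conj_mem inferInstance _ (A.e.symm u).2 g)).eq)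
    (Subtype.ext (hcc _ (Normal.conj_mem inferInstance _ (A.e.symm w).2 g)).eq)
  exact congrArg Subtype.val (mem_center_iff.1 key ⟨s, hs⟩)

theorem ker_comm {x : Q} (hx : IsPGroup 2 (zpowers x)) {c : Q} (hc : c ∈ A.act.ker) : Commute x c := by
  obtain ⟨g, hg⟩ := A.into hx
  have h := (A.ker_central ((MonoidHom.normal_ker A.act).conj_mem c hc g)).2 _ (hg x (mem_zpowers x))
  have h' := h.map (MulAut.conj g⁻¹).toMonoidHom
  simpa [mul_assoc] using h'

theorem z_mem_ker : z ∈ A.act.ker := A.mem_ker_iff.2 fun x _ => (A.commz x).symm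

theorem ker_sq {c : Q} (hc : c ∈ A.act.ker) (h : c * c = 1) : c = 1 ∨ c = z := by
  by_cases h1 : c = 1
  · exact Or.inl h1
  · obtain ⟨hS, hcen⟩ := A.ker_central hc
    exact Or.inr (A.eq_z hS hcen (orderOf_eq_prime (by rwa [sq]) h1))

theorem isPGroup_of_inv {d : Q} (h : orderOf d = 2) : IsPGroup 2 (zpowers d) :=
  IsPGroup.of_card (n := 1) (by rw [Nat.card_zpowers, h, pow_one])

/-- `d` acts by conjugation with the matrix of `x`. -/
def Rep (d : Q) (x : F × F × F) : Prop :=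
  ∀ s : Matrix.SpecialLinearGroup (Fin 2) F,
    ((A.act d s : Matrix.SpecialLinearGroup (Fin 2) F) : Matrix (Fin 2) (Fin 2) F) * Tri.mat x =
      Tri.mat x * (s : Matrix (Fin 2) (Fin 2) F)

theorem Rep.smul {d : Q} {x : F × F × F} (h : A.Rep d x) (r : F) : A.Rep d (r • x) := fun s => by
  rw [coe_smul_mat, mul_smul_comm, h s, smul_mul_assoc]

theorem rep_unique {δ : F} (hδ : δ ≠ 0) {d : Q} {x : Tri F δ} {y : F × F × F} (hx : A.Rep d x.1)
    (hy : A.Rep d y) : ∃ a : F, y = a • x.1 := by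
  set X := Tri.mat x.1
  set Y := Tri.mat y
  have hXX : X * X = (-δ) • 1 := Tri.mat_mul_self x
  have hXt : ∀ s, X * (A.act d s : Matrix (Fin 2) (Fin 2) F) = (s : Matrix (Fin 2) (Fin 2) F) * X := by
    intro s
    refine smul_right_injective _ (neg_ne_zero.2 hδ) ?_
    show (-δ) • (X * _) = (-δ) • _
    rw [← mul_one (X * _), ← mul_smul_comm, ← hXX, ← mul_assoc, mul_assoc X _ X, hx s, ← mul_assoc,
      hXX, smul_mul_assoc, one_mul, smul_mul_assoc]
  have hA := eq_smul_of_commute (A := X * Y) fun s => by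
    rw [mul_assoc, ← hy s, ← mul_assoc, hXt, mul_assoc]
  refine ⟨-((X * Y) 0 0) / δ, ?_⟩
  have h1 : (-δ) • Y = (X * Y) 0 0 • X := by
    rw [← one_mul Y, ← smul_mul_assoc, ← hXX, mul_assoc, hA, mul_smul_comm, mul_one]
    simp
  refine Tri.mat_injective ?_
  rw [coe_smul_mat]
  show Y = _ • X
  have h2 := congrArg (fun B : Matrix (Fin 2) (Fin 2) F => (-δ)⁻¹ • B) h1
  simp only [smul_smul, inv_mul_cancel₀ (neg_ne_zero.2 hδ), one_smul] at h2
  refine h2.trans ?_
  congr 1
  field_simp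

/-- Two involutions with one matrix differ by `z`. -/
theorem rep_eq {δ : F} (hδ : δ ≠ 0) {d d' : Q} {x : Tri F δ} (hd : orderOf d = 2)
    (hd' : orderOf d' = 2) (hx : A.Rep d x.1) (hx' : A.Rep d' x.1) : d' = d ∨ d' = d * z := by
  have hu : IsUnit (Tri.mat x.1) :=
    (Matrix.isUnit_iff_isUnit_det _).2 (Ne.isUnit (by rw [Tri.det_mat]; exact hδ))
  have heq : A.act d = A.act d' := MulEquiv.ext fun s =>
    Subtype.ext (hu.mul_right_cancel ((hx s).trans (hx' s).symm))
  have hk : d⁻¹ * d' ∈ A.act.ker := by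
    rw [MonoidHom.mem_ker, map_mul, map_inv, heq, inv_mul_cancel]
  set c := d⁻¹ * d' with hc
  have hd'c : d' = d * c := by rw [hc, mul_inv_cancel_left]
  have hcd : Commute d c := A.ker_comm (A.isPGroup_of_inv hd) hk
  have hsq : c * c = 1 := by
    have e : d' ^ 2 = 1 := by rw [← hd', pow_orderOf_eq_one]
    rw [hd'c, hcd.mul_pow, show d ^ 2 = 1 by rw [← hd, pow_orderOf_eq_one], one_mul, sq] at e
    exact e
  rcases A.ker_sq hk hsq with h | h <;> rw [h] at hd'c
  · exact Or.inl (by rw [hd'c, mul_one])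
  · exact Or.inr hd'c

/-- A noncentral involution acts by a trace zero matrix. -/
theorem exists_rep {d : Q} (hd : orderOf d = 2) (hdz : d ≠ z) :
    ∃ x : F × F × F, A.Rep d x ∧ (Tri.mat x).det ≠ 0 := by
  obtain ⟨g, σ, hg⟩ := exists_semiSL A.hodd (A.act d)
  have hinv : ∀ s, AutPSL.semiSL g σ (AutPSL.semiSL g σ s) = s := fun s => by
    have e : d * d = 1 := by
      have := pow_orderOf_eq_one d; rwa [hd, sq] at this
    rw [← hg, ← hg, ← MulAut.mul_apply, ← map_mul, e, map_one, MulAut.one_apply]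
  obtain ⟨hσσ, c, hc, hgg⟩ := semiSL_invol hinv
  have hσ : σ = RingEquiv.refl F := by
    by_contra hne
    obtain ⟨u, w, hu, hw, hwu, hfu, hfw⟩ := exists_quat A.h2 hσσ hne hc hgg
    have hcm : ∀ v, AutPSL.semiSL g σ v = v → Commute d (A.e.symm v : Q) := fun v hv => by
      have h1 := A.act_apply d (A.e.symm v)
      rw [A.e.apply_symm_apply, hg, hv] at h1
      have h2 := congrArg A.e.symm h1
      rw [A.e.symm_apply_apply] at h2
      exact mul_inv_eq_iff_eq_mul.1 (congrArg Subtype.val h2).symm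
    obtain ⟨a, haS, hac⟩ := A.exists_conj_central hu hw hwu (A.isPGroup_of_inv hd) (hcm u hfu) (hcm w hfw)
    have := A.eq_z haS hac (by rw [Involution.orderOf_conj, hd])
    refine hdz ?_
    rw [← A.conj_z a] at this
    exact mul_left_cancel (mul_right_cancel this)
  subst hσ
  set G : Matrix (Fin 2) (Fin 2) F := (g : Matrix (Fin 2) (Fin 2) F) with hG
  rw [map_refl] at hgg
  have hrep : ∀ s, (A.act d s : Matrix (Fin 2) (Fin 2) F) * G = G * (s : Matrix (Fin 2) (Fin 2) F) := fun s => by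
    rw [hg, semiSL_mul_coe, map_refl]
  have ht : G.trace = 0 := by
    by_contra ht
    rw [Matrix.trace_fin_two] at ht
    have e00 := congrFun (congrFun hgg 0) 0
    have e01 := congrFun (congrFun hgg 0) 1
    have e10 := congrFun (congrFun hgg 1) 0
    have e11 := congrFun (congrFun hgg 1) 1
    simp [Matrix.mul_apply, Fin.sum_univ_two] at e00 e01 e10 e11
    have h01 : G 0 1 = 0 :=
      (mul_eq_zero.1 (show G 0 1 * (G 0 0 + G 1 1) = 0 by linear_combination e01)).resolve_right ht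
    have h10 : G 1 0 = 0 :=
      (mul_eq_zero.1 (show G 1 0 * (G 0 0 + G 1 1) = 0 by linear_combination e10)).resolve_right ht
    have h00 : G 0 0 = G 1 1 := sub_eq_zero.1
      ((mul_eq_zero.1 (show (G 0 0 - G 1 1) * (G 0 0 + G 1 1) = 0 by linear_combination e00 - e11)).resolve_right ht)
    have hGs : G = G 0 0 • 1 := by
      ext i j
      fin_cases i <;> fin_cases j <;> simp [h01, h10, ← h00]
    have hne : G 0 0 ≠ 0 := fun e => gl_det_ne_zero g (by
      rw [← hG, hGs, e, zero_smul, Matrix.det_zero])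
    have hk : d ∈ A.act.ker := MonoidHom.mem_ker.2 (MulEquiv.ext fun s => by
      have h1 := hrep s
      rw [hGs, mul_smul_comm, mul_one, smul_mul_assoc, one_mul] at h1
      exact Subtype.ext (smul_right_injective _ hne h1))
    rcases A.ker_sq hk (by rw [← sq, ← hd, pow_orderOf_eq_one]) with h | h
    · rw [h, orderOf_one] at hd; omega
    · exact hdz h
  refine ⟨(G 0 0, G 0 1, G 1 0), fun s => ?_, ?_⟩
  · rw [eq_mat_of_trace ht]; exact hrep s
  · rw [eq_mat_of_trace ht]; exact gl_det_ne_zero g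

/-- The matrix of a conjugate. -/
theorem rep_conj {δ : F} (hδ : δ ≠ 0) {d : Q} {x : Tri F δ} (hx : A.Rep d x.1) (q : Q) :
    ∃ y : Tri F δ, A.Rep (q * d * q⁻¹) y.1 := by
  obtain ⟨g, σ, hg⟩ := exists_semiSL A.hodd (A.act q)
  set G : Matrix (Fin 2) (Fin 2) F := (g : Matrix (Fin 2) (Fin 2) F)
  set Gi : Matrix (Fin 2) (Fin 2) F := ((g⁻¹ : GL (Fin 2) F) : Matrix (Fin 2) (Fin 2) F)
  have hgi : Gi * G = 1 := Units.inv_mul g
  set M := G * (Tri.mat x.1).map σ * Gi with hM
  have htr : M.trace = 0 := by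
    rw [hM, Matrix.trace_mul_comm, ← mul_assoc, hgi, one_mul]
    simp [Tri.mat, Matrix.trace_fin_two]
  have hdet : M.det = σ δ := by
    rw [hM, Matrix.det_units_conj, show (Tri.mat x.1).map σ = σ.toRingHom.mapMatrix (Tri.mat x.1) from rfl,
      ← RingHom.map_det, Tri.det_mat]
    rfl
  have hrep : A.Rep (q * d * q⁻¹) (M 0 0, M 0 1, M 1 0) := by
    intro s
    obtain ⟨t, rfl⟩ := (A.act q).surjective s
    rw [eq_mat_of_trace htr, ← MulAut.mul_apply, ← map_mul, inv_mul_cancel_right, map_mul, MulAut.mul_apply,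
      hg, hg, hM, AutPSL.semiSL_coe, AutPSL.semiSL_coe]
    have h1 := congrArg (fun B : Matrix (Fin 2) (Fin 2) F => G * B.map σ * Gi) (hx t)
    simp only [Matrix.map_mul] at h1
    calc G * _ * Gi * (G * _ * Gi) = G * ((A.act d t : Matrix (Fin 2) (Fin 2) F).map σ *
          (Gi * G) * (Tri.mat x.1).map σ) * Gi := by simp only [mul_assoc]
      _ = G * ((Tri.mat x.1).map σ * (t : Matrix (Fin 2) (Fin 2) F).map σ) * Gi := by
        rw [hgi, mul_one]; exact h1
      _ = G * ((Tri.mat x.1).map σ * (Gi * G) * (t : Matrix (Fin 2) (Fin 2) F).map σ) * Gi := by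
        rw [hgi, mul_one]
      _ = _ := by simp only [mul_assoc]; rfl
  obtain ⟨r, hr⟩ := isSquare_mul_map A.hodd σ δ
  have hσδ : σ δ ≠ 0 := (map_ne_zero _).2 hδ
  refine ⟨⟨(r / σ δ) • (M 0 0, M 0 1, M 1 0), ?_⟩, hrep.smul A _⟩
  have hq : -(M 0 0) ^ 2 - M 0 1 * M 1 0 = σ δ := by
    rw [← hdet, Matrix.det_fin_two]
    rw [Matrix.trace_fin_two] at htr
    linear_combination -(M 0 0) * htr
  simp only [Prod.smul_fst, Prod.smul_snd, smul_eq_mul]
  field_simp
  linear_combination (r ^ 2) * hq + σ δ * hr.symm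

/-- The element of the commutator subgroup moving the base. -/
noncomputable def mov {δ : F} (hδ : δ ≠ 0) (x0 x : Tri F δ) : commutator Q :=
  A.e.symm (Classical.choose (Tri.conj A.h2 hδ x0 x))

/-- The involution of a triple. -/
noncomputable def psi {δ : F} (hδ : δ ≠ 0) (d0 : Q) (x0 x : Tri F δ) : Q :=
  (A.mov hδ x0 x : Q) * d0 * (A.mov hδ x0 x : Q)⁻¹

section Base

variable {δ : F} (hδ : δ ≠ 0) {d0 : Q} (hd0 : orderOf d0 = 2) (hd0z : d0 ≠ z) {x0 : Tri F δ}
  (h0 : A.Rep d0 x0.1)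
include hδ hd0 hd0z h0

theorem psi_order (x : Tri F δ) : orderOf (A.psi hδ d0 x0 x) = 2 := by
  rw [psi, Involution.orderOf_conj, hd0]

theorem psi_ne (x : Tri F δ) : A.psi hδ d0 x0 x ≠ z := fun e => hd0z (by
  have e' := e.trans (A.conj_z (A.mov hδ x0 x : Q)).symm
  exact mul_left_cancel (mul_right_cancel e'))

theorem psi_rep (x : Tri F δ) : A.Rep (A.psi hδ d0 x0 x) x.1 := by
  intro a
  set s := Classical.choose (Tri.conj A.h2 hδ x0 x)
  have hs := Classical.choose_spec (Tri.conj A.h2 hδ x0 x)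
  rw [psi, map_mul, map_mul, MulAut.mul_apply, MulAut.mul_apply, ← Subgroup.coe_inv, A.act_inner,
    A.act_inner, mov, map_inv, A.e.apply_symm_apply, inv_inv, Matrix.SpecialLinearGroup.coe_mul,
    Matrix.SpecialLinearGroup.coe_mul]
  set si := ((s⁻¹ : Matrix.SpecialLinearGroup (Fin 2) F) : Matrix (Fin 2) (Fin 2) F)
  have hsi : (s : Matrix (Fin 2) (Fin 2) F) * si = 1 := by
    rw [← Matrix.SpecialLinearGroup.coe_mul, mul_inv_cancel, Matrix.SpecialLinearGroup.coe_one]
  have hsi' : si * (s : Matrix (Fin 2) (Fin 2) F) = 1 := by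
    rw [← Matrix.SpecialLinearGroup.coe_mul, inv_mul_cancel, Matrix.SpecialLinearGroup.coe_one]
  have h3 : si * Tri.mat x.1 = Tri.mat x0.1 * si := by
    rw [← mul_one (si * Tri.mat x.1), ← hsi, ← mul_assoc, mul_assoc si, ← hs, ← mul_assoc, hsi', one_mul]
  rw [mul_assoc, h3, ← mul_assoc, mul_assoc (s : Matrix (Fin 2) (Fin 2) F), h0,
    Matrix.SpecialLinearGroup.coe_mul, Matrix.SpecialLinearGroup.coe_mul]
  simp only [← mul_assoc]
  rw [hs]
  simp only [mul_assoc]
  rw [hsi, mul_one, ← mul_assoc (s : Matrix (Fin 2) (Fin 2) F) si, hsi, one_mul]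

theorem psi_neg (x : Tri F δ) : A.psi hδ d0 x0 (-x) = A.psi hδ d0 x0 x * z := by
  set s := Classical.choose (Tri.conj A.h2 hδ x0 x)
  set s' := Classical.choose (Tri.conj A.h2 hδ x0 (-x))
  have hs := Classical.choose_spec (Tri.conj A.h2 hδ x0 x)
  have hs' := Classical.choose_spec (Tri.conj A.h2 hδ x0 (-x))
  set k := s⁻¹ * s' with hk
  have hkx : (k : Matrix (Fin 2) (Fin 2) F) * Tri.mat x0.1 =
      -(Tri.mat x0.1 * (k : Matrix (Fin 2) (Fin 2) F)) := by
    have h3 : ((s⁻¹ : Matrix.SpecialLinearGroup (Fin 2) F) : Matrix (Fin 2) (Fin 2) F) * Tri.mat x.1 =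
        Tri.mat x0.1 * ((s⁻¹ : Matrix.SpecialLinearGroup (Fin 2) F) : Matrix (Fin 2) (Fin 2) F) := by
      have e : (s : Matrix (Fin 2) (Fin 2) F) *
          ((s⁻¹ : Matrix.SpecialLinearGroup (Fin 2) F) : Matrix (Fin 2) (Fin 2) F) = 1 := by
        rw [← Matrix.SpecialLinearGroup.coe_mul, mul_inv_cancel, Matrix.SpecialLinearGroup.coe_one]
      rw [← mul_one (_ * Tri.mat x.1), ← e, ← mul_assoc, mul_assoc _ (Tri.mat x.1), ← hs, ← mul_assoc,
        ← Matrix.SpecialLinearGroup.coe_mul, inv_mul_cancel, Matrix.SpecialLinearGroup.coe_one, one_mul]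
    have e : Tri.mat (-x).1 * (s' : Matrix (Fin 2) (Fin 2) F) = -(Tri.mat x.1 * s') := by
      rw [← neg_mul, ← mat_neg]; rfl
    rw [hk, Matrix.SpecialLinearGroup.coe_mul, mul_assoc, hs', e, mul_neg, ← mul_assoc, h3, mul_assoc]
  have hzL : z ∈ commutator Q := by
    obtain ⟨u, w, hu, hw, hwu⟩ := exists_quat_sl (F := F) A.h2
    rw [← (A.lift_quat hu hw hwu).1, ← Subgroup.coe_mul]
    exact Subtype.coe_prop _
  have hez : (A.e ⟨z, hzL⟩ : Matrix (Fin 2) (Fin 2) F) = -1 :=
    sl_invol A.h2 ((orderOf_injective A.e.toMonoidHom A.e.injective _).trans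
      (by rw [Subgroup.orderOf_mk]; exact A.z2))
  have hact : A.act d0 k = A.e ⟨z, hzL⟩ * k := by
    refine Subtype.ext ((Matrix.isUnit_iff_isUnit_det _).2
      (Ne.isUnit (by rw [Tri.det_mat]; exact hδ : (Tri.mat x0.1).det ≠ 0)) |>.mul_right_cancel ?_)
    rw [h0, show ((A.e ⟨z, hzL⟩ * k : Matrix.SpecialLinearGroup (Fin 2) F) : Matrix (Fin 2) (Fin 2) F) =
      -(k : Matrix (Fin 2) (Fin 2) F) by rw [Matrix.SpecialLinearGroup.coe_mul, hez, neg_one_mul],
      neg_mul, hkx, neg_neg]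
  have hkk : d0 * (A.e.symm k : Q) * d0⁻¹ = z * (A.e.symm k : Q) := by
    have h1 := A.act_apply d0 (A.e.symm k)
    rw [A.e.apply_symm_apply, hact] at h1
    have h1' : A.e (⟨z, hzL⟩ * A.e.symm k) = A.e ⟨d0 * (A.e.symm k : Q) * d0⁻¹,
        Normal.conj_mem inferInstance _ (A.e.symm k).2 d0⟩ := by
      rw [map_mul, A.e.apply_symm_apply]; exact h1
    exact (congrArg Subtype.val (A.e.injective h1')).symm
  have hkd : (A.e.symm k : Q) * d0 * (A.e.symm k : Q)⁻¹ = d0 * z := by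
    rw [mul_inv_eq_iff_eq_mul] at hkk ⊢
    rw [(A.commz d0).eq, mul_assoc, hkk, ← mul_assoc, ← mul_assoc, A.zz, one_mul]
  have hm : (A.mov hδ x0 (-x) : Q) = (A.mov hδ x0 x : Q) * (A.e.symm k : Q) := by
    rw [mov, mov, ← Subgroup.coe_mul, ← map_mul, hk, mul_inv_cancel_left]
  rw [psi, psi, hm, _root_.mul_inv_rev]
  calc _ = (A.mov hδ x0 x : Q) * ((A.e.symm k : Q) * d0 * (A.e.symm k : Q)⁻¹) *
        (A.mov hδ x0 x : Q)⁻¹ := by simp only [mul_assoc]
    _ = _ := by rw [hkd, ← conj_mul, A.conj_z]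

theorem psi_injective : Function.Injective (A.psi hδ d0 x0) := by
  intro x y e
  obtain ⟨a, ha⟩ := A.rep_unique hδ (A.psi_rep hδ hd0 hd0z h0 x) (e ▸ A.psi_rep hδ hd0 hd0z h0 y)
  have hy := y.2
  rw [ha] at hy
  simp only [Prod.smul_fst, Prod.smul_snd, smul_eq_mul] at hy
  have hx := x.2
  have h1 : (a - 1) * (a + 1) * δ = 0 := by linear_combination hy - a ^ 2 * hx
  rcases mul_eq_zero.1 ((mul_eq_zero.1 h1).resolve_right hδ) with h | h
  · exact Subtype.ext (by rw [ha, sub_eq_zero.1 h, one_smul])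
  · exfalso
    have : y = -x := Subtype.ext (by rw [ha, eq_neg_of_add_eq_zero_left h, neg_one_smul]; rfl)
    rw [this, A.psi_neg hδ hd0 hd0z h0] at e
    have hz1 : z = 1 := mul_left_cancel (a := A.psi hδ d0 x0 x) (by rw [← e, mul_one])
    have := A.z2
    rw [hz1, orderOf_one] at this; omega

theorem psi_surjective {d : Q} (hd : orderOf d = 2) (hconj : ∃ q, q * d0 * q⁻¹ = d) :
    ∃ x, A.psi hδ d0 x0 x = d := by
  obtain ⟨q, rfl⟩ := hconj
  obtain ⟨y, hy⟩ := A.rep_conj hδ h0 q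
  rcases A.rep_eq hδ (A.psi_order hδ hd0 hd0z h0 y) hd (A.psi_rep hδ hd0 hd0z h0 y) hy with h | h
  · exact ⟨y, h.symm⟩
  · exact ⟨-y, by rw [A.psi_neg hδ hd0 hd0z h0, h]⟩

/-- Orthogonal triples give involutions moving each other. -/
theorem psi_orth {x y : Tri F δ} (hxy : Tri.bil x.1 y.1 = 0) :
    A.psi hδ d0 x0 y * A.psi hδ d0 x0 x * (A.psi hδ d0 x0 y)⁻¹ =
      A.psi hδ d0 x0 x * z := by
  set a := A.psi hδ d0 x0 x
  set b := A.psi hδ d0 x0 y
  have ha : A.Rep a x.1 := A.psi_rep hδ hd0 hd0z h0 x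
  have hb : A.Rep b y.1 := A.psi_rep hδ hd0 hd0z h0 y
  have hbb : b * b = 1 := by rw [← sq, ← A.psi_order hδ hd0 hd0z h0 y, pow_orderOf_eq_one]
  have hb' : ∀ s, Tri.mat y.1 * (A.act b s : Matrix (Fin 2) (Fin 2) F) =
      (s : Matrix (Fin 2) (Fin 2) F) * Tri.mat y.1 := fun s => by
    have := hb (A.act b s)
    rw [← MulAut.mul_apply, ← map_mul, hbb, map_one, MulAut.one_apply] at this
    exact this.symm
  have hrep : A.Rep (b * a * b⁻¹) x.1 := by
    intro s
    rw [inv_eq_of_mul_eq_one_right hbb, map_mul, map_mul, MulAut.mul_apply, MulAut.mul_apply]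
    have hX : (Tri.mat x.1) * Tri.mat y.1 = -(Tri.mat y.1 * Tri.mat x.1) := (Tri.anticommute_iff _ _).2 hxy
    refine (Matrix.isUnit_iff_isUnit_det _).2
      (Ne.isUnit (by rw [Tri.det_mat]; exact hδ : (Tri.mat y.1).det ≠ 0)) |>.mul_right_cancel ?_
    rw [mul_assoc, hX, mul_neg, ← mul_assoc, hb, mul_assoc (Tri.mat y.1), ha, ← mul_assoc,
      ← neg_mul, ← hX, mul_assoc, hb' s, ← mul_assoc]
  rcases A.rep_eq hδ (A.psi_order hδ hd0 hd0z h0 x)
    (by rw [Involution.orderOf_conj]; exact A.psi_order hδ hd0 hd0z h0 x) ha hrep with h | h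
  · exfalso
    have hab : Commute b a := mul_inv_eq_iff_eq_mul.1 h
    haveI : Fact (Nat.Prime 2) := ⟨Nat.prime_two⟩
    obtain ⟨g, hg⟩ := A.into ((A.isPGroup_of_inv (A.psi_order hδ hd0 hd0z h0 x)).to_sup_of_normal_left'
      (A.isPGroup_of_inv (A.psi_order hδ hd0 hd0z h0 y)) (zpowers_le.2 (centralizer_le_normalizer _ (by
        rw [mem_centralizer_iff]
        intro c hc
        obtain ⟨i, rfl⟩ := mem_zpowers_iff.1 hc
        exact (hab.symm.zpow_left i).eq))))
    have haS := hg a (mem_sup_left (mem_zpowers a))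
    have hbS := hg b (mem_sup_right (mem_zpowers b))
    have hne' : ∀ w : Tri F δ, g * A.psi hδ d0 x0 w * g⁻¹ ≠ z := fun w e =>
      A.psi_ne hδ hd0 hd0z h0 w (mul_left_cancel (mul_right_cancel (e.trans (A.conj_z g).symm)))
    have hab' : Commute (g * b * g⁻¹) (g * a * g⁻¹) := hab.map (MulAut.conj g).toMonoidHom
    have hnc : ∀ w : Tri F δ, ∀ h : g * A.psi hδ d0 x0 w * g⁻¹ ∈ A.S,
        (⟨_, h⟩ : (A.S : Subgroup Q)) ∉ center (A.S : Subgroup Q) := fun w h hc =>
      hne' w (congrArg Subtype.val (A.facts.uniq _ hc (by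
        rw [Subgroup.orderOf_mk, Involution.orderOf_conj]; exact A.psi_order hδ hd0 hd0z h0 w)))
    rcases A.facts.cab ⟨_, haS⟩ ⟨_, hbS⟩
      (by rw [Subgroup.orderOf_mk, Involution.orderOf_conj]; exact A.psi_order hδ hd0 hd0z h0 x)
      (fun e => hne' x (congrArg Subtype.val e)) (Subtype.ext hab'.eq)
      (mem_center_iff.2 fun s => Subtype.ext (by
        show (s : Q) * (g * b * g⁻¹ * (g * b * g⁻¹)) = g * b * g⁻¹ * (g * b * g⁻¹) * (s : Q)
        rw [conj_mul, hbb, mul_one, mul_inv_cancel, mul_one, one_mul])) with hcen | hcen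
    · exact hnc y hbS hcen
    · have hba : (b * a) * (b * a) = 1 := by
        have haa := pow_orderOf_eq_one a
        rw [A.psi_order hδ hd0 hd0z h0 x, sq] at haa
        calc b * a * (b * a) = b * b * (a * a) := by
              rw [mul_assoc b a, ← mul_assoc a b, ← hab.eq, mul_assoc b a a, ← mul_assoc b b]
          _ = 1 := by rw [hbb, haa, one_mul]
      have hor : b * a = 1 ∨ b * a = z := by
        by_cases h1 : b * a = 1
        · exact Or.inl h1
        · have e := congrArg Subtype.val (A.facts.uniq _ hcen (by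
            rw [← Subgroup.orderOf_coe]
            show orderOf (g * b * g⁻¹ * (g * a * g⁻¹)) = 2
            rw [conj_mul, Involution.orderOf_conj]
            exact orderOf_eq_prime (by rw [sq]; exact hba) h1))
          have e' : g * b * g⁻¹ * (g * a * g⁻¹) = g * z * g⁻¹ := e.trans (A.conj_z g).symm
          rw [conj_mul] at e'
          exact Or.inr (mul_left_cancel (mul_right_cancel e'))
      have hya : y = x ∨ y = -x := by
        have hb' : b = b * b * b := by rw [hbb, one_mul]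
        rcases hor with h1 | h1
        · left
          refine A.psi_injective hδ hd0 hd0z h0 ?_
          show b = a
          rw [← one_mul a, ← hbb, mul_assoc, h1, mul_one]
        · right
          refine A.psi_injective hδ hd0 hd0z h0 ?_
          rw [A.psi_neg hδ hd0 hd0z h0]
          show b = a * z
          rw [← one_mul a, ← hbb, mul_assoc b b, h1, mul_assoc, A.zz, mul_one]
      obtain ⟨⟨p, q, r⟩, hx⟩ := x
      rcases hya with rfl | rfl
      · simp only [Tri.bil] at hxy hx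
        exact hδ ((mul_eq_zero.1 (show (2 : F) * δ = 0 by linear_combination -hxy - 2 * hx)).resolve_left A.h2)
      · simp only [Tri.bil, Tri.coe_neg, Prod.fst_neg, Prod.snd_neg] at hxy hx
        exact hδ ((mul_eq_zero.1 (show (2 : F) * δ = 0 by linear_combination hxy - 2 * hx)).resolve_left A.h2)
  · exact h

end Base

end Amb

end Cfsg.Agent.CoreKilling.RankTwo
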