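import Cfsg.Agent.Lib.CoreKilling.RankTwo.Local
import Cfsg.Agent.Lib.Coprime.Invariant

/-!
# Invariant Sylow subgroups under a 2-group (owner: helper44)

* `exists_inv_sylow` : an odd subgroup has a Sylow subgroup invariant under a normalising 2-group
* `exists_fix_mul` : an element centralising the 2-group is corrected into the normaliser of it
-/

set_option autoImplicit false
set_option linter.unusedSectionVars false
set_option linter.style.haveILetI false

namespace Cfsg.Agent.CoreKilling.RankTwo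

open Subgroup
open scoped Pointwise

universe u

variable {G : Type u} [Group G] [Finite G]

theorem coprime_two_group {A D : Subgroup G} (hA : IsPGroup 2 A) (hD : ¬ 2 ∣ Nat.card D) :
    (Nat.card A).Coprime (Nat.card D) := by
  haveI : Fact (Nat.Prime 2) := ⟨Nat.prime_two⟩
  obtain ⟨n, hn⟩ := IsPGroup.iff_card.1 hA
  rw [hn]
  exact ((Nat.prime_two.coprime_iff_not_dvd).2 hD).pow_left n

theorem solvable_of_odd {D : Subgroup G} (hD : ¬ 2 ∣ Nat.card D) : Group.IsSolvable D :=
  OddOrderTheorem.solvable (Nat.odd_iff.2 (Nat.two_dvd_ne_zero.1 hD))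

/-- An invariant Sylow subgroup. -/
theorem exists_inv_sylow {A D : Subgroup G} (hA : IsPGroup 2 A) (hD : ¬ 2 ∣ Nat.card D)
    (hAD : A ≤ normalizer (D : Set G)) (p : ℕ) [Fact p.Prime] :
    ∃ P : Sylow p D, A ≤ normalizer ((P : Subgroup D).map D.subtype : Set G) :=
  Coprime.exists_invariant_sylow hAD (coprime_two_group hA hD) (Or.inr (solvable_of_odd hD)) p

/-- An invariant Sylow subgroup over an invariant subgroup. -/
theorem exists_inv_sylow_ge {A D U : Subgroup G} (hA : IsPGroup 2 A) (hD : ¬ 2 ∣ Nat.card D)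
    (hAD : A ≤ normalizer (D : Set G)) {p : ℕ} [Fact p.Prime] (hUD : U ≤ D) (hU : IsPGroup p U)
    (hUA : A ≤ normalizer (U : Set G)) :
    ∃ P : Sylow p D, U ≤ (P : Subgroup D).map D.subtype ∧
      A ≤ normalizer ((P : Subgroup D).map D.subtype : Set G) :=
  Coprime.exists_invariant_sylow_ge hAD (coprime_two_group hA hD) (Or.inr (solvable_of_odd hD)) hUD hU hUA

/-- Invariant Sylow subgroups are conjugate by fixed points. -/
theorem exists_fix_conj {A D : Subgroup G} (hA : IsPGroup 2 A) (hD : ¬ 2 ∣ Nat.card D)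
    (hAD : A ≤ normalizer (D : Set G)) {p : ℕ} [Fact p.Prime] (P P' : Sylow p D)
    (hP : A ≤ normalizer ((P : Subgroup D).map D.subtype : Set G))
    (hP' : A ≤ normalizer ((P' : Subgroup D).map D.subtype : Set G)) :
    ∃ c ∈ D ⊓ centralizer (A : Set G), ∀ x,
      x ∈ (P' : Subgroup D).map D.subtype ↔ c⁻¹ * x * c ∈ (P : Subgroup D).map D.subtype := by
  obtain ⟨c, hc, hcP⟩ :=
    Coprime.invariant_sylow_conj hAD (coprime_two_group hA hD) (Or.inr (solvable_of_odd hD)) P P' hP hP'
  refine ⟨c, ⟨c.2, hc⟩, fun x => ?_⟩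
  rw [← hcP, Coprime.map_subtype_smul, mem_pointwise_smul_iff_inv_smul_mem, ← map_inv, MulAut.smul_def,
    MulAut.conj_apply, inv_inv]

/-- An element centralising `A` and normalising `D` is corrected into the normaliser of `P`. -/
theorem exists_fix_mul {A D : Subgroup G} (hA : IsPGroup 2 A) (hD : ¬ 2 ∣ Nat.card D)
    (hAD : A ≤ normalizer (D : Set G)) {p : ℕ} [Fact p.Prime] (P : Sylow p D)
    (hP : A ≤ normalizer ((P : Subgroup D).map D.subtype : Set G)) {g : G}
    (hgA : g ∈ centralizer (A : Set G)) (hgD : g ∈ normalizer (D : Set G)) :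
    ∃ c ∈ D ⊓ centralizer (A : Set G), c * g ∈ normalizer ((P : Subgroup D).map D.subtype : Set G) := by
  obtain ⟨P', hP'⟩ := Coprime.exists_sylow_conj_eq hgD P
  have hmem : ∀ x, x ∈ (P' : Subgroup D).map D.subtype ↔ g⁻¹ * x * g ∈ (P : Subgroup D).map D.subtype := by
    intro x
    rw [hP', mem_pointwise_smul_iff_inv_smul_mem, ← map_inv, MulAut.smul_def, MulAut.conj_apply, inv_inv]
  have hA' : A ≤ normalizer ((P' : Subgroup D).map D.subtype : Set G) := by
    intro a ha
    refine mem_normalizer_iff.2 fun x => ?_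
    rw [hmem, hmem]
    have h : Commute a g := mem_centralizer_iff.1 hgA a ha
    rw [mem_normalizer_iff.1 (hP ha) (g⁻¹ * x * g),
      show a * (g⁻¹ * x * g) * a⁻¹ = (a * g⁻¹) * x * (g * a⁻¹) by group,
      show g⁻¹ * (a * x * a⁻¹) * g = (g⁻¹ * a) * x * (a⁻¹ * g) by group,
      h.inv_right.eq, h.inv_left.eq]
  obtain ⟨c, hc, hcP⟩ := exists_fix_conj hA hD hAD P P' hP hA'
  refine ⟨c⁻¹, inv_mem hc, mem_normalizer_iff.2 fun x => ?_⟩
  rw [show c⁻¹ * g * x * (c⁻¹ * g)⁻¹ = c⁻¹ * (g * x * g⁻¹) * c by group, ← hcP, hmem,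
    show g⁻¹ * (g * x * g⁻¹) * g = x by group]

theorem le_centralizer_zpowers {a g : G} (h : g ∈ centralizer ({a} : Set G)) :
    g ∈ centralizer (zpowers a : Set G) := mem_centralizer_iff.2 fun b hb => by
  obtain ⟨i, rfl⟩ := mem_zpowers_iff.1 hb
  exact (Commute.zpow_right (show Commute g a from mem_centralizer_singleton_iff.1 h) i).symm.eq

theorem mem_centralizer_pair {a b g : G} (ha : g ∈ centralizer ({a} : Set G))
    (hb : g ∈ centralizer ({b} : Set G)) : g ∈ centralizer ((zpowers a ⊔ zpowers b : Subgroup G) : Set G) := by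
  have h : zpowers a ⊔ zpowers b ≤ centralizer ({g} : Set G) :=
    sup_le (zpowers_le.2 (mem_centralizer_singleton_iff.2 (mem_centralizer_singleton_iff.1 ha).symm))
      (zpowers_le.2 (mem_centralizer_singleton_iff.2 (mem_centralizer_singleton_iff.1 hb).symm))
  exact mem_centralizer_iff.2 fun x hx => mem_centralizer_singleton_iff.1 (h hx)

end Cfsg.Agent.CoreKilling.RankTwo
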