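import Cfsg.Agent.Lib.CoreKilling.RankTwo.End
import Cfsg.Agent.Lib.CoreKilling.RankTwo.InvSylow
import Cfsg.Agent.Lib.Bender.InvolutionZJ

/-!
# Core killing in 2-rank two: the ascent to a Sylow subgroup of `W` (owner: helper44)

* `Asc` : the invariant carried up
* `Asc.base`, `Asc.step`, `Asc.top` : it starts, it grows, it cannot reach a Sylow subgroup of `W`
* `Ctx.false_of_bad` : there is no bad central involution
-/

set_option autoImplicit false
set_option linter.unusedSectionVars false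
set_option linter.style.haveILetI false

namespace Cfsg.Agent.CoreKilling.RankTwo

open Subgroup
open scoped Pointwise

universe u

variable {G : Type u} [Group G] [Finite G]

theorem factorization_card_le {A B : Subgroup G} (h : Nat.card A ∣ Nat.card B) (p : ℕ) :
    (Nat.card A).factorization p ≤ (Nat.card B).factorization p :=
  (Nat.factorization_le_iff_dvd Nat.card_pos.ne' Nat.card_pos.ne').2 h p

theorem card_sylow_map {p : ℕ} [Fact p.Prime] {D : Subgroup G} (P : Sylow p D) :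
    Nat.card ((P : Subgroup D).map D.subtype) = p ^ (Nat.card D).factorization p := by
  rw [Cores.card_map_subtype, P.card_eq_multiplicity]

theorem factorization_sylow_map {p : ℕ} [hp : Fact p.Prime] {D : Subgroup G} (P : Sylow p D) :
    (Nat.card ((P : Subgroup D).map D.subtype)).factorization p = (Nat.card D).factorization p := by
  rw [card_sylow_map, hp.out.factorization_pow, Finsupp.single_eq_same]

/-- A `p`-subgroup of `D` is no bigger than its Sylow subgroups. -/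
theorem card_le_of_pgroup {p : ℕ} [hp : Fact p.Prime] {D V : Subgroup G} (hV : IsPGroup p V) (hVD : V ≤ D) :
    Nat.card V ≤ p ^ (Nat.card D).factorization p := by
  obtain ⟨n, hn⟩ := IsPGroup.iff_card.1 hV
  rw [hn]
  exact Nat.pow_le_pow_right hp.out.pos
    ((hp.out.pow_dvd_iff_le_factorization Nat.card_pos.ne').1 (hn ▸ card_dvd_of_le hVD))

/-- A `p`-subgroup below a bigger one of an ambient group grows inside its normaliser. -/
theorem exists_grow {p : ℕ} [hp : Fact p.Prime] {O Q : Subgroup G} (hQ : IsPGroup p Q) (hQO : Q ≤ O)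
    (hlt : (Nat.card Q).factorization p < (Nat.card O).factorization p) :
    ∃ V : Subgroup G, IsPGroup p V ∧ V ≤ O ∧ V ≤ normalizer (Q : Set G) ∧ Nat.card Q < Nat.card V := by
  obtain ⟨P, hP⟩ := ((hQ.comap_subtype : IsPGroup p (Q.subgroupOf O))).exists_le_sylow
  set T := (P : Subgroup O).map O.subtype with hT
  have hTp : IsPGroup p T := P.isPGroup'.map _
  have hQT : Q ≤ T := fun x hx => ⟨⟨x, hQO hx⟩, hP hx, rfl⟩
  have hne : ¬ T ≤ Q := fun h => by
    have := factorization_card_le (card_dvd_of_le h) p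
    rw [factorization_sylow_map] at this
    omega
  haveI : Group.IsNilpotent T := hTp.isNilpotent
  have hlt' : Q.subgroupOf T < ⊤ := lt_top_iff_ne_top.2 fun e => hne (subgroupOf_eq_top.1 e)
  obtain ⟨y, hy, hyQ⟩ := SetLike.exists_of_lt (Group.normalizerCondition_of_isNilpotent _ hlt')
  have hyN : (y : G) ∈ normalizer (Q : Set G) :=
    Signalizer.mem_normalizer_of_conj_mem fun r hr =>
      (mem_normalizer_iff.1 hy (⟨r, hQT hr⟩ : T)).1 hr
  refine ⟨T ⊓ normalizer (Q : Set G), hTp.to_le inf_le_left, inf_le_left.trans (map_subtype_le _),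
    inf_le_right, ?_⟩
  refine lt_of_not_ge fun hge => hyQ ?_
  have he := eq_of_le_of_card_ge (le_inf hQT le_normalizer) hge
  exact (he.ge ⟨y.2, hyN⟩ : (y : G) ∈ Q)

variable {S : Sylow 2 G} {W : Subgroup G} {z : G}

local notation "𝐌" => normalizer (W : Set G)
local notation "𝐂" => centralizer (Singleton.singleton z : Set G)
local notation "𝐑" => Cfsg.centralizerPPrimeCore 2 z

/-- The invariant of the ascent. -/
structure Asc (S : Sylow 2 G) (W : Subgroup G) (z : G) (p : ℕ) (Q : Subgroup G) : Prop where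
  pgroup : IsPGroup p Q
  le : Q ≤ W
  big : (Nat.card (yc W z)).factorization p < (Nat.card Q).factorization p
  norm : (S : Subgroup G) ≤ normalizer (Q : Set G)
  supz : ∀ g ∈ normalizer (W : Set G) ⊓ centralizer ({z} : Set G),
    ∃ r ∈ Cfsg.centralizerPPrimeCore 2 z, r * g ∈ normalizer (Q : Set G)
  sup : ∀ v ∈ S, orderOf v = 2 → v ≠ z → SupN z v Q
  out : ∃ v x, v ∈ S ∧ orderOf v = 2 ∧ v ≠ z ∧ x ∈ centralizer ({v} : Set G) ⊓ normalizer (Q : Set G) ∧
    x ∉ normalizer (W : Set G)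

namespace Ctx

variable (C : Ctx S W z) {p : ℕ} (B : Bad S W z p)
include C B

omit B in
/-- An odd `S`-invariant subgroup outside `N(W)` meets some `C(v)` outside. -/
theorem exists_out {X : Subgroup G} (hX : ¬ 2 ∣ Nat.card X)
    (hn : (S : Subgroup G) ≤ normalizer (X : Set G)) (hXz : X ⊓ 𝐂 ≤ 𝐌) (hne : ¬ X ≤ 𝐌) :
    ∃ v x, v ∈ S ∧ orderOf v = 2 ∧ v ≠ z ∧ x ∈ centralizer ({v} : Set G) ∧ x ∈ X ∧ x ∉ 𝐌 := by
  obtain ⟨w, hw, hwz⟩ := C.facts.ex
  have hw2 : orderOf (w : G) = 2 := by rw [Subgroup.orderOf_coe]; exact hw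
  have hwz' : (w : G) ≠ z := fun e => hwz (Subtype.ext e)
  obtain ⟨h1, h2, h3⟩ := C.v_mul w.2 hw2 hwz'
  by_contra hcon
  push Not at hcon
  exact hne (gen4 C.z2 hw2 hwz' (C.zc w w.2).symm hX (hn C.hzS) (hn w.2) hXz
    (fun x hx => hcon w x w.2 hw2 hwz' hx.2 hx.1) (fun x hx => hcon _ x h1 h2 h3 hx.2 hx.1))

/-- From a normalised odd subgroup of `W` to the invariant at an invariant Sylow subgroup. -/
theorem asc_of_sylow [Fact p.Prime] {D : Subgroup G} (hDW : D ≤ W)
    (hSD : (S : Subgroup G) ≤ normalizer (D : Set G))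
    (hz : ∀ g ∈ 𝐌 ⊓ 𝐂, ∃ r ∈ 𝐑, r * g ∈ normalizer (D : Set G))
    (hv : ∀ v ∈ S, orderOf v = 2 → v ≠ z → SupN z v D)
    (P : Sylow p D) (hP : (S : Subgroup G) ≤ normalizer ((P : Subgroup D).map D.subtype : Set G))
    (hbig : (Nat.card (yc W z)).factorization p < (Nat.card D).factorization p)
    (hout : ∃ v x, v ∈ S ∧ orderOf v = 2 ∧ v ≠ z ∧ x ∈ centralizer ({v} : Set G) ∧
      x ∈ normalizer ((P : Subgroup D).map D.subtype : Set G) ∧ x ∉ 𝐌) :
    Asc S W z p ((P : Subgroup D).map D.subtype) where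
  pgroup := P.isPGroup'.map _
  le := (map_subtype_le _).trans hDW
  big := by rwa [factorization_sylow_map]
  norm := hP
  supz := by
    haveI : Fact (Nat.Prime 2) := ⟨Nat.prime_two⟩
    intro g hg
    obtain ⟨r, hr, hrg⟩ := hz g hg
    have hzA : zpowers z ≤ (S : Subgroup G) := zpowers_le.2 C.hzS
    obtain ⟨c, hc, hcg⟩ := exists_fix_mul (S.isPGroup'.to_le hzA) (not_dvd_of_le hDW C.set.odd)
      (hzA.trans hSD) P (hzA.trans hP)
      (le_centralizer_zpowers ((𝐂).mul_mem (C.R_le_C hr) hg.2)) hrg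
    have hcR : c ∈ 𝐑 := C.W_inf_C.le ⟨hDW hc.1,
      mem_centralizer_singleton_iff.2 (mem_centralizer_iff.1 hc.2 z (mem_zpowers z)).symm⟩
    exact ⟨c * r, mul_mem hcR hr, by rw [mul_assoc]; exact hcg⟩
  sup := by
    haveI : Fact (Nat.Prime 2) := ⟨Nat.prime_two⟩
    intro v hvS hv2 hvz g hg
    obtain ⟨j, hj, hjv, hjg⟩ := hv v hvS hv2 hvz g hg
    have hA : zpowers z ⊔ zpowers v ≤ (S : Subgroup G) :=
      sup_le (zpowers_le.2 C.hzS) (zpowers_le.2 hvS)
    obtain ⟨c, hc, hcg⟩ := exists_fix_mul (S.isPGroup'.to_le hA) (not_dvd_of_le hDW C.set.odd)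
      (hA.trans hSD) P (hA.trans hP)
      (mem_centralizer_pair ((𝐂).mul_mem (C.R_le_C hj) hg.1)
        ((centralizer ({v} : Set G)).mul_mem (mem_centralizer_singleton_iff.2 hjv.eq) hg.2)) hjg
    have hcz : Commute z c := mem_centralizer_iff.1 hc.2 z (mem_sup_left (mem_zpowers z))
    have hcv : Commute v c := mem_centralizer_iff.1 hc.2 v (mem_sup_right (mem_zpowers v))
    have hcR : c ∈ 𝐑 := C.W_inf_C.le ⟨hDW hc.1, mem_centralizer_singleton_iff.2 hcz.symm.eq⟩
    exact ⟨c * j, mul_mem hcR hj, hcv.symm.mul_left hjv, by rw [mul_assoc]; exact hcg⟩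
  out := by
    obtain ⟨v, x, h1, h2, h3, h4, h5, h6⟩ := hout
    exact ⟨v, x, h1, h2, h3, ⟨h4, h5⟩, h6⟩

/-- The start. -/
theorem asc_base : ∃ Q, Asc S W z p Q := by
  haveI : Fact p.Prime := ⟨B.prime⟩
  obtain ⟨U, hU, hodd, hCU, hne, hbig⟩ := C.exists_local B
  set K := normalizer (U : Set G)
  have L : LocSub S W z K := C.locSub B hU hodd hCU
  rw [L.inter_eq C B] at hne hbig
  set O := oc K with hO
  set D := O ⊓ 𝐌 with hD
  have hDW : D ≤ W := L.D_le_W C B
  have hOM : ¬ O ≤ 𝐌 := fun h => hne (inf_le_left.trans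
    (C.le_yc_of_le_M B (oc_odd K) h (hCU.trans (le_normalizer_oc K))))
  have hn : K ⊓ 𝐌 ≤ normalizer (D : Set G) := Signalizer.le_normalizer_inf
    (inf_le_left.trans (le_normalizer_oc K)) (inf_le_right.trans le_normalizer)
  have hSD : (S : Subgroup G) ≤ normalizer (D : Set G) := (le_inf L.le C.set.norm).trans hn
  obtain ⟨P, hP⟩ := exists_inv_sylow S.isPGroup' (not_dvd_of_le hDW C.set.odd) hSD p
  refine ⟨_, C.asc_of_sylow B hDW hSD (fun g hg => ⟨1, one_mem _, by
    rw [one_mul]; exact hn ⟨hCU hg.2, hg.1⟩⟩) (fun v hvS hv hvz => SupN.of_le fun g hg =>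
      hn ⟨hCU hg.1, C.centE_le hvS hv hvz hg⟩) P hP hbig ?_⟩
  have hX : ¬ O ⊓ normalizer ((P : Subgroup D).map D.subtype : Set G) ≤ 𝐌 := by
    intro h
    refine hOM fun x hx => ?_
    obtain ⟨d, hd, hdx⟩ := exists_frattini P ((L.D_normal C B hCU).1 hx)
    have h1 := (𝐌).mul_mem hd.2 (h ⟨O.mul_mem (O.inv_mem hd.1) hx, hdx⟩)
    rwa [mul_inv_cancel_left] at h1
  obtain ⟨v, x, h1, h2, h3, h4, h5, h6⟩ := C.exists_out (not_dvd_of_le inf_le_left (oc_odd K))
    (Signalizer.le_normalizer_inf (L.le.trans (le_normalizer_oc K)) (hP.trans le_normalizer))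
    (((inf_le_inf_right _ inf_le_left).trans (L.core_z C B)).trans C.R_le_M) hX
  exact ⟨v, x, h1, h2, h3, h4, h5.2, h6⟩

/-- The centraliser of `z` in `N(Q)` is in `N(W)`. -/
theorem asc_cent {Q : Subgroup G} (A : Asc S W z p Q) : 𝐂 ⊓ normalizer (Q : Set G) ≤ 𝐌 := by
  haveI : Fact p.Prime := ⟨B.prime⟩
  by_contra hne
  set T := (𝐂 ⊓ normalizer (Q : Set G)) ⊔ 𝐑 with hT
  have hTC : T ≤ 𝐂 := sup_le inf_le_left C.R_le_C
  have hMT : 𝐌 ⊓ 𝐂 ≤ T := by
    intro g hg
    obtain ⟨r, hr, hrg⟩ := A.supz g hg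
    have h2 := T.mul_mem (le_sup_right (a := 𝐂 ⊓ normalizer (Q : Set G)) ((𝐑).inv_mem hr))
      (le_sup_left (b := 𝐑) ⟨(𝐂).mul_mem (C.R_le_C hr) hg.2, hrg⟩)
    rwa [inv_mul_cancel_left] at h2
  have hCT : 𝐂 ≤ T := by
    have h := relIndex_mul_relIndex _ _ _ hMT hTC
    rw [B.index] at h
    rcases (Nat.dvd_prime B.prime).1 (h ▸ dvd_mul_left _ _) with e | e
    · exact relIndex_eq_one.1 e
    exfalso
    rw [e] at h
    have h1 : (𝐌 ⊓ 𝐂).relIndex T = 1 := mul_right_cancel₀ B.prime.ne_zero (h.trans (one_mul p).symm)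
    exact hne (((le_sup_left : 𝐂 ⊓ normalizer (Q : Set G) ≤ T).trans (relIndex_eq_one.1 h1)).trans inf_le_left)
  set X := Subgroup.closure {y : G | ∃ c ∈ 𝐂, ∃ q ∈ Q, c * q * c⁻¹ = y}
  have hXW : X ≤ W := (closure_le _).2 fun y ⟨c, hc, q, hq, hy⟩ => by
    subst hy
    have hcT : c ∈ (((𝐂 ⊓ normalizer (Q : Set G) : Subgroup G)) : Set G) * (𝐑 : Set G) := by
      have hnR : 𝐂 ⊓ normalizer (Q : Set G) ≤ normalizer (𝐑 : Set G) :=
        inf_le_left.trans (le_normalizer.trans (Cores.normalizer_le_normalizer_map _))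
      rw [← coe_mul_of_left_le_normalizer_right _ _ hnR]
      exact hCT hc
    obtain ⟨k, hk, r, hr, rfl⟩ := hcT
    -- move the factor of `R` to the left
    have hr' : k * r * k⁻¹ ∈ 𝐑 :=
      (mem_normalizer_iff.1 (le_normalizer.trans (Cores.normalizer_le_normalizer_map _) hk.1) r).1 hr
    have h1 : k * q * k⁻¹ ∈ W := A.le ((mem_normalizer_iff.1 hk.2 q).1 hq)
    have h2 := (mem_normalizer_iff.1 (C.R_le_M hr') _).1 h1
    rwa [show k * r * k⁻¹ * (k * q * k⁻¹) * (k * r * k⁻¹)⁻¹ = k * r * q * (k * r)⁻¹ by group] at h2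
  have hn : 𝐂 ≤ normalizer (X : Set G) := fun a ha =>
    Signalizer.mem_normalizer_of_conj_mem fun x hx => by
      have hle : X ≤ X.comap (MulAut.conj a).toMonoidHom :=
        (closure_le _).2 fun y ⟨c, hc, q, hq, hy⟩ => by
          subst hy
          exact subset_closure ⟨a * c, (𝐂).mul_mem ha hc, q, hq, by
            show a * c * q * (a * c)⁻¹ = a * (c * q * c⁻¹) * a⁻¹
            group⟩
      exact hle hx
  have hQY : Q ≤ yc W z := fun q hq =>
    le_yc hXW hn (subset_closure ⟨1, one_mem _, q, hq, by group⟩)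
  exact absurd (factorization_card_le (card_dvd_of_le hQY) p) (not_le.2 A.big)

/-- The local subgroup `N(Q)`. -/
theorem asc_loc {Q : Subgroup G} (A : Asc S W z p Q) : LocSub S W z (normalizer (Q : Set G)) where
  le := A.norm
  coreM := (le_inf inf_le_right (inf_le_left.trans (oc_le _))).trans (C.asc_cent B A)
  sup := A.sup
  iso := by
    intro k hk hkS
    by_contra hne
    set K := normalizer (Q : Set G)
    haveI : Fact (Nat.Prime 2) := ⟨Nat.prime_two⟩
    obtain ⟨v, x, hvS, hv, hvz, hx, hxM⟩ := A.out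
    have hd2 : orderOf (k * z * k⁻¹) = 2 := by rw [Involution.orderOf_conj, C.z2]
    obtain ⟨h, hh, hhd⟩ := C.trans hkS hd2 hne hvS hv hvz
    obtain ⟨r, hr, hrh⟩ := A.supz h hh
    -- `r v r⁻¹` and `v` are congruent modulo `R ⊓ K`
    have hb : r * v * r⁻¹ ∈ K := by
      rw [← hhd, show r * (h * (k * z * k⁻¹) * h⁻¹) * r⁻¹ = r * h * (k * z * k⁻¹) * (r * h)⁻¹ by group]
      exact K.mul_mem (K.mul_mem hrh (A.norm hkS)) (K.inv_mem hrh)
    have hvR : v ∈ normalizer (𝐑 : Set G) :=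
      le_normalizer.trans (Cores.normalizer_le_normalizer_map _) (C.S_le_C hvS)
    have hco : (r * v * r⁻¹)⁻¹ * v ∈ 𝐑 ⊓ K := by
      refine ⟨?_, K.mul_mem (K.inv_mem hb) (A.norm hvS)⟩
      rw [show (r * v * r⁻¹)⁻¹ * v = r * (v⁻¹ * r⁻¹ * v) by group]
      exact (𝐑).mul_mem hr ((mem_normalizer_iff''.1 hvR _).1 ((𝐑).inv_mem hr))
    obtain ⟨r', hr', hr'v⟩ := exists_conj_of_coset (not_dvd_of_le inf_le_left C.R_odd)
      (by rw [Involution.orderOf_conj, hv]) hv hco
    set k' := r' * (r * h) * k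
    have hk' : k' ∈ K := K.mul_mem (K.mul_mem hr'.2 hrh) hk
    have hk'z : k' * z * k'⁻¹ = v := by
      rw [← hr'v, ← hhd]
      show r' * (r * h) * k * z * (r' * (r * h) * k)⁻¹ = _
      group
    obtain ⟨m, hm, hmv, -⟩ := C.move A.norm hk' hk'z hvS hvz
    have hxm : m⁻¹ * x * m ∈ 𝐂 ⊓ K := by
      refine ⟨mem_centralizer_singleton_iff.2 ?_, K.mul_mem (K.mul_mem (K.inv_mem hm.2) hx.2) hm.2⟩
      calc m⁻¹ * x * m * z = m⁻¹ * (x * (m * z * m⁻¹)) * m := by group
        _ = m⁻¹ * ((m * z * m⁻¹) * x) * m := by rw [hmv, mem_centralizer_singleton_iff.1 hx.1]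
        _ = _ := by group
    have h1 := (𝐌).mul_mem ((𝐌).mul_mem hm.1 (C.asc_cent B A hxm)) ((𝐌).inv_mem hm.1)
    rw [show m * (m⁻¹ * x * m) * m⁻¹ = x by group] at h1
    exact hxM h1

/-- Below a Sylow subgroup of `W` there is a bigger one. -/
theorem asc_step {Q : Subgroup G} (A : Asc S W z p Q)
    (hlt : (Nat.card Q).factorization p < (Nat.card W).factorization p) :
    ∃ Q', Asc S W z p Q' ∧ Nat.card Q < Nat.card Q' := by
  haveI : Fact p.Prime := ⟨B.prime⟩
  haveI : Fact (Nat.Prime 2) := ⟨Nat.prime_two⟩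
  set K := normalizer (Q : Set G)
  have L : LocSub S W z K := C.asc_loc B A
  set O := oc K with hO
  set D := O ⊓ 𝐌 with hD
  have hDW : D ≤ W := L.D_le_W C B
  have hOM : ¬ O ≤ 𝐌 := by
    intro h
    obtain ⟨v, x, -, -, -, hx, hxM⟩ := A.out
    obtain ⟨o, ho, hox⟩ := L.exists_mul C B hx.2
    have h1 := (𝐌).mul_mem (h ho) (C.asc_cent B A ⟨hox, K.mul_mem (K.inv_mem (oc_le K ho)) hx.2⟩)
    rw [mul_inv_cancel_left] at h1
    exact hxM h1
  have hn : K ⊓ 𝐌 ≤ normalizer (D : Set G) := Signalizer.le_normalizer_inf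
    (inf_le_left.trans (le_normalizer_oc K)) (inf_le_right.trans le_normalizer)
  have hSD : (S : Subgroup G) ≤ normalizer (D : Set G) := (le_inf L.le C.set.norm).trans hn
  obtain ⟨P, hP⟩ := exists_inv_sylow S.isPGroup' (not_dvd_of_le hDW C.set.odd) hSD p
  set Q' := (P : Subgroup D).map D.subtype with hQ'
  have hQ'D : Q' ≤ D := map_subtype_le _
  -- bigger
  obtain ⟨V, hV, hVW, hVK, hVlt⟩ := exists_grow A.pgroup A.le hlt
  have hcard : Nat.card Q < Nat.card Q' := by
    rw [hQ', card_sylow_map]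
    exact hVlt.trans_le (card_le_of_pgroup hV ((le_inf hVW hVK).trans (L.inter_eq C B).le))
  have hfac : (Nat.card Q).factorization p ≤ (Nat.card D).factorization p :=
    factorization_card_le (card_dvd_of_le
      ((le_inf A.le le_normalizer).trans (L.inter_eq C B).le)) p
  refine ⟨Q', C.asc_of_sylow B hDW hSD (fun g hg => ?_) (fun v hvS hv hvz g hg => ?_) P hP
    (A.big.trans_le hfac) ?_, hcard⟩
  · obtain ⟨r, hr, hrg⟩ := A.supz g hg
    exact ⟨r, hr, hn ⟨hrg, (𝐌).mul_mem (C.R_le_M hr) hg.1⟩⟩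
  · obtain ⟨j, hj, hjv, hjg⟩ := A.sup v hvS hv hvz g hg
    exact ⟨j, hj, hjv, hn ⟨hjg, (𝐌).mul_mem (C.R_le_M hj) (C.centE_le hvS hv hvz hg)⟩⟩
  have hX : ¬ O ⊓ normalizer (Q' : Set G) ≤ 𝐌 := by
    intro h
    by_cases hsmall : (Nat.card Q').factorization p < (Nat.card O).factorization p
    · obtain ⟨V', hV', hV'O, hV'n, hV'lt⟩ := exists_grow (P.isPGroup'.map _) (hQ'D.trans inf_le_left) hsmall
      have h1 := card_le_of_pgroup hV' (le_inf hV'O ((le_inf hV'O hV'n).trans h))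
      rw [← card_sylow_map P] at h1
      omega
    have hQ'fac : (Nat.card Q').factorization p = (Nat.card O).factorization p :=
      le_antisymm (factorization_card_le (card_dvd_of_le (hQ'D.trans inf_le_left)) p) (not_lt.1 hsmall)
    obtain ⟨P1, hP1⟩ : ∃ P1 : Sylow p O, (P1 : Subgroup O).map O.subtype = Q' := by
      obtain ⟨P1, hle⟩ :=
        (((P.isPGroup'.map D.subtype).comap_subtype : IsPGroup p (Q'.subgroupOf O))).exists_le_sylow
      refine ⟨P1, (eq_of_le_of_card_ge ?_ ?_).symm⟩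
      · exact fun x hx => ⟨⟨x, (hQ'D.trans inf_le_left) hx⟩, hle hx, rfl⟩
      · rw [card_sylow_map, ← hQ'fac, hQ', card_sylow_map, B.prime.factorization_pow,
          Finsupp.single_eq_same]
    obtain ⟨v, x, hvS, hv, hvz, hxv, hxO, hxM⟩ := C.exists_out (oc_odd K)
      (L.le.trans (le_normalizer_oc K)) ((L.core_z C B).trans C.R_le_M) hOM
    set T := O ⊓ centralizer ({v} : Set G) with hT
    have hidx : D.relIndex T = p := ((Nat.dvd_prime B.prime).1
      (L.relIndex_fix C B hvS hv hvz le_rfl)).resolve_left fun e =>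
        hxM ((relIndex_eq_one.1 e).trans inf_le_right ⟨hxO, hxv⟩)
    obtain ⟨P2⟩ : Nonempty (Sylow p T) := inferInstance
    set U := (P2 : Subgroup T).map T.subtype with hU
    have hUT : U ≤ T := map_subtype_le _
    have hvA : zpowers v ≤ (S : Subgroup G) := zpowers_le.2 hvS
    have hA2 : IsPGroup 2 (zpowers v) := S.isPGroup'.to_le hvA
    have hAO : zpowers v ≤ normalizer (O : Set G) := (hvA.trans L.le).trans (le_normalizer_oc K)
    have hAU : zpowers v ≤ normalizer (U : Set G) := zpowers_le.2 <| centralizer_le_normalizer _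
      (mem_centralizer_iff.2 fun a ha => mem_centralizer_singleton_iff.1 (hUT ha).2)
    obtain ⟨P3, hUP3, hP3⟩ := exists_inv_sylow_ge hA2 (oc_odd K) hAO (hUT.trans inf_le_left)
      (P2.isPGroup'.map _) hAU
    obtain ⟨c, hc, hcP⟩ := exists_fix_conj hA2 (oc_odd K) hAO P1 P3
      (by rw [hP1]; exact hvA.trans hP) hP3
    rw [hP1] at hcP
    -- `C_D(v)` is normal in `C_O(v)`
    have hcT : c ∈ T := ⟨hc.1, mem_centralizer_singleton_iff.2
      (mem_centralizer_iff.1 hc.2 v (mem_zpowers v)).symm⟩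
    have hθ : Cfsg.centralizerPPrimeCore 2 v ⊓ O ≤ D :=
      le_inf inf_le_right (inf_le_left.trans ((C.theta_le hvS hv).trans le_normalizer))
    have hUD : U ≤ D := by
      intro u hu
      have h1 : c⁻¹ * u * c ∈ T := T.mul_mem (T.mul_mem (T.inv_mem hcT) (hUT hu)) hcT
      have h2 : c⁻¹ * u * c ∈ Cfsg.centralizerPPrimeCore 2 v :=
        (C.W_inf hvS hv).le ⟨hDW (hQ'D ((hcP u).1 (hUP3 hu))), h1.2⟩
      refine hθ ⟨?_, (hUT hu).1⟩
      exact (mem_normalizer_iff''.1 (Signalizer.centralizer_le_normalizer_core (p := 2) v hcT.2) u).2 h2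
    have hle1 : (Nat.card T).factorization p ≤ (Nat.card (D ⊓ T : Subgroup G)).factorization p := by
      rw [← factorization_sylow_map P2]
      exact factorization_card_le (card_dvd_of_le (le_inf hUD hUT)) p
    have hmul : Nat.card T = Nat.card (D ⊓ T : Subgroup G) * p := by
      rw [← relIndex_bot_left, ← relIndex_bot_left,
        ← relIndex_mul_relIndex ⊥ (D ⊓ T) T bot_le inf_le_right, inf_relIndex_right, hidx]
    rw [hmul, Nat.factorization_mul Nat.card_pos.ne' B.prime.ne_zero, Finsupp.add_apply,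
      B.prime.factorization_self] at hle1
    omega
  obtain ⟨v, x, h1, h2, h3, h4, h5, h6⟩ := C.exists_out (not_dvd_of_le inf_le_left (oc_odd K))
    (Signalizer.le_normalizer_inf (L.le.trans (le_normalizer_oc K)) (hP.trans le_normalizer))
    (((inf_le_inf_right _ inf_le_left).trans (L.core_z C B)).trans C.R_le_M) hX
  exact ⟨v, x, h1, h2, h3, h4, h5.2, h6⟩

/-- A Sylow subgroup of `W` is not reached. -/
theorem asc_top {Q : Subgroup G} (A : Asc S W z p Q)
    (hge : (Nat.card W).factorization p ≤ (Nat.card Q).factorization p) : False := by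
  haveI : Fact p.Prime := ⟨B.prime⟩
  obtain ⟨QW, hle⟩ := ((A.pgroup.comap_subtype : IsPGroup p (Q.subgroupOf W))).exists_le_sylow
  have hQW : (QW : Subgroup W).map W.subtype = Q := by
    refine (eq_of_le_of_card_ge (show Q ≤ (QW : Subgroup W).map W.subtype from fun x hx => ⟨⟨x, A.le hx⟩, hle hx, rfl⟩) ?_).symm
    obtain ⟨n, hn⟩ := IsPGroup.iff_card.1 A.pgroup
    rw [card_sylow_map, hn]
    rw [hn, B.prime.factorization_pow, Finsupp.single_eq_same] at hge
    exact Nat.pow_le_pow_right B.prime.pos hge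
  have hWodd : Odd (Nat.card W) := Nat.odd_iff.2 (Nat.two_dvd_ne_zero.1 C.set.odd)
  haveI : Group.IsSolvable W := OddOrderTheorem.solvable hWodd
  have hfq : fq p W = ⊥ := eq_bot_iff.2 (iSup_le fun r => (C.pc_bot B r.1.2 r.2).le)
  have hcore : Bender.core p W = ⊥ := eq_bot_iff.2 (hfq ▸ core_le_fq le_rfl le_normalizer (by
    intro x _
    refine mem_centralizer_iff.2 fun a ha => ?_
    rw [hfq, SetLike.mem_coe, mem_bot] at ha
    rw [ha, one_mul, mul_one]))
  set U := Cfsg.centerThompsonOf p Q with hUdef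
  have hoddel : ∀ (w : W) (n : ℕ), w ^ 2 ^ n = 1 → w * w = 1 := by
    intro w n hw
    obtain ⟨j, -, hj⟩ := (Nat.dvd_prime_pow Nat.prime_two).1 (orderOf_dvd_of_pow_eq_one hw)
    have h1 : w = 1 := orderOf_eq_one_iff.1 (Nat.eq_one_of_dvd_coprimes
      ((Nat.coprime_two_left.2 hWodd).pow_left j) (dvd_of_eq hj) (orderOf_dvd_natCard w))
    rw [h1, one_mul]
  have hWU : W ≤ normalizer (U : Set G) := by
    intro g hg
    obtain ⟨a, ha, n, hn, hgn⟩ :=
      Bender.mul_centerThompson_of_solvable B.ne_two hoddel QW ⟨g, hg⟩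
    have ha1 : (a : G) = 1 := (mem_bot (G := G)).1 (hcore ▸ (mem_map_of_mem W.subtype ha : (a : G) ∈ Bender.core p W))
    rw [show g = (a : G) * n from congrArg Subtype.val hgn, ha1, one_mul, hUdef, ← hQW,
      ← PLocal.map_centerThompsonOf W.subtype W.subtype_injective.injOn]
    exact le_normalizer_map W.subtype (mem_map_of_mem _ hn)
  have hQ1 : Q ≠ ⊥ := fun e => by
    have := A.big
    rw [e] at this
    simp at this
  have hU1 : U ≠ ⊥ := (PLocal.goodFunctor_centerThompsonOf (p := p)).ne_bot A.pgroup hQ1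
  have hUW : U ≤ W := (inf_le_left.trans (PLocal.thompsonSubgroupOf_le Q)).trans A.le
  have hMU : 𝐌 ≤ normalizer (U : Set G) := by
    intro m hm
    obtain ⟨d, hd, hdm⟩ := exists_frattini QW hm
    rw [hQW] at hdm
    have h1 := mul_mem (hWU hd) (Bender.normalizer_le_normalizer_centerThompsonOf Q hdm)
    rwa [mul_inv_cancel_left] at h1
  obtain ⟨v, x, hvS, hv, hvz, hx, hxM⟩ := A.out
  exact hxM (C.crit2 B hU1 hUW hMU hvS hv hvz
    ⟨hx.1, Bender.normalizer_le_normalizer_centerThompsonOf Q hx.2⟩)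

omit B in
/-- There is no bad central involution. -/
theorem false_of_bad : False := by
  obtain ⟨p, B⟩ := C.exists_bad
  obtain ⟨Q0, hQ0⟩ := C.asc_base B
  haveI : Nonempty {Q : Subgroup G // Asc S W z p Q} := ⟨⟨Q0, hQ0⟩⟩
  obtain ⟨⟨Q, hQ⟩, hmax⟩ :=
    Finite.exists_max fun Q : {Q : Subgroup G // Asc S W z p Q} => Nat.card (Q : Subgroup G)
  by_cases h : (Nat.card Q).factorization p < (Nat.card W).factorization p
  · obtain ⟨Q', hQ', hlt⟩ := C.asc_step B hQ h
    exact absurd (hmax ⟨Q', hQ'⟩) (not_le.2 hlt)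
  · exact C.asc_top B hQ (not_lt.1 h)

end Ctx

end Cfsg.Agent.CoreKilling.RankTwo
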