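import Cfsg.Agent.Lib.CoreKilling.GenCover

/-!
# Odd automorphism groups of a group of order `p²`, `p = 3, 5` (owner: helper55, for helper44's S1290)

* `aut_odd_eq_bot` : an odd group normalised by two anticommuting involutions is trivial
-/

set_option autoImplicit false
set_option linter.unusedSectionVars false
set_option linter.style.haveILetI false

namespace Cfsg.Agent.CoreKilling.RankTwo

open Subgroup

variable {A : Type*} [CommGroup A] [Finite A]

/-- The fixed points of an automorphism. -/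
def fixAut (b : MulAut A) : Subgroup A where
  carrier := {a | b a = a}
  one_mem' := map_one b
  mul_mem' := fun {x y} hx hy => by
    show b (x * y) = x * y
    rw [map_mul, show b x = x from hx, show b y = y from hy]
  inv_mem' := fun {x} hx => by
    show b x⁻¹ = x⁻¹
    rw [map_inv, show b x = x from hx]

/-- The points inverted by an automorphism. -/
def invAut (b : MulAut A) : Subgroup A where
  carrier := {a | b a = a⁻¹}
  one_mem' := by show b 1 = (1 : A)⁻¹; rw [map_one, inv_one]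
  mul_mem' := fun {x y} hx hy => by
    show b (x * y) = (x * y)⁻¹
    rw [map_mul, show b x = x⁻¹ from hx, show b y = y⁻¹ from hy, mul_inv]
  inv_mem' := fun {x} hx => by
    show b x⁻¹ = x⁻¹⁻¹
    rw [map_inv, show b x = x⁻¹ from hx]

theorem mul_self_apply {b : MulAut A} (hb : b * b = 1) (a : A) : b (b a) = a := by
  rw [← MulAut.mul_apply, hb, MulAut.one_apply]

/-- A group of odd order `p²` is the sum of two lines fixed, inverted by an involution. -/
theorem exists_frame {p : ℕ} [hp : Fact p.Prime] (hp2 : p ≠ 2) (hA : Nat.card A = p ^ 2)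
    {b : MulAut A} (hb : b * b = 1) (hn : ∃ a, b a ≠ a) (hi : ∃ a, b a ≠ a⁻¹) :
    ∃ x y : A, orderOf x = p ∧ orderOf y = p ∧ b x = x ∧ b y = y⁻¹ ∧
      (∀ a, b a = a → ∃ k : ℕ, x ^ k = a) ∧ (∀ a, b a = a⁻¹ → ∃ k : ℕ, y ^ k = a) ∧
      ∀ a, ∃ i j : ℕ, x ^ i * y ^ j = a := by
  obtain ⟨h, hh⟩ : Odd (p ^ 2) := (hp.out.odd_of_ne_two hp2).pow
  have hsq : ∀ a : A, a ^ (2 * (h + 1)) = a := fun a => by
    rw [show 2 * (h + 1) = p ^ 2 + 1 by omega, pow_succ, ← hA, pow_card_eq_one', one_mul]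
  have hF : ∀ a : A, (a * b a) ^ (h + 1) ∈ fixAut b := fun a => by
    show b _ = _
    rw [map_pow, map_mul, mul_self_apply hb, mul_comm]
  have hI : ∀ a : A, (a * (b a)⁻¹) ^ (h + 1) ∈ invAut b := fun a => by
    show b _ = _
    rw [map_pow, map_mul, map_inv, mul_self_apply hb, ← inv_pow, mul_inv, inv_inv, mul_comm]
  have hdec : ∀ a : A, (a * b a) ^ (h + 1) * (a * (b a)⁻¹) ^ (h + 1) = a := fun a => by
    rw [← mul_pow, mul_mul_mul_comm, mul_inv_cancel, mul_one, ← sq, ← pow_mul, hsq]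
  have hdisj : Disjoint (fixAut b) (invAut b) := disjoint_iff_inf_le.2 fun a ⟨h1, h2⟩ => by
    have e : a = a⁻¹ := (show b a = a from h1).symm.trans h2
    have e2 : a ^ 2 = 1 := by rw [sq]; exact mul_eq_one_iff_eq_inv.2 e
    rw [mem_bot, ← hsq a, pow_mul, e2, one_pow]
  have hcard := (isComplement'_of_disjoint_and_mul_eq_univ hdisj
    (Set.eq_univ_of_forall fun a => ⟨_, hF a, _, hI a, hdec a⟩)).card_mul_card
  have hne1 : fixAut b ≠ ⊥ := fun e => by
    obtain ⟨a, ha⟩ := hi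
    refine ha ?_
    have h1 : (a * b a) ^ (h + 1) = 1 := (mem_bot).1 (e ▸ hF a)
    have h2 := hdec a
    rw [h1, one_mul] at h2
    have h3 := hI a
    rw [h2] at h3
    exact h3
  have hne2 : invAut b ≠ ⊥ := fun e => by
    obtain ⟨a, ha⟩ := hn
    refine ha ?_
    have h1 : (a * (b a)⁻¹) ^ (h + 1) = 1 := (mem_bot).1 (e ▸ hI a)
    have h2 := hdec a
    rw [h1, mul_one] at h2
    have h3 := hF a
    rw [h2] at h3
    exact h3
  rw [hA] at hcard
  obtain ⟨k, hk2, hk⟩ := (Nat.dvd_prime_pow hp.out).1 ⟨_, hcard.symm⟩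
  have hc1 : Nat.card (fixAut b) = p := by
    interval_cases k
    · exact absurd (card_eq_one.1 (by rw [hk, pow_zero])) hne1
    · rw [hk, pow_one]
    · refine absurd (card_eq_one.1 ?_) hne2
      rw [hk] at hcard
      exact Nat.eq_of_mul_eq_mul_left (pow_pos hp.out.pos 2) (hcard.trans (mul_one _).symm)
  have hc2 : Nat.card (invAut b) = p := by
    rw [hc1, sq] at hcard
    exact Nat.eq_of_mul_eq_mul_left hp.out.pos hcard
  have gen : ∀ (K : Subgroup A), Nat.card K = p → ∃ x, orderOf x = p ∧ x ∈ K ∧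
      ∀ a ∈ K, ∃ k : ℕ, x ^ k = a := by
    intro K hK
    obtain ⟨⟨x, hx⟩, hxo⟩ := exists_prime_orderOf_dvd_card' (G := K) p (dvd_of_eq hK.symm)
    rw [Subgroup.orderOf_mk] at hxo
    refine ⟨x, hxo, hx, fun a ha => ?_⟩
    have he : zpowers x = K := eq_of_le_of_card_ge (zpowers_le.2 hx)
      (by rw [hK, Nat.card_zpowers, hxo])
    rw [← he] at ha
    exact (isOfFinOrder_of_finite x).mem_powers_iff_mem_zpowers.2 ha
  obtain ⟨x, hxo, hx, hxg⟩ := gen _ hc1
  obtain ⟨y, hyo, hy, hyg⟩ := gen _ hc2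
  refine ⟨x, y, hxo, hyo, hx, hy, fun a ha => hxg a ha, fun a ha => hyg a ha, fun a => ?_⟩
  obtain ⟨i, hi'⟩ := hxg _ (hF a)
  obtain ⟨j, hj'⟩ := hyg _ (hI a)
  exact ⟨i, j, by rw [hi', hj', hdec]⟩

theorem pow_eq_self_of_modEq {a : A} {p n : ℕ} (ha : orderOf a = p) (h : (n : ZMod p) = 1) :
    a ^ n = a := by
  have h1 : n ≡ 1 [MOD p] := (ZMod.natCast_eq_natCast_iff _ _ _).1 (by rw [h, Nat.cast_one])
  conv_rhs => rw [← pow_one a]
  exact pow_eq_pow_iff_modEq.2 (ha ▸ h1)

theorem zmod_four {p : ℕ} (hp : p = 3 ∨ p = 5) : ∀ k : ZMod p, k ≠ 0 → k ^ 4 = 1 := by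
  rcases hp with rfl | rfl <;> decide

theorem zmod_circle {p : ℕ} (hp : p = 3 ∨ p = 5) :
    ∀ i j : ZMod p, i * i + j * j = 1 → i * j = 0 := by
  rcases hp with rfl | rfl <;> decide

theorem pow_four_apply (g : MulAut A) (a : A) : (g ^ 4) a = g (g (g (g a))) := rfl

theorem eq_one_of_pow_four {D : Subgroup (MulAut A)} (hD : ¬ 2 ∣ Nat.card D) {g : MulAut A}
    (hg : g ∈ D) (h4 : g ^ 4 = 1) : g = 1 := by
  haveI : Finite (MulAut A) := Finite.of_injective _ DFunLike.coe_injective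
  have hdvd : orderOf g ∣ Nat.card D := orderOf_dvd_natCard (⟨g, hg⟩ : D) |> fun h => by
    rwa [Subgroup.orderOf_mk] at h
  refine orderOf_eq_one_iff.1 (Nat.eq_one_of_dvd_coprimes (b := 2 ^ 2) ?_ hdvd
    (by norm_num; exact orderOf_dvd_of_pow_eq_one h4))
  exact (((Nat.prime_two.coprime_iff_not_dvd).2 hD).pow_left 2).symm

/-- An odd group normalised by an involution with both signs is inverted by it. -/
theorem inverts_aut {p : ℕ} (hp : p = 3 ∨ p = 5) (hA : Nat.card A = p ^ 2) {b : MulAut A}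
    (hb : b * b = 1) (hn : ∃ a, b a ≠ a) (hi : ∃ a, b a ≠ a⁻¹) {D : Subgroup (MulAut A)}
    (hD : ¬ 2 ∣ Nat.card D) (hbD : b ∈ normalizer (D : Set (MulAut A))) :
    ∀ g ∈ D, b * g * b⁻¹ = g⁻¹ := by
  haveI : Fact p.Prime := ⟨by rcases hp with rfl | rfl <;> norm_num⟩
  haveI : Finite (MulAut A) := Finite.of_injective _ DFunLike.coe_injective
  refine inverts_of_fixedPointFree hb hbD fun g hg hgb => eq_one_of_pow_four hD hg ?_
  obtain ⟨x, y, hxo, hyo, hx, hy, hxg, hyg, hgen⟩ :=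
    exists_frame (by omega) hA hb hn hi
  have hcomm : ∀ a, g (b a) = b (g a) := fun a => DFunLike.congr_fun hgb.eq a
  have line : ∀ (z : A), orderOf z = p → (∃ k : ℕ, z ^ k = g z) → (g ^ 4) z = z := by
    rintro z hzo ⟨k, hk⟩
    rw [pow_four_apply, ← hk, map_pow, ← hk, ← pow_mul, map_pow, ← hk, ← pow_mul, map_pow, ← hk,
      ← pow_mul]
    refine pow_eq_self_of_modEq hzo ?_
    have hk0 : (k : ZMod p) ≠ 0 := fun e => by
      rw [ZMod.natCast_eq_zero_iff, ← hzo, orderOf_dvd_iff_pow_eq_one, hk,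
        MulEquiv.map_eq_one_iff] at e
      rw [e, orderOf_one] at hzo
      exact (Fact.out : p.Prime).ne_one hzo.symm
    have := zmod_four hp _ hk0
    push_cast
    linear_combination this
  refine MulEquiv.ext fun a => ?_
  obtain ⟨i, j, rfl⟩ := hgen a
  rw [MulAut.one_apply, map_mul, map_pow, map_pow,
    line x hxo (hxg _ (by rw [← hcomm, hx])),
    line y hyo (hyg _ (by rw [← hcomm, hy, map_inv]))]

/-- **An odd group normalised by two anticommuting involutions of a group of order `p²`.** -/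
theorem aut_odd_eq_bot {p : ℕ} (hp : p = 3 ∨ p = 5) (hA : Nat.card A = p ^ 2) (b₁ b₂ : MulAut A)
    (h1 : b₁ * b₁ = 1) (h1n : b₁ ≠ 1) (h1i : ∃ a, b₁ a ≠ a⁻¹) (h2 : b₂ * b₂ = 1)
    (h12 : ∀ a, b₂ (b₁ (b₂ a)) = (b₁ a)⁻¹) (D : Subgroup (MulAut A)) (hD : ¬ 2 ∣ Nat.card D)
    (hn1 : b₁ ∈ normalizer (D : Set (MulAut A))) (hn2 : b₂ ∈ normalizer (D : Set (MulAut A))) :
    D = ⊥ := by
  haveI : Fact p.Prime := ⟨by rcases hp with rfl | rfl <;> norm_num⟩
  have hn1' : ∃ a, b₁ a ≠ a := by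
    by_contra hc
    push Not at hc
    exact h1n (MulEquiv.ext hc)
  have hanti : ∀ a, b₂ (b₁ a) = (b₁ (b₂ a))⁻¹ := fun a => by
    have := h12 (b₂ a)
    rwa [mul_self_apply h2] at this
  have htriv : ¬ ∀ a : A, b₁ a = (b₁ a)⁻¹ := fun hall => by
    obtain ⟨x, -, hxo, -, hx, -⟩ := exists_frame (p := p) (by omega) hA h1 hn1' h1i
    have := hall x
    rw [hx] at this
    have h' : x ^ 2 = 1 := by rw [sq]; exact mul_eq_one_iff_eq_inv.2 this
    have := orderOf_dvd_of_pow_eq_one h'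
    rw [hxo] at this
    have := Nat.le_of_dvd two_pos this
    omega
  have hn2' : ∃ a, b₂ a ≠ a := by
    by_contra hc
    push Not at hc
    exact htriv fun a => by
      have := hanti a
      rwa [hc, hc] at this
  have hi2 : ∃ a, b₂ a ≠ a⁻¹ := by
    by_contra hc
    push Not at hc
    exact htriv fun a => by
      have := hanti a
      rw [hc, hc, map_inv, inv_inv] at this
      exact this.symm
  have i1 := inverts_aut hp hA h1 hn1' h1i hD hn1
  have i2 := inverts_aut hp hA h2 hn2' hi2 hD hn2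
  obtain ⟨x, y₀, hxo, -, hx, hy₀, hxg, -, hgen⟩ := exists_frame (p := p) (by omega) hA h1 hn1' h1i
  set y := b₂ x with hy
  have hy1 : b₁ y = y⁻¹ := by
    have := hanti x
    rw [hx, ← hy] at this
    exact inv_eq_iff_eq_inv.1 this.symm
  refine eq_bot_iff.2 fun g hg => mem_bot.2 (eq_one_of_pow_four hD hg ?_)
  have hginv : ∀ {b : MulAut A}, b * g * b⁻¹ = g⁻¹ → ∀ a, b (g a) = g⁻¹ (b a) := fun {b} e a => by
    have := DFunLike.congr_fun e (b a)
    rwa [MulAut.mul_apply, MulAut.mul_apply, MulAut.inv_apply, MulEquiv.symm_apply_apply] at this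
  have e1 := hginv (i1 g hg)
  have e2 := hginv (i2 g hg)
  have e2' : ∀ a, b₂ (g⁻¹ a) = g (b₂ a) := fun a => by
    have := congrArg b₂ (e2 (b₂ a))
    rw [mul_self_apply h2, mul_self_apply h2] at this
    exact this.symm
  -- `u := b₁ b₂` commutes with `g`
  have hu : ∀ a, b₁ (b₂ (g a)) = g (b₁ (b₂ a)) := fun a => by
    have e1' : ∀ a, b₁ (g⁻¹ a) = g (b₁ a) := fun a => by
      have := congrArg b₁ (e1 (b₁ a))
      rw [mul_self_apply h1, mul_self_apply h1] at this
      exact this.symm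
    rw [e2, e1']
  obtain ⟨k, hk⟩ := hxg (b₂ y₀) (by
    rw [show b₁ (b₂ y₀) = (b₂ (b₁ y₀))⁻¹ by rw [hanti, inv_inv], hy₀, map_inv, inv_inv])
  have hy₀' : y₀ = y ^ k := by rw [hy, ← map_pow, hk, mul_self_apply h2]
  obtain ⟨i, j, hij⟩ : ∃ i j : ℕ, x ^ i * y ^ j = g x := by
    obtain ⟨i, j, hij⟩ := hgen (g x)
    exact ⟨i, k * j, by rw [pow_mul, ← hy₀', hij]⟩
  have hgy : g y = (x ^ j)⁻¹ * y ^ i := by
    have := hu x
    rw [← hy, hy1, map_inv, ← hij] at this
    simp only [map_mul, map_pow, hy, mul_self_apply h2] at this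
    rw [← hy, hy1, hx] at this
    rw [inv_eq_iff_eq_inv.1 this.symm, mul_inv, inv_pow, inv_inv, mul_comm]
  have hdet : ((i * i + j * j : ℕ) : ZMod p) = 1 := by
    have h3 : g⁻¹ (b₁ x) = x ^ i * (y ^ j)⁻¹ := by
      rw [← e1, ← hij, map_mul, map_pow, map_pow, hx, hy1, inv_pow]
    rw [hx] at h3
    have h4 := congrArg g h3
    rw [MulAut.inv_apply, MulEquiv.apply_symm_apply] at h4
    have h5 : x = x ^ (i * i + j * j) := by
      rw [map_mul, map_inv, map_pow, map_pow, hgy, ← hij] at h4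
      conv_lhs => rw [h4]
      simp only [mul_pow, inv_pow, ← pow_mul, mul_inv, inv_inv, pow_add]
      rw [mul_comm i j, mul_mul_mul_comm, mul_inv_cancel, mul_one]
    have h6 : x ^ (i * i + j * j) = x ^ 1 := by rw [← h5, pow_one]
    rw [pow_eq_pow_iff_modEq, hxo, ← ZMod.natCast_eq_natCast_iff, Nat.cast_one] at h6
    exact h6
  have hij0 : ((i * j : ℕ) : ZMod p) = 0 := by
    push_cast at hdet ⊢
    exact zmod_circle hp _ _ hdet
  have key : (g ^ 4) x = x := by
    have hyo : orderOf y = p := by rw [hy, MulEquiv.orderOf_eq, hxo]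
    have hyij : y ^ (j * i) = 1 := by
      rw [mul_comm, ← orderOf_dvd_iff_pow_eq_one, hyo, ← ZMod.natCast_eq_zero_iff]
      exact hij0
    have hgg : g (g x) = x ^ (i * i) * (x ^ (j * j))⁻¹ := by
      rw [← hij, map_mul, map_pow, map_pow, ← hij, hgy]
      simp only [mul_pow, inv_pow, ← pow_mul]
      rw [mul_comm i j, hyij, mul_one, mul_one]
    rw [pow_four_apply, hgg, map_mul, map_inv, map_pow, map_pow, map_mul, map_inv, map_pow,
      map_pow, hgg]
    simp only [mul_pow, inv_pow, ← pow_mul, mul_inv, inv_inv]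
    rw [mul_mul_mul_comm, mul_comm (i * i) (j * j)]
    have hz : ((i * i * (j * j) : ℕ) : ZMod p) = 0 := by
      push_cast at hij0 ⊢
      linear_combination (i : ZMod p) * j * hij0
    have hz' : x ^ (j * j * (i * i)) = 1 := by
      rw [← orderOf_dvd_iff_pow_eq_one, hxo, ← ZMod.natCast_eq_zero_iff, mul_comm]
      exact hz
    rw [hz', inv_one, mul_one, one_mul, ← pow_add]
    refine pow_eq_self_of_modEq hxo ?_
    push_cast at hdet hz ⊢
    linear_combination ((i : ZMod p) * i + j * j + 1) * hdet - 2 * hz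
  refine MulEquiv.ext fun a => ?_
  have h4y : (g ^ 4) y = y := by
    have hu4 : (g ^ 4) (b₁ (b₂ x)) = b₁ (b₂ ((g ^ 4) x)) := by
      simp only [pow_four_apply, hu]
    rw [key, ← hy, hy1, map_inv, inv_inj] at hu4
    exact hu4
  obtain ⟨i', j', rfl⟩ := hgen a
  rw [MulAut.one_apply, hy₀', ← pow_mul, map_mul, map_pow, map_pow, key, h4y]

end Cfsg.Agent.CoreKilling.RankTwo
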