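import Cfsg.Agent.Lib.CoreKilling.GenCover

/-!
# Bender's comparison at a given prime (owner: helper55, for helper44's S1290 rank two)

* `exists_local_prime` : `le_of_local` at a given prime `q`, only `q`-elements of the locals are used
* `pc_le_pc_of_elements` : `O_p(L) ≤ O_p(Y)` from the normalising elements of `O_p(L)`
-/

set_option autoImplicit false
set_option linter.unusedSectionVars false
set_option linter.style.haveILetI false

namespace Cfsg.Agent.CoreKilling.RankTwo

open Subgroup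
open scoped Pointwise

universe u

variable {G : Type u} [Group G] [Finite G]

/-- Bender's comparison at the prime `q`. -/
theorem exists_local_prime {L Y X : Subgroup G} (hL : Odd (Nat.card L)) (hYL : Y ≤ L)
    (hX : X ≤ normalizer (Y : Set G)) (hF : ∀ r : ℕ, r.Prime → pc r L ≤ pc r Y) {q : ℕ}
    [hqF : Fact q.Prime] (hq1 : pc q Y ≠ ⊥)
    (hloc : ∀ U : Subgroup G, U ≠ ⊥ → U ≤ Y → Y ≤ normalizer (U : Set G) →
      X ≤ normalizer (U : Set G) → ∀ g ∈ L, g ∈ normalizer (U : Set G) →
      (∃ n, g ^ q ^ n = 1) → g ∈ Y) :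
    ∃ U : Subgroup G, U ≠ ⊥ ∧ U ≤ Y ∧ X ≤ normalizer (U : Set G) ∧
      L ≤ normalizer (U : Set G) := by
  haveI hLs : Group.IsSolvable L := OddOrderTheorem.solvable hL
  haveI : Group.IsSolvable Y := Group.isSolvable_of_isSolvable_injective (inclusion_injective hYL)
  have hqp : q.Prime := hqF.out
  have hYodd : Odd (Nat.card Y) := hL.of_dvd_nat (card_dvd_of_le hYL)
  have hq2 : q ≠ 2 := by
    rintro rfl
    obtain ⟨m, hm⟩ := IsPGroup.iff_card.1 (isPGroup_pc 2 Y)
    rcases Nat.eq_zero_or_pos m with rfl | hm0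
    · exact hq1 (card_eq_one.1 (by rw [hm, pow_zero]))
    · exact Nat.not_even_iff_odd.2 (hYodd.of_dvd_nat (card_dvd_of_le (pc_le 2 Y)))
        (even_iff_two_dvd.2 (hm ▸ dvd_pow_self 2 hm0.ne'))
  set C := L ⊓ centralizer (fq q L : Set G) with hCdef
  set D := Y ⊓ centralizer (fq q Y : Set G) with hDdef
  have hfle : fq q L ≤ fq q Y := iSup_mono fun r => hF r.1 r.1.2
  have hDC : D ≤ C := inf_le_inf hYL (centralizer_le (SetLike.coe_subset_coe.2 hfle))
  have hCL : C ≤ L := inf_le_left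
  have hDY : D ≤ Y := inf_le_left
  have hCn : L ≤ normalizer (C : Set G) := Signalizer.le_normalizer_inf le_normalizer
    (Signalizer.le_normalizer_centralizer (le_normalizer.trans (normalizer_le_normalizer_fq q L)))
  have hDn : ∀ H : Subgroup G, H ≤ normalizer (Y : Set G) → H ≤ normalizer (D : Set G) :=
    fun H hH => Signalizer.le_normalizer_inf hH
      (Signalizer.le_normalizer_centralizer (hH.trans (normalizer_le_normalizer_fq q Y)))
  -- `q`-elements of `C ⊓ Y` lie in `D`
  have hqD : ∀ g ∈ C, g ∈ Y → (∃ n, g ^ q ^ n = 1) → g ∈ D := by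
    intro g hgC hgY hgq
    refine ⟨hgY, mem_centralizer_fq fun r hr hrq a ha => ?_⟩
    haveI : Fact r.Prime := ⟨hr⟩
    by_cases hr2 : r = 2
    · subst hr2
      have : a = 1 := by
        obtain ⟨m, hm⟩ := IsPGroup.iff_card.1 (isPGroup_pc 2 Y)
        rcases Nat.eq_zero_or_pos m with rfl | hm0
        · exact (mem_bot (G := G)).1 (card_eq_one.1 (by rw [hm, pow_zero]) ▸ ha)
        · exact absurd (even_iff_two_dvd.2 (hm ▸ dvd_pow_self 2 hm0.ne'))
            (Nat.not_even_iff_odd.2 (hYodd.of_dvd_nat (card_dvd_of_le (pc_le 2 Y))))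
      rw [this]; exact Commute.one_right g
    have hgr : ∀ b ∈ pc r L, Commute g b := fun b hb =>
      commute_of_mem_centralizer_fq hgC.2 hr hrq hb
    have hzp : zpowers g ≤ centralizer (pc r L : Set G) :=
      zpowers_le.2 (mem_centralizer_iff.2 fun b hb => (hgr b hb).symm.eq)
    have hcop : (Nat.card (zpowers g)).Coprime r := by
      obtain ⟨n, hn⟩ := hgq
      obtain ⟨m, -, hm⟩ := (Nat.dvd_prime_pow hqp).1 (orderOf_dvd_of_pow_eq_one hn)
      rw [Nat.card_zpowers, hm]
      exact ((Nat.coprime_primes hqp hr).2 (Ne.symm hrq)).pow_left m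
    have hfix : pc r Y ⊓ centralizer (pc r L : Set G) ≤ centralizer (zpowers g : Set G) := by
      rintro b ⟨hb, hbc⟩
      obtain ⟨n, hn⟩ := (isPGroup_pc r Y) ⟨b, hb⟩
      have hbL : b ∈ pc r L := mem_pc_of_commute (hYL (pc_le r Y hb)) (congrArg Subtype.val hn)
        fun s hs c hc => by
          by_cases hsr : s = r
          · subst hsr
            exact (mem_centralizer_iff.1 hbc c hc).symm
          · haveI : Fact s.Prime := ⟨hs⟩
            exact commute_pc (Ne.symm hsr) hb (hF s hs hc)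
      refine mem_centralizer_iff.2 fun c hc => ?_
      exact (mem_centralizer_iff.1 (hzp hc) b hbL).symm
    have hle : zpowers g ≤ centralizer (pc r Y : Set G) :=
      Bender.le_centralizer_of_fixed_le hr2 (isPGroup_pc r L) (isPGroup_pc r Y) hcop
        (Signalizer.le_normalizer_of_commute fun b hb c hc =>
          (mem_centralizer_iff.1 (hzp hc) b hb))
        ((hF r hr).trans le_normalizer)
        (zpowers_le.2 (le_normalizer_pc r Y hgY)) hfix
    exact (mem_centralizer_iff.1 (hle (mem_zpowers g)) a ha).symm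
  obtain ⟨QD⟩ : Nonempty (Sylow q D) := inferInstance
  set R := (QD : Subgroup D).map D.subtype with hRdef
  set U := Cfsg.centerThompsonOf q R with hUdef
  have hR : IsPGroup q R := QD.isPGroup'.map _
  have hRD : R ≤ D := map_subtype_le _
  have hpcD : pc q Y ≤ D := le_inf (pc_le q Y) fun b hb => mem_centralizer_fq fun r hr hrq a ha => by
    haveI : Fact r.Prime := ⟨hr⟩
    exact commute_pc (Ne.symm hrq) hb ha
  have hR1 : R ≠ ⊥ := by
    intro hbot
    refine hq1 (eq_bot_iff.2 (hbot ▸ ?_))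
    intro b hb
    haveI : ((pc q Y).comap D.subtype).Normal :=
      Cores.subgroupOf_normal_of_le_normalizer (hDY.trans (le_normalizer_pc q Y))
    exact ⟨⟨b, hpcD hb⟩, IsPGroup.le_sylow_of_normal
      ((isPGroup_pc q Y).comap_subtype : IsPGroup q ((pc q Y).subgroupOf D)) QD hb, rfl⟩
  have hU1 : U ≠ ⊥ := (PLocal.goodFunctor_centerThompsonOf (p := q)).ne_bot hR hR1
  have hUR : U ≤ R := inf_le_left.trans (PLocal.thompsonSubgroupOf_le R)
  have hoddel : ∀ {K : Subgroup G}, Odd (Nat.card K) →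
      ∀ (w : K) (n : ℕ), w ^ 2 ^ n = 1 → w * w = 1 := by
    intro K hK w n hw
    obtain ⟨j, -, hj⟩ := (Nat.dvd_prime_pow Nat.prime_two).1 (orderOf_dvd_of_pow_eq_one hw)
    have h1 : w = 1 := orderOf_eq_one_iff.1 (Nat.eq_one_of_dvd_coprimes
      ((Nat.coprime_two_left.2 hK).pow_left j) (dvd_of_eq hj) (orderOf_dvd_natCard w))
    rw [h1, one_mul]
  -- the factorisation in a group with Sylow subgroup `R`
  have hfac : ∀ (K : Subgroup G) (S : Sylow q K), Odd (Nat.card K) →
      (S : Subgroup K).map K.subtype = R → ∀ g ∈ K,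
      ∃ a ∈ Bender.core q K, ∃ n ∈ K ⊓ normalizer (U : Set G), g = a * n := by
    intro K S hK hS g hg
    haveI : Group.IsSolvable K := OddOrderTheorem.solvable hK
    obtain ⟨a, ha, n, hn, hgn⟩ :=
      Bender.mul_centerThompson_of_solvable hq2 (hoddel hK) S ⟨g, hg⟩
    refine ⟨a, ⟨a, ha, rfl⟩, n, ⟨n.2, ?_⟩, congrArg Subtype.val hgn⟩
    rw [hUdef, ← hS, ← PLocal.map_centerThompsonOf K.subtype K.subtype_injective.injOn]
    exact le_normalizer_map K.subtype (mem_map_of_mem _ hn)
  have hDodd : Odd (Nat.card D) := hL.of_dvd_nat (card_dvd_of_le (hDY.trans hYL))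
  have hDU : D ≤ normalizer (U : Set G) := by
    intro g hg
    obtain ⟨a, ha, n, hn, rfl⟩ := hfac D QD hDodd rfl g hg
    refine mul_mem ?_ hn.2
    refine centralizer_le_normalizer _ (mem_centralizer_iff.2 fun u hu => ?_)
    have hcore := core_le_fq (L := Y) hDY (hDn Y le_normalizer) inf_le_right ha
    exact mem_centralizer_iff.1 ((hRD (hUR hu)).2) a hcore |>.symm
  have hUinv : ∀ x : G, x ∈ normalizer (D : Set G) → x ∈ normalizer (U : Set G) := by
    intro x hx
    obtain ⟨d, hd, hdx⟩ := exists_frattini QD hx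
    have h1 := mul_mem (hDU hd) (Bender.normalizer_le_normalizer_centerThompsonOf R hdx)
    rwa [mul_inv_cancel_left] at h1
  have hYU : Y ≤ normalizer (U : Set G) := fun y hy => hUinv y (hDn Y le_normalizer hy)
  have hXU : X ≤ normalizer (U : Set G) := fun x hx => hUinv x (hDn X hX hx)
  have hUY : U ≤ Y := (hUR.trans hRD).trans hDY
  -- `R` is a Sylow subgroup of `C`
  obtain ⟨QC, hQC⟩ := ((hR.comap_subtype : IsPGroup q (R.subgroupOf C))).exists_le_sylow
  have hRC : R ≤ (QC : Subgroup C).map C.subtype := fun r hr =>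
    ⟨⟨r, hDC (hRD hr)⟩, hQC hr, rfl⟩
  have heq : (QC : Subgroup C).map C.subtype = R := by
    refine le_antisymm ?_ hRC
    by_contra hne
    have hlt : R.subgroupOf C < (QC : Subgroup C) := lt_of_le_of_ne hQC fun e => hne (by
      rw [← e, map_subgroupOf_eq_of_le (hRD.trans hDC)])
    haveI : Group.IsNilpotent QC := QC.isPGroup'.isNilpotent
    have hlt' : (R.subgroupOf C).subgroupOf (QC : Subgroup C) < ⊤ := lt_top_iff_ne_top.2 fun e =>
      hlt.not_ge (subgroupOf_eq_top.1 e)
    obtain ⟨y, hy, hyR⟩ :=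
      SetLike.exists_of_lt (Group.normalizerCondition_of_isNilpotent _ hlt')
    have hyN : ((y : C) : G) ∈ normalizer (R : Set G) := by
      refine Signalizer.mem_normalizer_of_conj_mem fun r hr => ?_
      have := (mem_normalizer_iff.1 hy (⟨⟨r, hDC (hRD hr)⟩, hQC hr⟩ : (QC : Subgroup C))).1 hr
      exact this
    obtain ⟨n, hn⟩ := QC.isPGroup' y
    have hyY : ((y : C) : G) ∈ Y := hloc U hU1 hUY hYU hXU _ (y : C).2.1
      (Bender.normalizer_le_normalizer_centerThompsonOf R hyN)
      ⟨n, congrArg (fun w : (QC : Subgroup C) => ((w : C) : G)) hn⟩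
    have hyD : ((y : C) : G) ∈ D := hqD _ (y : C).2 hyY
      ⟨n, congrArg (fun w : (QC : Subgroup C) => ((w : C) : G)) hn⟩
    refine hyR ?_
    set P := (QD : Subgroup D) ⊔ zpowers (⟨_, hyD⟩ : D)
    have hP : IsPGroup q P := by
      refine QD.isPGroup'.to_sup_of_normal_left' ?_ ?_
      · refine IsPGroup.iff_orderOf.2 fun x => ?_
        have hy' : (⟨_, hyD⟩ : D) ^ q ^ n = 1 :=
          Subtype.ext (congrArg (fun w : (QC : Subgroup C) => ((w : C) : G)) hn)
        obtain ⟨k, -, hk⟩ := (Nat.dvd_prime_pow hqp).1 ((orderOf_dvd_of_pow_eq_one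
          (show x ^ q ^ n = 1 by
            obtain ⟨_, i, rfl⟩ := x
            refine Subtype.ext ?_
            simp only [SubmonoidClass.coe_pow, OneMemClass.coe_one]
            rw [← zpow_natCast, ← zpow_mul, mul_comm, zpow_mul, zpow_natCast, hy', one_zpow])))
        exact ⟨k, hk⟩
      · refine zpowers_le.2 (Signalizer.mem_normalizer_of_conj_mem fun r hr => ?_)
        obtain ⟨w, hw, hwe⟩ := (mem_normalizer_iff.1 hyN (r : G)).1 (mem_map_of_mem _ hr)
        rwa [show (⟨_, hyD⟩ : D) * r * (⟨_, hyD⟩ : D)⁻¹ = w from Subtype.ext hwe.symm]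
    have hmax := QD.is_maximal' hP le_sup_left
    have hyQ : (⟨_, hyD⟩ : D) ∈ (QD : Subgroup D) :=
      hmax.le (le_sup_right (a := (QD : Subgroup D)) (mem_zpowers _))
    exact ⟨_, hyQ, rfl⟩
  have hCodd : Odd (Nat.card C) := hL.of_dvd_nat (card_dvd_of_le hCL)
  have hCU : C ≤ normalizer (U : Set G) := by
    intro g hg
    obtain ⟨a, ha, n, hn, rfl⟩ := hfac C QC hCodd heq g hg
    refine mul_mem ?_ hn.2
    refine centralizer_le_normalizer _ (mem_centralizer_iff.2 fun u hu => ?_)
    have hcore := hfle (core_le_fq hCL hCn inf_le_right ha)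
    exact mem_centralizer_iff.1 ((hRD (hUR hu)).2) a hcore |>.symm
  refine ⟨U, hU1, hUY, hXU, fun g hg => ?_⟩
  obtain ⟨c, hc, hcg⟩ := exists_frattini QC (hCn hg)
  rw [heq] at hcg
  have h1 := mul_mem (hCU hc) (Bender.normalizer_le_normalizer_centerThompsonOf R hcg)
  rwa [mul_inv_cancel_left] at h1

/-- `O_p(L) ≤ O_p(Y)` when the elements of `O_p(L)` normalising the latter lie in `Y`. -/
theorem pc_le_pc_of_elements {p : ℕ} [Fact p.Prime] {L Y : Subgroup G} (hYL : Y ≤ L)
    (hkey : ∀ g ∈ pc p L, g ∈ normalizer (pc p Y : Set G) → g ∈ Y) : pc p L ≤ pc p Y := by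
  have hYnL : Y ≤ normalizer (pc p L : Set G) := hYL.trans (le_normalizer_pc p L)
  have hP : IsPGroup p (pc p L ⊔ pc p Y : Subgroup G) :=
    (isPGroup_pc p L).to_sup_of_normal_left' (isPGroup_pc p Y) ((pc_le p Y).trans hYnL)
  have hYP : Y ≤ normalizer ((pc p L ⊔ pc p Y : Subgroup G) : Set G) :=
    Signalizer.le_normalizer_sup hYnL (le_normalizer_pc p Y)
  have hPU : (pc p L ⊔ pc p Y) ⊓ Y ≤ pc p Y := le_pc (hP.to_le inf_le_left) inf_le_right
    (Signalizer.le_normalizer_inf hYP le_normalizer)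
  refine le_trans (le_sup_left : pc p L ≤ pc p L ⊔ pc p Y) ?_
  by_contra hnot
  have hlt : (pc p Y).subgroupOf (pc p L ⊔ pc p Y) < ⊤ :=
    lt_top_iff_ne_top.2 fun e => hnot (subgroupOf_eq_top.1 e)
  haveI : Group.IsNilpotent (pc p L ⊔ pc p Y : Subgroup G) := hP.isNilpotent
  obtain ⟨y, hy, hyU⟩ := SetLike.exists_of_lt (Group.normalizerCondition_of_isNilpotent _ hlt)
  obtain ⟨a, ha, b, hb, hab⟩ : (y : G) ∈ ((pc p L : Set G) * (pc p Y : Set G)) := by
    rw [← coe_mul_of_right_le_normalizer_left _ _ ((pc_le p Y).trans hYnL)]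
    exact y.2
  have hyN : (y : G) ∈ normalizer (pc p Y : Set G) :=
    Signalizer.mem_normalizer_of_conj_mem fun r hr =>
      (mem_normalizer_iff.1 hy
        (⟨r, le_sup_right (a := pc p L) hr⟩ : (pc p L ⊔ pc p Y : Subgroup G))).1 hr
  have hbY : b ∈ Y := pc_le p Y hb
  have haN : a ∈ normalizer (pc p Y : Set G) := by
    rw [show a = (y : G) * b⁻¹ by rw [← hab, mul_inv_cancel_right]]
    exact mul_mem hyN (inv_mem (le_normalizer hb))
  have hyY : (y : G) ∈ Y := hab ▸ Y.mul_mem (hkey a ha haN) hbY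
  exact hyU (hPU ⟨y.2, hyY⟩)

end Cfsg.Agent.CoreKilling.RankTwo
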