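import Cfsg.Agent.Lib.CoreKilling.RankTwo.Amb
import Cfsg.Agent.Lib.OrthMult.Lifts

/-!
# The bad shape of an involution centraliser in 2-rank two (owner: helper44)

* `Amb.BadSub` : a proper subgroup through `S` with the centralisers and the fusion of the noncentral
  involutions
* `Amb.shape` : its index is `p ∈ {3, 5}`, its order prime to `p`; an odd subgroup normalised by the
  centraliser of a noncentral involution has order dividing `p`
-/

set_option autoImplicit false
set_option linter.unusedSectionVars false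

namespace Cfsg.Agent.CoreKilling.RankTwo

open Subgroup
open scoped MatrixGroups

universe u

variable {Q : Type u} [Group Q] [Finite Q] {F : Type} [Field F] [Finite F] {z : Q}

/-- A homomorphism of `SL₂(q)`, `q ≥ 5`, to the permutations of three points is trivial. -/
theorem sl_hom_perm_three {α : Type*} [Finite α] (h5 : 5 ≤ Nat.card F) (hα : Nat.card α = 3)
    (f : Matrix.SpecialLinearGroup (Fin 2) F →* Equiv.Perm α) : f = 1 := by
  classical
  have := Fintype.ofFinite F
  have := Fintype.ofFinite α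
  haveI : Nontrivial α := Finite.one_lt_card_iff_nontrivial.1 (by omega)
  have hp := OrthMult.commutator_sl2_eq_top (F := F) (by rw [← Nat.card_eq_fintype_card]; omega)
  have hker : ∀ {B : Type} [CommGroup B] (g : Matrix.SpecialLinearGroup (Fin 2) F →* B), g = 1 := by
    intro B _ g
    refine MonoidHom.ext fun x => ?_
    have h1 : x ∈ commutator (Matrix.SpecialLinearGroup (Fin 2) F) := hp ▸ mem_top x
    exact MonoidHom.mem_ker.1 (Abelianization.commutator_subset_ker g h1)
  have hA : ∀ x, f x ∈ alternatingGroup α := fun x =>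
    Equiv.Perm.mem_alternatingGroup.2 (DFunLike.congr_fun (hker (Equiv.Perm.sign.comp f)) x)
  have hcard : Nat.card (alternatingGroup α) = 3 := by
    have h := two_mul_nat_card_alternatingGroup (α := α)
    rw [Nat.card_perm, hα] at h
    rw [show Nat.factorial 3 = 6 from rfl] at h
    omega
  haveI : IsCyclic (alternatingGroup α) := isCyclic_of_prime_card (p := 3) (hp := ⟨Nat.prime_three⟩) hcard
  letI : CommGroup (alternatingGroup α) := IsCyclic.commGroup
  refine MonoidHom.ext fun x => ?_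
  have h1 : x ∈ commutator (Matrix.SpecialLinearGroup (Fin 2) F) := hp ▸ mem_top x
  have := Abelianization.commutator_subset_ker (f.codRestrict (alternatingGroup α) hA) h1
  exact congrArg Subtype.val (MonoidHom.mem_ker.1 this)

/-- The automorphisms of a field of prime order are trivial. -/
theorem ringEquiv_refl_of_prime (h : (Nat.card F).Prime) (σ : F ≃+* F) : σ = RingEquiv.refl F := by
  haveI := Fact.mk h
  refine RingEquiv.ext fun x => ?_
  have hx : x ∈ AddSubgroup.zmultiples (1 : F) := by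
    rw [zmultiples_eq_top_of_prime_card (p := Nat.card F) rfl one_ne_zero]; trivial
  obtain ⟨k, rfl⟩ := hx
  simp

/-- What a bad centraliser looks like. -/
structure Shape (z : Q) (H : Subgroup Q) (p : ℕ) : Prop where
  prime : p.Prime
  ne_two : p ≠ 2
  small : p = 3 ∨ p = 5
  index : H.index = p
  exact' : ¬ p ∣ Nat.card H
  partner : ∀ d ∈ H, orderOf d = 2 → d ≠ z →
    ∃ d' ∈ H, orderOf d' = 2 ∧ d' ≠ z ∧ d' * d * d'⁻¹ = d * z
  dvd : ∀ d, orderOf d = 2 → d ≠ z → ∀ X : Subgroup Q, ¬ 2 ∣ Nat.card X →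
    centralizer ({d} : Set Q) ≤ normalizer (X : Set Q) → Nat.card X ∣ p

theorem Shape.eq_bot {H : Subgroup Q} {p : ℕ} (h : Shape z H p) {d : Q} (hd : orderOf d = 2)
    (hdz : d ≠ z) {X : Subgroup Q} (hX : ¬ 2 ∣ Nat.card X)
    (hn : centralizer ({d} : Set Q) ≤ normalizer (X : Set Q)) (hXH : X ≤ H) : X = ⊥ := by
  rw [← card_eq_one]
  rcases (Nat.dvd_prime h.prime).1 (h.dvd d hd hdz X hX hn) with e | e
  · exact e
  · exact absurd (e ▸ card_dvd_of_le hXH) h.exact'

/-- A proper subgroup through `S` with the centralisers and the fusion of the noncentral involutions. -/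
structure BadSub (A : Amb Q F z) (H : Subgroup Q) : Prop where
  le : (A.S : Subgroup Q) ≤ H
  ne : H ≠ ⊤
  ex : ∃ d ∈ A.S, orderOf d = 2 ∧ d ≠ z
  cent : ∀ d ∈ A.S, orderOf d = 2 → d ≠ z → centralizer ({d} : Set Q) ≤ H
  fus : ∀ d ∈ A.S, ∀ d' ∈ A.S, orderOf d = 2 → d ≠ z → orderOf d' = 2 → d' ≠ z →
    ∃ h ∈ H, h * d * h⁻¹ = d'

namespace Amb

variable (A : Amb Q F z)
include A

theorem conj_ne {d : Q} (hdz : d ≠ z) (g : Q) : g * d * g⁻¹ ≠ z := fun e =>
  hdz (mul_left_cancel (mul_right_cancel (e.trans (A.conj_z g).symm)))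

theorem z_mem_of_le {H : Subgroup Q} (h : (A.S : Subgroup Q) ≤ H) : z ∈ H := h A.hzS

section

variable {H : Subgroup Q} (B : BadSub A H)
include B

theorem conj_all {d d' : Q} (hd : orderOf d = 2) (hdz : d ≠ z) (hd' : orderOf d' = 2) (hdz' : d' ≠ z) :
    ∃ q, q * d * q⁻¹ = d' := by
  obtain ⟨g, hg⟩ := A.into (A.isPGroup_of_inv hd)
  obtain ⟨g', hg'⟩ := A.into (A.isPGroup_of_inv hd')
  obtain ⟨h, -, hh⟩ := B.fus _ (hg d (mem_zpowers d)) _ (hg' d' (mem_zpowers d'))
    (by rw [Involution.orderOf_conj, hd]) (A.conj_ne hdz g) (by rw [Involution.orderOf_conj, hd'])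
    (A.conj_ne hdz' g')
  refine ⟨g'⁻¹ * h * g, ?_⟩
  calc g'⁻¹ * h * g * d * (g'⁻¹ * h * g)⁻¹ = g'⁻¹ * (h * (g * d * g⁻¹) * h⁻¹) * g' := by group
    _ = g'⁻¹ * (g' * d' * g'⁻¹) * g' := by rw [hh]
    _ = d' := by group

/-- A noncentral involution of `H` goes into `S` inside `H`. -/
theorem to_sylow {d : Q} (hdH : d ∈ H) (hd : orderOf d = 2) : ∃ h ∈ H, h * d * h⁻¹ ∈ A.S := by
  haveI : Fact (Nat.Prime 2) := ⟨Nat.prime_two⟩
  obtain ⟨T, hT⟩ := ((A.isPGroup_of_inv hd).comap_of_injective H.subtype H.subtype_injective).exists_le_sylow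
  obtain ⟨g, hg⟩ := MulAction.exists_smul_eq H T (A.S.subtype B.le)
  refine ⟨g, g.2, ?_⟩
  have h1 : (⟨d, hdH⟩ : H) ∈ T := hT (mem_zpowers d)
  have h2 : g * ⟨d, hdH⟩ * g⁻¹ ∈ (A.S.subtype B.le : Sylow 2 H) := by
    rw [← hg]
    exact ⟨⟨d, hdH⟩, h1, rfl⟩
  exact h2

theorem pt_exists {d : Q} (hd : orderOf d = 2) (_hdz : d ≠ z) : ∃ o : Q ⧸ H, d • o = o := by
  obtain ⟨g, hg⟩ := A.into (A.isPGroup_of_inv hd)
  refine ⟨((g⁻¹ : Q) : Q ⧸ H), ?_⟩
  rw [MulAction.Quotient.smul_coe, smul_eq_mul, QuotientGroup.eq]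
  have h := inv_mem (B.le (hg d (mem_zpowers d)))
  have e : (d * g⁻¹)⁻¹ * g⁻¹ = (g * d * g⁻¹)⁻¹ := by group
  rwa [e]

theorem pt_unique {d : Q} (hd : orderOf d = 2) (hdz : d ≠ z) {o o' : Q ⧸ H} (ho : d • o = o)
    (ho' : d • o' = o') : o = o' := by
  obtain ⟨a, rfl⟩ := QuotientGroup.mk_surjective o
  obtain ⟨b, rfl⟩ := QuotientGroup.mk_surjective o'
  rw [MulAction.Quotient.smul_coe, smul_eq_mul, QuotientGroup.eq] at ho ho'
  have key : ∀ c : Q, (d * c)⁻¹ * c ∈ H → ∃ k, k ∈ H ∧ k * (c⁻¹ * d * c) * k⁻¹ ∈ A.S := fun c hc => by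
    have h1 : c⁻¹ * d * c ∈ H := by
      have := inv_mem hc
      rwa [_root_.mul_inv_rev, inv_inv, ← mul_assoc] at this
    have hd' : orderOf (c⁻¹ * d * c) = 2 := by
      have := Involution.orderOf_conj c⁻¹ d
      rw [inv_inv] at this; rw [this, hd]
    obtain ⟨k, hk, hkS⟩ := A.to_sylow B h1 hd'
    exact ⟨k, hk, hkS⟩
  obtain ⟨k, hk, hkS⟩ := key a ho
  obtain ⟨l, hl, hlS⟩ := key b ho'
  have hz : ∀ c k : Q, k * (c⁻¹ * d * c) * k⁻¹ ≠ z := fun c k => by
    refine A.conj_ne ?_ k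
    have := A.conj_ne hdz c⁻¹
    rwa [inv_inv] at this
  have ho2 : ∀ c k : Q, orderOf (k * (c⁻¹ * d * c) * k⁻¹) = 2 := fun c k => by
    rw [show k * (c⁻¹ * d * c) * k⁻¹ = (k * c⁻¹) * d * (k * c⁻¹)⁻¹ by group, Involution.orderOf_conj, hd]
  obtain ⟨m, hm, hmm⟩ := B.fus _ hkS _ hlS (ho2 a k) (hz a k) (ho2 b l) (hz b l)
  have hc : (m * k * a⁻¹) * (b * l⁻¹) ∈ centralizer ({l * (b⁻¹ * d * b) * l⁻¹} : Set Q) := by
    rw [mem_centralizer_singleton_iff]
    have h1 : (m * k * a⁻¹) * d = (l * (b⁻¹ * d * b) * l⁻¹) * (m * k * a⁻¹) := by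
      rw [← hmm]; group
    calc (m * k * a⁻¹) * (b * l⁻¹) * (l * (b⁻¹ * d * b) * l⁻¹)
        = (m * k * a⁻¹) * d * (b * l⁻¹) := by group
      _ = _ := by rw [h1]; group
  have h2 := B.cent _ hlS (ho2 b l) (hz b l) hc
  refine QuotientGroup.eq.2 ?_
  have h3 := mul_mem (inv_mem (mul_mem hm hk)) (mul_mem h2 hl)
  have e : (m * k)⁻¹ * (m * k * a⁻¹ * (b * l⁻¹) * l) = a⁻¹ * b := by group
  rwa [e] at h3

theorem card_centralizer {d : Q} (hd : orderOf d = 2) (hdz : d ≠ z) :
    Nat.card (centralizer ({d} : Set Q)) * Nat.card {e : Q // orderOf e = 2 ∧ e ≠ z} = Nat.card Q := by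
  rw [← card_mul_index (centralizer ({d} : Set Q))]
  congr 1
  have hc : ∀ e : {e : Q // orderOf e = 2 ∧ e ≠ z}, ∃ q, q * d * q⁻¹ = e.1 :=
    fun e => A.conj_all B hd hdz e.2.1 e.2.2
  choose q hq using hc
  refine Nat.card_eq_of_bijective (fun e => ((q e : Q) : Q ⧸ centralizer ({d} : Set Q))) ⟨?_, ?_⟩
  · intro e e' h
    have h1 := mem_centralizer_singleton_iff.1 (QuotientGroup.eq.1 h)
    refine Subtype.ext ?_
    rw [← hq e, ← hq e']
    calc q e * d * (q e)⁻¹ = q e * (d * ((q e)⁻¹ * q e')) * (q e')⁻¹ := by group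
      _ = q e * ((q e)⁻¹ * q e' * d) * (q e')⁻¹ := by rw [h1]
      _ = _ := by group
  · intro o
    obtain ⟨r, rfl⟩ := QuotientGroup.mk_surjective o
    let e : {e : Q // orderOf e = 2 ∧ e ≠ z} :=
      ⟨r * d * r⁻¹, by rw [Involution.orderOf_conj, hd], A.conj_ne hdz r⟩
    refine ⟨e, QuotientGroup.eq.2 ?_⟩
    rw [mem_centralizer_singleton_iff]
    have h1 : q e * d * (q e)⁻¹ = r * d * r⁻¹ := hq e
    calc (q e)⁻¹ * r * d = (q e)⁻¹ * (r * d * r⁻¹) * r := by group
      _ = (q e)⁻¹ * (q e * d * (q e)⁻¹) * r := by rw [h1]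
      _ = _ := by group

/-- The shape. -/
theorem shape : ∃ p, Shape z H p := by
  classical
  haveI : Fact (Nat.Prime 2) := ⟨Nat.prime_two⟩
  obtain ⟨d0, hd0S, hd0, hd0z⟩ := B.ex
  obtain ⟨y0, hy0, hdet⟩ := A.exists_rep hd0 hd0z
  set δ := (Tri.mat y0).det with hδdef
  let x0 : Tri F δ := ⟨y0, by rw [hδdef, det_mat']⟩
  have h0 : A.Rep d0 x0.1 := hy0
  have hδ : δ ≠ 0 := hdet
  let ψ : Tri F δ → Q := A.psi hδ d0 x0
  have hψo : ∀ x, orderOf (ψ x) = 2 := A.psi_order hδ hd0 hd0z h0
  have hψz : ∀ x, ψ x ≠ z := A.psi_ne hδ hd0 hd0z h0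
  have hψi : Function.Injective ψ := A.psi_injective hδ hd0 hd0z h0
  have hψs : ∀ d, orderOf d = 2 → d ≠ z → ∃ x, ψ x = d := fun d hd hdz =>
    A.psi_surjective hδ hd0 hd0z h0 hd (A.conj_all B hd0 hd0z hd hdz)
  have hψneg : ∀ x, ψ (-x) = ψ x * z := A.psi_neg hδ hd0 hd0z h0
  have hψorth : ∀ x y : Tri F δ, Tri.bil x.1 y.1 = 0 → ψ y * ψ x * (ψ y)⁻¹ = ψ x * z :=
    fun x y hxy => A.psi_orth hδ hd0 hd0z h0 hxy
  choose f hf using fun x => A.pt_exists B (hψo x) (hψz x)
  have huniq : ∀ x o, ψ x • o = o → o = f x := fun x o ho => A.pt_unique B (hψo x) (hψz x) ho (hf x)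
  have hzfix : ∀ o : Q ⧸ H, z • o = o := fun o => by
    obtain ⟨a, rfl⟩ := QuotientGroup.mk_surjective o
    rw [MulAction.Quotient.smul_coe, smul_eq_mul, QuotientGroup.eq, ← (A.commz a).eq,
      _root_.mul_inv_rev, inv_mul_cancel_right]
    exact inv_mem (B.le A.hzS)
  have hneg : ∀ x, f (-x) = f x := fun x => (huniq (-x) (f x) (by
    rw [hψneg, mul_smul, hzfix, hf])).symm
  have horth : ∀ x y : Tri F δ, Tri.bil x.1 y.1 = 0 → f x = f y := by
    intro x y hxy
    refine huniq y (f x) ?_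
    refine A.pt_unique B (hψo x) (hψz x) ?_ (hf x)
    have h1 := hψorth x y hxy
    have hyy : ψ y * ψ y = 1 := by
      have := pow_orderOf_eq_one (ψ y); rwa [hψo y, sq] at this
    calc ψ x • ψ y • f x = ψ y • ((ψ y)⁻¹ * ψ x * ψ y) • f x := by
          rw [← mul_smul, ← mul_smul, ← mul_assoc, ← mul_assoc, mul_inv_cancel, one_mul]
      _ = ψ y • (ψ x * z) • f x := by
          rw [← h1, inv_eq_of_mul_eq_one_right hyy]
      _ = ψ y • f x := by rw [mul_smul, hzfix, hf]
  have hfib_le : ∀ (o : Q ⧸ H) (q : Q),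
      Nat.card {x : Tri F δ // f x = o} ≤ Nat.card {x : Tri F δ // f x = q • o} := by
    intro o q
    have hc : ∀ x : {x : Tri F δ // f x = o}, ∃ y, ψ y = q * ψ x.1 * q⁻¹ := fun x =>
      hψs _ (by rw [Involution.orderOf_conj]; exact hψo _) (A.conj_ne (hψz _) q)
    choose y hy using hc
    refine Nat.card_le_card_of_injective (fun x => ⟨y x, (huniq (y x) (q • o) ?_).symm⟩) ?_
    · have e := hf x.1
      rw [x.2] at e
      rw [hy, mul_smul, mul_smul, inv_smul_smul, e]
    · intro a b e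
      have h1 := hy a
      rw [show y a = y b from congrArg Subtype.val e, hy b] at h1
      exact Subtype.ext (hψi (mul_left_cancel (mul_right_cancel h1)).symm)
  have hfib : ∀ o : Q ⧸ H, Nat.card {x : Tri F δ // f x = o} =
      Nat.card {x : Tri F δ // f x = ((1 : Q) : Q ⧸ H)} := by
    intro o
    obtain ⟨a, rfl⟩ := QuotientGroup.mk_surjective o
    have e1 : a • ((1 : Q) : Q ⧸ H) = ((a : Q) : Q ⧸ H) := by
      rw [MulAction.Quotient.smul_coe, smul_eq_mul, mul_one]
    refine le_antisymm ?_ (e1 ▸ hfib_le _ a)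
    have := hfib_le (a : Q ⧸ H) a⁻¹
    rwa [← e1, inv_smul_smul, e1] at this
  have hn : Odd (Nat.card (Q ⧸ H)) := by
    rw [← index_eq_card, Nat.odd_iff, ← Nat.two_dvd_ne_zero]
    exact fun h => A.S.not_dvd_index (h.trans (index_dvd_of_le B.le))
  have hn1 : Nat.card (Q ⧸ H) ≠ 1 := by
    rw [← index_eq_card]; exact fun e => B.ne (index_eq_one.1 e)
  have hn3 : 5 ≤ Nat.card F → Nat.card (Q ⧸ H) ≠ 3 := by
    intro h5 h3
    have hfix := sl_hom_perm_three h5 h3
      (((MulAction.toPermHom Q (Q ⧸ H)).comp (commutator Q).subtype).comp A.e.symm.toMonoidHom)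
    have hl : ∀ (l : commutator Q) (o : Q ⧸ H), (l : Q) • o = o := fun l o => by
      have := DFunLike.congr_fun (DFunLike.congr_fun hfix (A.e l)) o
      simpa using this
    have hfc : ∀ x, f x = f x0 := fun x => by
      have hp : ∀ w : Tri F δ, ∀ o : Q ⧸ H, ψ w • o = d0 • o := fun w o => by
        show (A.psi hδ d0 x0 w) • o = _
        rw [Amb.psi, mul_smul, mul_smul, ← Subgroup.coe_inv, hl, hl]
      refine (huniq x (f x0) ?_).symm
      rw [hp x, ← hp x0, hf]
    haveI : Nontrivial (Q ⧸ H) := Finite.one_lt_card_iff_nontrivial.1 (by omega)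
    obtain ⟨o, ho⟩ := exists_ne (f x0)
    have h1 := hfib o
    have h2 := hfib (f x0)
    haveI : IsEmpty {x : Tri F δ // f x = o} := ⟨fun x => ho (x.2.symm.trans (hfc x.1))⟩
    haveI : Nonempty {x : Tri F δ // f x = f x0} := ⟨⟨x0, rfl⟩⟩
    rw [Nat.card_of_isEmpty, ← h2] at h1
    exact Nat.card_pos.ne' h1.symm
  obtain ⟨⟨-, htri⟩, hcases⟩ := Tri.blocks A.hodd hδ f hneg horth _ hfib hn hn1 hn3
  -- the cardinalities
  set p := Nat.card F with hp
  have hindex : H.index = p := by rw [index_eq_card]; omega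
  have hpp : p.Prime := by rcases hcases with h | h <;> rw [h.1] <;> norm_num
  have hp2 : p ≠ 2 := by omega
  have hD : Nat.card {e : Q // orderOf e = 2 ∧ e ≠ z} = Nat.card (Tri F δ) :=
    (Nat.card_eq_of_bijective (fun x => ⟨ψ x, hψo x, hψz x⟩) ⟨fun a b e => hψi (congrArg Subtype.val e),
      fun e => (hψs e.1 e.2.1 e.2.2).imp fun x hx => Subtype.ext hx⟩).symm
  have h2 := A.h2
  set c := Nat.card A.act.ker with hc
  set r := Nat.card A.act.range with hr
  have hQ : Nat.card Q = c * r := by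
    rw [← card_mul_index A.act.ker, index_ker]
  have hr1 : r ∣ p * (p ^ 2 - 1) := by
    rw [← card_range_conjSL (F := F)]
    refine card_dvd_of_le ?_
    rintro _ ⟨q, rfl⟩
    obtain ⟨g, σ, hg⟩ := exists_semiSL A.hodd (A.act q)
    rw [ringEquiv_refl_of_prime hpp σ] at hg
    exact ⟨g, (MulEquiv.ext hg).symm⟩
  have hkerC : ∀ d, orderOf d = 2 → A.act.ker ≤ centralizer ({d} : Set Q) := fun d hd k hk =>
    mem_centralizer_singleton_iff.2 (A.ker_comm (A.isPGroup_of_inv hd) hk).symm.eq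
  have hr2 : p * (p + 1) ∣ r := by
    obtain ⟨k, hk⟩ := card_dvd_of_le (hkerC d0 hd0)
    have h := A.card_centralizer B hd0 hd0z
    rw [hk, hQ, hD, htri, mul_assoc] at h
    exact ⟨k, (Nat.eq_of_mul_eq_mul_left Nat.card_pos h).symm.trans (mul_comm _ _)⟩
  obtain ⟨a, ha⟩ := IsPGroup.iff_card.1 A.S.isPGroup'
  obtain ⟨b, hb⟩ := IsPGroup.iff_card.1 A.ker_isPGroup
  have hkc : A.act.ker.subgroupOf (A.S : Subgroup Q) ≤ center (A.S : Subgroup Q) := fun k hk =>
    mem_center_iff.2 fun s => Subtype.ext ((A.ker_central (mem_subgroupOf.1 hk)).2 _ s.2).eq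
  have hkS : A.act.ker ≤ (A.S : Subgroup Q) := fun k hk => (A.ker_central hk).1
  have hkcard : Nat.card (A.act.ker.subgroupOf (A.S : Subgroup Q)) = c :=
    Nat.card_congr (subgroupOfEquivOfLe hkS).toEquiv
  have hcS : 8 * c ≤ 2 ^ a := by
    have h8 := A.facts.card
    have := card_le_of_le hkc
    rw [ha] at h8
    omega
  have hab : b + 3 ≤ a := by
    rw [hc, hb, show 8 = 2 ^ 3 by norm_num, ← pow_add] at hcS
    have := (Nat.pow_le_pow_iff_right (a := 2) one_lt_two).1 hcS
    omega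
  have hr8 : 8 ∣ r := by
    have h1 : 2 ^ (b + 3) ∣ c * r := by
      rw [← hQ]
      exact (pow_dvd_pow 2 hab).trans (ha ▸ card_subgroup_dvd_card _)
    rw [hc, hb, pow_add] at h1
    exact Nat.dvd_of_mul_dvd_mul_left (by positivity) h1
  have hrval : r = p * (p ^ 2 - 1) := by
    refine Nat.dvd_antisymm hr1 ?_
    have hl := Nat.lcm_dvd hr2 hr8
    rcases hcases with h | h <;> rw [h.1] at hl ⊢ <;> exact hl
  have hcentcard : ∀ d, orderOf d = 2 → d ≠ z →
      Nat.card (centralizer ({d} : Set Q)) = c * (p - 1) := by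
    intro d hd hdz
    have h := A.card_centralizer B hd hdz
    rw [hQ, hD, htri, hrval] at h
    rcases hcases with h' | h' <;> rw [h'.1] at h ⊢ <;> norm_num at h ⊢ <;> omega
  refine ⟨p, ⟨hpp, hp2, hcases.imp And.left And.left, hindex, ?_, ?_, ?_⟩⟩
  · intro hdvd
    have h := card_mul_index H
    rw [hindex, hQ, hrval] at h
    have h2p : p * p ∣ c * (p * (p ^ 2 - 1)) := h ▸ Nat.mul_dvd_mul_right hdvd p
    rw [mul_left_comm] at h2p
    have h3 := Nat.dvd_of_mul_dvd_mul_left hpp.pos h2p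
    rcases hpp.dvd_mul.1 h3 with h4 | h4
    · rw [hc, hb] at h4
      exact hp2 ((Nat.prime_dvd_prime_iff_eq hpp Nat.prime_two).1 (hpp.dvd_of_dvd_pow h4))
    · rcases hcases with h' | h' <;> rw [h'.1] at h4 <;> norm_num at h4
  · intro d hdH hd hdz
    obtain ⟨x, rfl⟩ := hψs d hd hdz
    obtain ⟨⟨y, hy⟩⟩ : Nonempty {y : Tri F δ // Tri.bil x.1 y.1 = 0} := by
      have := (Tri.card_orth_ge h2 hδ x).1
      exact (Nat.card_pos_iff.1 (by omega)).1
    refine ⟨ψ y, ?_, hψo y, hψz y, hψorth x y hy⟩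
    have hbase : ∀ w, ψ w ∈ H ↔ ψ w • ((1 : Q) : Q ⧸ H) = ((1 : Q) : Q ⧸ H) := fun w => by
      rw [MulAction.Quotient.smul_coe, smul_eq_mul, QuotientGroup.eq, mul_one, mul_one, inv_mem_iff]
    rw [hbase] at hdH ⊢
    rw [huniq x _ hdH, horth x y hy]
    exact hf y
  · intro d hd hdz X hX hnX
    have hXK : ∀ x ∈ X, x ∈ A.act.ker → x = 1 := fun x hx hk => by
      obtain ⟨k, hk'⟩ := A.ker_pow hk
      have h1 : orderOf x ∣ 2 ^ k := orderOf_dvd_of_pow_eq_one hk'
      have h2' : orderOf x ∣ Nat.card X := Subgroup.orderOf_dvd_natCard X hx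
      have hcop : Nat.Coprime (2 ^ k) (Nat.card X) :=
        ((Nat.prime_two.coprime_iff_not_dvd).2 hX).pow_left k
      exact orderOf_eq_one_iff.1 (Nat.eq_one_of_dvd_coprimes hcop h1 h2')
    have hXr : Nat.card X ∣ r := by
      have hinj : Function.Injective (A.act.comp X.subtype) := (injective_iff_map_eq_one _).2 fun x hx =>
        Subtype.ext (hXK x x.2 (MonoidHom.mem_ker.2 hx))
      rw [Nat.card_congr (MonoidHom.ofInjective hinj).toEquiv]
      exact card_dvd_of_le (by rintro _ ⟨x, rfl⟩; exact ⟨x, rfl⟩)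
    rw [hrval] at hXr
    have hcop : Nat.Coprime (Nat.card X) 8 := by
      rw [show 8 = 2 ^ 3 by norm_num]
      exact Nat.Coprime.pow_right 3 ((Nat.prime_two.coprime_iff_not_dvd).2 hX).symm
    rcases hcases with ⟨h3, -⟩ | ⟨h5, -⟩
    · rw [h3] at hXr ⊢
      norm_num at hXr
      exact hcop.dvd_of_dvd_mul_right (show Nat.card X ∣ 3 * 8 by norm_num; exact hXr)
    rw [h5] at hXr hrval ⊢
    norm_num at hXr hrval
    have h15 : Nat.card X ∣ 15 := hcop.dvd_of_dvd_mul_right (show Nat.card X ∣ 15 * 8 by norm_num; exact hXr)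
    have hC : Nat.card (centralizer ({d} : Set Q)) = c * 4 := by
      rw [hcentcard d hd hdz, h5]
    have hC2 : IsPGroup 2 (centralizer ({d} : Set Q)) :=
      IsPGroup.of_card (n := b + 2) (by rw [hC, hc, hb, pow_add]; norm_num)
    -- `Z(S)` is the kernel
    have hZ : center (A.S : Subgroup Q) ≤ A.act.ker.subgroupOf (A.S : Subgroup Q) := by
      refine (eq_of_le_of_card_ge hkc ?_).ge
      have h1 : 2 ^ a ∣ 2 ^ (b + 3) * 15 := by
        have := ha ▸ card_subgroup_dvd_card (A.S : Subgroup Q)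
        rw [hQ, hrval, hc, hb] at this
        rw [pow_add]
        convert this using 1
        ring
      have h2' := (Nat.Coprime.pow_left a (by norm_num : Nat.Coprime 2 15)).dvd_of_dvd_mul_right h1
      have := (Nat.pow_dvd_pow_iff_le_right one_lt_two).1 h2'
      have h8 := A.facts.card
      rw [ha, show a = b + 3 by omega, pow_add] at h8
      rw [hkcard, hc, hb]
      omega
    obtain ⟨t, ht, ht2⟩ : ∃ t ∈ centralizer ({d} : Set Q), t * t ∉ A.act.ker := by
      by_contra hh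
      push Not at hh
      obtain ⟨g, hg⟩ := A.into hC2
      have hdc : d ∈ centralizer ({d} : Set Q) := mem_centralizer_singleton_iff.2 rfl
      have hall : ∀ t ∈ centralizer ({d} : Set Q), t ∈ A.act.ker ∨ t * d ∈ A.act.ker := by
        intro t ht
        have hN := MonoidHom.normal_ker A.act
        have hcm : Commute (g * t * g⁻¹) (g * d * g⁻¹) :=
          Commute.map (mem_centralizer_singleton_iff.1 ht : Commute t d) (MulAut.conj g).toMonoidHom
        have hback : ∀ u : Q, g * u * g⁻¹ ∈ A.act.ker → u ∈ A.act.ker := fun u hu => by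
          simpa [mul_assoc] using hN.conj_mem _ hu g⁻¹
        rcases A.facts.cab ⟨_, hg d hdc⟩ ⟨_, hg t ht⟩
          (by rw [Subgroup.orderOf_mk, Involution.orderOf_conj, hd])
          (fun e => A.conj_ne hdz g (congrArg Subtype.val e)) (Subtype.ext hcm.eq) (hkc (by
            rw [mem_subgroupOf, Subgroup.coe_mul]
            show g * t * g⁻¹ * (g * t * g⁻¹) ∈ A.act.ker
            rw [conj_mul]
            exact hN.conj_mem _ (hh t ht) g)) with h | h
        · exact Or.inl (hback t (mem_subgroupOf.1 (hZ h)))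
        · refine Or.inr (hback _ ?_)
          have := mem_subgroupOf.1 (hZ h)
          rwa [Subgroup.coe_mul, conj_mul] at this
      have hle : Nat.card (centralizer ({d} : Set Q)) ≤ Nat.card (Bool × A.act.ker) := by
        refine Nat.card_le_card_of_injective (fun t => if h : t.1 ∈ A.act.ker then (true, ⟨t.1, h⟩)
          else (false, ⟨t.1 * d, (hall t.1 t.2).resolve_left h⟩)) ?_
        intro t t' e
        by_cases h1 : t.1 ∈ A.act.ker <;> by_cases h1' : t'.1 ∈ A.act.ker <;> simp [h1, h1'] at e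
        · exact e
        · exact e
      rw [hC, Nat.card_prod, Nat.card_eq_fintype_card (α := Bool), Fintype.card_bool] at hle
      have : 0 < c := Nat.card_pos
      omega
    -- then `d` is the square of `t`
    have ht4 : (t * t) * (t * t) ∈ A.act.ker := by
      set φ := A.act.comp (centralizer ({d} : Set Q)).subtype
      have hker : Nat.card φ.ker = c := by
        rw [show φ.ker = A.act.ker.subgroupOf (centralizer ({d} : Set Q)) from rfl]
        exact Nat.card_congr (subgroupOfEquivOfLe (hkerC d hd)).toEquiv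
      have h4 : Nat.card φ.range = 4 := by
        have h := card_mul_index φ.ker
        rw [index_ker, hker, hC] at h
        exact Nat.eq_of_mul_eq_mul_left Nat.card_pos h
      have := pow_card_eq_one' (G := φ.range) (x := ⟨φ ⟨t, ht⟩, ⟨_, rfl⟩⟩)
      rw [h4] at this
      have h1 : A.act t ^ 4 = 1 := congrArg Subtype.val this
      rw [MonoidHom.mem_ker, map_mul, map_mul]
      rw [pow_succ, pow_succ, pow_succ, pow_one, mul_assoc _ (A.act t) (A.act t)] at h1
      exact h1
    have htd : t * t * d ∈ A.act.ker := by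
      obtain ⟨g, hg⟩ := A.into hC2
      have hN := MonoidHom.normal_ker A.act
      have hdc : d ∈ centralizer ({d} : Set Q) := mem_centralizer_singleton_iff.2 rfl
      have hcm : Commute (g * (t * t) * g⁻¹) (g * d * g⁻¹) :=
        Commute.map (Commute.mul_left (mem_centralizer_singleton_iff.1 ht : Commute t d)
          (mem_centralizer_singleton_iff.1 ht : Commute t d)) (MulAut.conj g).toMonoidHom
      have hback : ∀ u : Q, g * u * g⁻¹ ∈ A.act.ker → u ∈ A.act.ker := fun u hu => by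
        simpa [mul_assoc] using hN.conj_mem _ hu g⁻¹
      rcases A.facts.cab ⟨_, hg d hdc⟩ ⟨_, hg _ (mul_mem ht ht)⟩
        (by rw [Subgroup.orderOf_mk, Involution.orderOf_conj, hd])
        (fun e => A.conj_ne hdz g (congrArg Subtype.val e)) (Subtype.ext hcm.eq) (hkc (by
          rw [mem_subgroupOf, Subgroup.coe_mul]
          show g * (t * t) * g⁻¹ * (g * (t * t) * g⁻¹) ∈ A.act.ker
          rw [conj_mul]
          exact hN.conj_mem _ ht4 g)) with h | h
      · exact absurd (hback _ (mem_subgroupOf.1 (hZ h))) ht2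
      · have h' := mem_subgroupOf.1 (hZ h)
        rw [Subgroup.coe_mul, conj_mul] at h'
        exact hback _ h'
    by_contra hne
    have h3X : 3 ∣ Nat.card X := by
      have : Nat.card X ∈ Nat.divisors 15 := Nat.mem_divisors.2 ⟨h15, by norm_num⟩
      rw [show Nat.divisors 15 = {1, 3, 5, 15} by decide] at this
      simp at this
      rcases this with h | h | h | h <;> simp [h] at hne ⊢
    haveI : Fact (Nat.Prime 3) := ⟨Nat.prime_three⟩
    obtain ⟨x, hx⟩ := exists_prime_orderOf_dvd_card' (G := X) 3 h3X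
    have hthree : ∀ y : X, orderOf y = 3 → y ∈ zpowers x := by
      have hidx : ∀ T : Sylow 3 X, Nat.card T = 3 ∧ T.index ∣ 5 := fun T => by
        obtain ⟨k, hk⟩ := IsPGroup.iff_card.1 T.isPGroup'
        have hd1 : 3 ^ k ∣ 15 := (hk ▸ card_subgroup_dvd_card (T : Subgroup X)).trans h15
        have hk1 : k ≤ 1 := by
          by_contra hk2
          have := (pow_dvd_pow 3 (by omega : 2 ≤ k)).trans hd1
          norm_num at this
        have hk0 : k ≠ 0 := by
          rintro rfl
          have := T.not_dvd_index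
          have h := card_mul_index (T : Subgroup X)
          rw [hk, pow_zero, one_mul] at h
          exact this (h ▸ h3X)
        have hk' : Nat.card T = 3 := by rw [hk, show k = 1 by omega, pow_one]
        refine ⟨hk', ?_⟩
        have h := card_mul_index (T : Subgroup X)
        rw [hk'] at h
        exact Nat.dvd_of_mul_dvd_mul_left (by norm_num : 0 < 3) (show 3 * T.index ∣ 3 * 5 by rw [h]; exact h15)
      have hsub : ∀ T T' : Sylow 3 X, T = T' := by
        intro T T'
        have h1 := (Sylow.card_dvd_index T).trans (hidx T).2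
        have h2' := card_sylow_modEq_one 3 X
        have : Subsingleton (Sylow 3 X) := by
          refine Finite.card_le_one_iff_subsingleton.1 ?_
          rcases (Nat.dvd_prime (by norm_num : Nat.Prime 5)).1 h1 with h | h
          · exact h.le
          · rw [h] at h2'; exact absurd h2' (by decide)
        exact Subsingleton.elim T T'
      intro y hy
      obtain ⟨T, hT⟩ := (IsPGroup.of_card (G := zpowers x) (p := 3) (n := 1)
        (by rw [Nat.card_zpowers, hx, pow_one])).exists_le_sylow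
      obtain ⟨T', hT'⟩ := (IsPGroup.of_card (G := zpowers y) (p := 3) (n := 1)
        (by rw [Nat.card_zpowers, hy, pow_one])).exists_le_sylow
      rw [← hsub T T'] at hT'
      rw [eq_of_le_of_card_ge hT (by rw [(hidx T).1, Nat.card_zpowers, hx])]
      exact hT' (mem_zpowers y)
    have hxo : orderOf (x : Q) = 3 := by rw [Subgroup.orderOf_coe, hx]
    have hmv : t * x * t⁻¹ = x ∨ t * x * t⁻¹ = (x : Q)⁻¹ := by
      have hm : t * x * t⁻¹ ∈ X := (mem_normalizer_iff.1 (hnX ht) x).1 x.2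
      have hy := hthree ⟨_, hm⟩ (by rw [← Subgroup.orderOf_coe, Subgroup.coe_mk, Involution.orderOf_conj, hxo])
      obtain ⟨i, hi⟩ := mem_zpowers_iff.1 hy
      have hi' : (x : Q) ^ i = t * x * t⁻¹ := by
        have := congrArg Subtype.val hi
        rwa [SubgroupClass.coe_zpow] at this
      rw [← zpow_mod_orderOf, hxo] at hi'
      have h0 : (i % (3 : ℕ)) = 0 ∨ i % (3 : ℕ) = 1 ∨ i % (3 : ℕ) = 2 := by omega
      rcases h0 with h | h | h <;> rw [h] at hi'
      · rw [zpow_zero] at hi'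
        exact absurd (conj_eq_one_iff.1 hi'.symm) (by intro e; rw [e, orderOf_one] at hxo; omega)
      · rw [zpow_one] at hi'; exact Or.inl hi'.symm
      · refine Or.inr (hi'.symm.trans ?_)
        rw [show (2 : ℤ) = ((2 : ℕ) : ℤ) from rfl, zpow_natCast, eq_inv_iff_mul_eq_one, ← pow_succ,
          show 2 + 1 = orderOf (x : Q) by rw [hxo], pow_orderOf_eq_one]
    have htx : Commute (t * t) (x : Q) := by
      refine mul_inv_eq_iff_eq_mul.1 ?_
      rw [show t * t * (x : Q) * (t * t)⁻¹ = t * (t * x * t⁻¹) * t⁻¹ by group]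
      rcases hmv with h | h <;> rw [h]
      · exact h
      · rw [← conj_inv, h, inv_inv]
    have hcx : Commute (t * t * d) (x : Q) := by
      have hkx : t * t * d * x * (t * t * d)⁻¹ ∈ X :=
        (mem_normalizer_iff.1 (hnX (hkerC d hd htd)) x).1 x.2
      have h1 : t * t * d * x * (t * t * d)⁻¹ * (x : Q)⁻¹ ∈ X := mul_mem hkx (inv_mem x.2)
      have h2' : t * t * d * x * (t * t * d)⁻¹ * (x : Q)⁻¹ ∈ A.act.ker := by
        rw [mul_assoc, mul_assoc]
        refine mul_mem htd ?_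
        rw [← mul_assoc]
        exact (MonoidHom.normal_ker A.act).conj_mem _ (inv_mem htd) (x : Q)
      exact mul_inv_eq_iff_eq_mul.1 (mul_inv_eq_one.1 (hXK _ h1 h2'))
    have hdx : Commute (x : Q) d := by
      have h := (htx.inv_left.mul_left hcx)
      rw [inv_mul_cancel_left] at h
      exact h.symm
    have hxC : (x : Q) ∈ centralizer ({d} : Set Q) := mem_centralizer_singleton_iff.2 hdx.eq
    obtain ⟨k, hk⟩ := hC2 ⟨_, hxC⟩
    have h1 : (x : Q) ^ 2 ^ k = 1 := congrArg Subtype.val hk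
    have h3 := orderOf_dvd_of_pow_eq_one h1
    rw [hxo] at h3
    have := (Nat.prime_dvd_prime_iff_eq Nat.prime_three Nat.prime_two).1 (Nat.prime_three.dvd_of_dvd_pow h3)
    omega

end

end Amb

end Cfsg.Agent.CoreKilling.RankTwo
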