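import Cfsg.Agent.Lib.PSL2.Involutions
import Cfsg.Agent.Lib.Linear.GenTools

/-!
# Trace zero matrices of given determinant and their orthogonality graph (owner: helper44)

* `Tri F δ` : the triples `(a, b, c)` with `det !![a, b; c, -a] = δ`, `bil` the polar form
* `Tri.conj` : they are conjugate under `SL₂`
* `Tri.common_orth` : two of them have one common orthogonal up to sign
* `Tri.blocks` : a map on them constant on orthogonal pairs, with fibres of equal size and an odd
  number `≠ 1` of values (`≠ 3` if `q ≥ 5`): the form is split and `q = n ∈ {3, 5}`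
-/

set_option autoImplicit false

namespace Cfsg.Agent.CoreKilling.RankTwo

open Matrix

variable {F : Type*} [Field F]

/-- The triples of trace zero matrices of determinant `δ`. -/
abbrev Tri (F : Type*) [Field F] (δ : F) : Type _ :=
  {x : F × F × F // -x.1 ^ 2 - x.2.1 * x.2.2 = δ}

namespace Tri

variable {δ : F}

/-- The matrix. -/
def mat (x : F × F × F) : Matrix (Fin 2) (Fin 2) F := !![x.1, x.2.1; x.2.2, -x.1]

theorem mat_injective : Function.Injective (mat : F × F × F → Matrix (Fin 2) (Fin 2) F) := by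
  intro x y h
  have a := congrFun (congrFun h 0) 0
  have b := congrFun (congrFun h 0) 1
  have c := congrFun (congrFun h 1) 0
  simp [mat] at a b c
  exact Prod.ext a (Prod.ext b c)

/-- The polar form. -/
def bil (x y : F × F × F) : F := 2 * x.1 * y.1 + x.2.1 * y.2.2 + x.2.2 * y.2.1

theorem mat_mul_self (x : Tri F δ) :
    mat x.1 * mat x.1 = (-δ) • (1 : Matrix (Fin 2) (Fin 2) F) := by
  obtain ⟨⟨a, b, c⟩, h⟩ := x
  simp only at h
  ext i j
  fin_cases i <;> fin_cases j <;> simp [mat, Matrix.mul_apply, Fin.sum_univ_two] <;>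
    first
      | linear_combination -h
      | linear_combination (0 : F) * h

theorem det_mat (x : Tri F δ) : (mat x.1).det = δ := by
  obtain ⟨⟨a, b, c⟩, h⟩ := x
  simp only at h
  simp [mat, Matrix.det_fin_two]
  linear_combination h

theorem anticommute_iff (x y : F × F × F) :
    mat x * mat y = -(mat y * mat x) ↔ bil x y = 0 := by
  constructor
  · intro h
    have := congrFun (congrFun h 0) 0
    simp [mat, Matrix.mul_apply, Fin.sum_univ_two] at this
    simp only [bil]
    linear_combination this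
  · intro h
    simp only [bil] at h
    ext i j
    fin_cases i <;> fin_cases j <;> simp [mat, Matrix.mul_apply, Fin.sum_univ_two] <;>
      first
        | linear_combination h
        | linear_combination (0 : F) * h

theorem bil_comm (x y : F × F × F) : bil x y = bil y x := by simp only [bil]; ring

theorem exists_quad [Finite F] (h2 : (2 : F) ≠ 0) {e : F} (he : e ≠ 0) (d : F) :
    ∃ a b : F, a ^ 2 + e * b ^ 2 = d := by
  have := Fintype.ofFinite F
  have hne : ringChar F ≠ 2 := fun h => by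
    have : CharP F 2 := ringChar.of_eq h
    exact h2 (by exact_mod_cast CharP.cast_eq_zero F 2)
  obtain ⟨a, b, hab⟩ := FiniteField.exists_root_sum_quadratic (f := (Polynomial.X ^ 2 : Polynomial F))
    (g := Polynomial.C e * Polynomial.X ^ 2 + Polynomial.C (-d)) (Polynomial.degree_X_pow 2)
    (by
      rw [Polynomial.degree_add_eq_left_of_degree_lt] <;> rw [Polynomial.degree_C_mul_X_pow 2 he]
      · norm_num
      · exact (Polynomial.degree_C_le (R := F) (a := -d)).trans_lt (WithBot.coe_lt_coe.2 two_pos))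
    (FiniteField.odd_card_of_char_ne_two hne)
  refine ⟨a, b, ?_⟩
  simp at hab
  linear_combination hab

/-- They are conjugate under `SL₂`. -/
theorem conj [Finite F] (h2 : (2 : F) ≠ 0) (hδ : δ ≠ 0) (x y : Tri F δ) :
    ∃ s : Matrix.SpecialLinearGroup (Fin 2) F, (s : Matrix (Fin 2) (Fin 2) F) * mat x.1 = mat y.1 * s := by
  have hns : ∀ z : Tri F δ, ¬ TwoByTwo.IsScalar (mat z.1) := by
    intro z hs
    obtain ⟨⟨a, b, c⟩, h⟩ := z
    simp only at h
    obtain ⟨hb, hc, ha⟩ := hs
    simp [mat] at hb hc ha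
    have ha0 : (2 : F) * a = 0 := by linear_combination ha
    exact hδ (by rw [← h, hb, (mul_eq_zero.1 ha0).resolve_left h2]; simp)
  let u : Tri F δ → GL (Fin 2) F := fun z =>
    GeneralLinearGroup.mkOfDetNeZero (mat z.1) (by rw [det_mat]; exact hδ)
  obtain ⟨c, hc⟩ := isConj_iff.1 (TwoByTwo.gl_isConj_of_eq (A := u x) (B := u y) (hns x) (hns y)
    (by
      show (mat x.1).trace = (mat y.1).trace
      simp [mat, Matrix.trace_fin_two])
    (by
      show (mat x.1).det = (mat y.1).det
      rw [det_mat, det_mat]))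
  have hcA : (c : Matrix (Fin 2) (Fin 2) F) * mat x.1 = mat y.1 * c :=
    congrArg Units.val (mul_inv_eq_iff_eq_mul.1 hc)
  have hd0 : (c : Matrix (Fin 2) (Fin 2) F).det ≠ 0 := by
    rw [← GeneralLinearGroup.val_det_apply]; exact Units.ne_zero _
  obtain ⟨a, b, hab⟩ := exists_quad h2 hδ (c : Matrix (Fin 2) (Fin 2) F).det⁻¹
  have hdet : (a • (1 : Matrix (Fin 2) (Fin 2) F) + b • mat y.1).det = a ^ 2 + δ * b ^ 2 := by
    obtain ⟨⟨a', b', c'⟩, h⟩ := y
    simp only at h
    simp [mat, Matrix.det_fin_two]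
    linear_combination b ^ 2 * h
  refine ⟨⟨(a • (1 : Matrix (Fin 2) (Fin 2) F) + b • mat y.1) * c, by
    rw [Matrix.det_mul, hdet, hab, inv_mul_cancel₀ hd0]⟩, ?_⟩
  show _ * _ * mat x.1 = mat y.1 * (_ * _)
  rw [mul_assoc, hcA, ← mul_assoc, ← mul_assoc]
  congr 1
  simp [mul_add, add_mul]

/-- Two of them have one common orthogonal up to sign. -/
theorem common_orth {x z y y' : Tri F δ} (hδ : δ ≠ 0) (h2 : (2 : F) ≠ 0) (hne : z ≠ x)
    (hne' : z.1 ≠ -x.1) (h1 : bil y.1 x.1 = 0) (h1z : bil y.1 z.1 = 0) (h1' : bil y'.1 x.1 = 0)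
    (h1z' : bil y'.1 z.1 = 0) : y'.1 = y.1 ∨ y'.1 = -y.1 := by
  obtain ⟨⟨a, b, c⟩, hx⟩ := x
  obtain ⟨⟨a₂, b₂, c₂⟩, hz⟩ := z
  simp only [bil] at h1 h1z h1' h1z' hx hz
  set w : F × F × F := (c * b₂ - b * c₂, b * (2 * a₂) - 2 * a * b₂, 2 * a * c₂ - c * (2 * a₂)) with hw
  have hw0 : w ≠ 0 := by
    intro e
    simp only [hw, Prod.mk_eq_zero] at e
    obtain ⟨e1, e2, e3⟩ := e
    have e2' : b * a₂ - a * b₂ = 0 := by
      have : (2 : F) * (b * a₂ - a * b₂) = 0 := by linear_combination e2
      exact (mul_eq_zero.1 this).resolve_left h2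
    have e3' : a * c₂ - c * a₂ = 0 := by
      have : (2 : F) * (a * c₂ - c * a₂) = 0 := by linear_combination e3
      exact (mul_eq_zero.1 this).resolve_left h2
    obtain ⟨l, hl⟩ : ∃ l : F, a₂ = l * a ∧ b₂ = l * b ∧ c₂ = l * c := by
      by_cases ha : a = 0
      · by_cases hb : b = 0
        · exact absurd (by rw [← hx, ha, hb]; ring) hδ
        · subst ha
          refine ⟨b₂ / b, ?_, by field_simp, ?_⟩
          · have : b * a₂ = 0 := by linear_combination e2'
            rw [(mul_eq_zero.1 this).resolve_left hb, mul_zero]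
          · field_simp
            linear_combination -e1
      · refine ⟨a₂ / a, by field_simp, ?_, ?_⟩ <;> field_simp
        · linear_combination -e2'
        · linear_combination e3'
    obtain ⟨rfl, rfl, rfl⟩ := hl
    have hl2 : (l - 1) * (l + 1) * δ = 0 := by linear_combination hz - l ^ 2 * hx
    rcases mul_eq_zero.1 ((mul_eq_zero.1 hl2).resolve_right hδ) with e | e
    · refine hne (Subtype.ext ?_)
      show (l * a, l * b, l * c) = (a, b, c)
      rw [sub_eq_zero.1 e]; simp
    · refine hne' ?_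
      show (l * a, l * b, l * c) = -(a, b, c)
      rw [eq_neg_of_add_eq_zero_left e]; simp
  have key : ∀ v : F × F × F, 2 * v.1 * a + v.2.1 * c + v.2.2 * b = 0 →
      2 * v.1 * a₂ + v.2.1 * c₂ + v.2.2 * b₂ = 0 → ∃ l : F, v = l • w := by
    intro v ha hb
    have k12 : v.1 * w.2.1 = v.2.1 * w.1 := by
      simp only [hw]; linear_combination b * hb - b₂ * ha
    have k13 : v.1 * w.2.2 = v.2.2 * w.1 := by
      simp only [hw]; linear_combination c₂ * ha - c * hb
    have k23 : v.2.1 * w.2.2 = v.2.2 * w.2.1 := by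
      simp only [hw]; linear_combination (2 * a) * hb - (2 * a₂) * ha
    by_cases h10 : w.1 = 0
    · by_cases h20 : w.2.1 = 0
      · have h30 : w.2.2 ≠ 0 := fun e => hw0 (Prod.ext h10 (Prod.ext h20 e))
        refine ⟨v.2.2 / w.2.2, Prod.ext ?_ (Prod.ext ?_ ?_)⟩ <;>
          simp only [Prod.smul_fst, Prod.smul_snd, smul_eq_mul] <;> field_simp
        · linear_combination k13
        · linear_combination k23
      · refine ⟨v.2.1 / w.2.1, Prod.ext ?_ (Prod.ext ?_ ?_)⟩ <;>
          simp only [Prod.smul_fst, Prod.smul_snd, smul_eq_mul] <;> field_simp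
        · linear_combination k12
        · linear_combination -k23
    · refine ⟨v.1 / w.1, Prod.ext ?_ (Prod.ext ?_ ?_)⟩ <;>
        simp only [Prod.smul_fst, Prod.smul_snd, smul_eq_mul] <;> field_simp
      · linear_combination -k12
      · linear_combination -k13
  obtain ⟨l, hl⟩ := key y.1 h1 h1z
  obtain ⟨m, hm⟩ := key y'.1 h1' h1z'
  have hy := y.2
  have hy' := y'.2
  rw [hl] at hy
  rw [hm] at hy'
  simp only [Prod.smul_fst, Prod.smul_snd, smul_eq_mul] at hy hy'
  have hlm : (l - m) * (l + m) * (-w.1 ^ 2 - w.2.1 * w.2.2) = 0 := by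
    linear_combination hy - hy'
  have hw2 : (-w.1 ^ 2 - w.2.1 * w.2.2) ≠ 0 := fun e =>
    hδ (by linear_combination l ^ 2 * e - hy)
  rcases mul_eq_zero.1 ((mul_eq_zero.1 hlm).resolve_right hw2) with e | e
  · exact Or.inl (by rw [hl, hm, sub_eq_zero.1 e])
  · exact Or.inr (by rw [hl, hm, eq_neg_of_add_eq_zero_left e, neg_smul, neg_neg])

instance : Neg (Tri F δ) :=
  ⟨fun x => ⟨-x.1, by have h := x.2; simp only [Prod.fst_neg, Prod.snd_neg]; linear_combination h⟩⟩

theorem coe_neg (x : Tri F δ) : (-x).1 = -x.1 := rfl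

theorem neg_ne_self (h2 : (2 : F) ≠ 0) (hδ : δ ≠ 0) (x : Tri F δ) : -x ≠ x := by
  intro e
  obtain ⟨⟨a, b, c⟩, h⟩ := x
  have e' : (-a, -b, -c) = (a, b, c) := congrArg Subtype.val e
  simp only [Prod.mk.injEq] at e'
  obtain ⟨e1, e2, e3⟩ := e'
  have z : ∀ t : F, -t = t → t = 0 := fun t ht =>
    (mul_eq_zero.1 (show (2 : F) * t = 0 by linear_combination -ht)).resolve_left h2
  simp only at h
  exact hδ (by rw [← h, z a e1, z b e2]; ring)

variable [Finite F]

/-- The number of triples. -/
theorem card_le :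
    Nat.card (Tri F δ) ≤
      Nat.card F * (Nat.card F - 1) + Nat.card F * Nat.card {a : F // a ^ 2 = -δ} := by
  classical
  have hu : Nat.card {b : F // b ≠ 0} = Nat.card F - 1 := by
    have := Fintype.ofFinite F
    rw [Nat.card_eq_fintype_card, Nat.card_eq_fintype_card, Fintype.card_subtype_compl,
      Fintype.card_subtype_eq]
  refine le_trans (Nat.card_le_card_of_injective (β := (F × {b : F // b ≠ 0}) ⊕ (F × {a : F // a ^ 2 = -δ}))
    (fun x => if hb : x.1.2.1 = 0 then Sum.inr (x.1.2.2, ⟨x.1.1, by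
        have := x.2; rw [hb] at this; linear_combination -this⟩)
      else Sum.inl (x.1.1, ⟨x.1.2.1, hb⟩)) ?_) ?_
  · rintro ⟨⟨a, b, c⟩, h⟩ ⟨⟨a', b', c'⟩, h'⟩ e
    simp only at h h' e ⊢
    by_cases hb : b = 0 <;> by_cases hb' : b' = 0 <;> simp [hb, hb'] at e
    · obtain ⟨rfl, rfl⟩ := e
      subst hb hb'; rfl
    · obtain ⟨rfl, rfl⟩ := e
      have : b * (c - c') = 0 := by linear_combination h' - h
      obtain rfl : c = c' := sub_eq_zero.1 ((mul_eq_zero.1 this).resolve_left hb)
      rfl
  · rw [Nat.card_sum, Nat.card_prod, Nat.card_prod, hu]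

/-- There are at least `q - 1` orthogonals, and at least `q` in the non-split case. -/
theorem card_orth_ge (h2 : (2 : F) ≠ 0) (hδ : δ ≠ 0) (x : Tri F δ) :
    Nat.card F - 1 ≤ Nat.card {y : Tri F δ // bil x.1 y.1 = 0} ∧
      (¬ IsSquare (-δ) → Nat.card F ≤ Nat.card {y : Tri F δ // bil x.1 y.1 = 0}) := by
  classical
  -- conjugation carries orthogonals to orthogonals
  have htrans : ∀ x y : Tri F δ, Nat.card {u : Tri F δ // bil y.1 u.1 = 0} ≤
      Nat.card {u : Tri F δ // bil x.1 u.1 = 0} := by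
    intro x y
    obtain ⟨s, hs⟩ := conj h2 hδ y x
    have hinv : ((s⁻¹ : Matrix.SpecialLinearGroup (Fin 2) F) : Matrix (Fin 2) (Fin 2) F) *
        (s : Matrix (Fin 2) (Fin 2) F) = 1 := by
      rw [← Matrix.SpecialLinearGroup.coe_mul, inv_mul_cancel, Matrix.SpecialLinearGroup.coe_one]
    have hinv' : (s : Matrix (Fin 2) (Fin 2) F) *
        ((s⁻¹ : Matrix.SpecialLinearGroup (Fin 2) F) : Matrix (Fin 2) (Fin 2) F) = 1 := by
      rw [← Matrix.SpecialLinearGroup.coe_mul, mul_inv_cancel, Matrix.SpecialLinearGroup.coe_one]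
    set si := ((s⁻¹ : Matrix.SpecialLinearGroup (Fin 2) F) : Matrix (Fin 2) (Fin 2) F) with hsi
    let φ : Tri F δ → Matrix (Fin 2) (Fin 2) F := fun u => (s : Matrix (Fin 2) (Fin 2) F) * mat u.1 * si
    have hφ : ∀ u, mat ((φ u 0 0, φ u 0 1, φ u 1 0) : F × F × F) = φ u := fun u => by
      have ht : (φ u).trace = 0 := by
        show ((s : Matrix (Fin 2) (Fin 2) F) * mat u.1 * si).trace = 0
        rw [Matrix.trace_mul_comm, ← mul_assoc, hinv, one_mul]
        simp [mat, Matrix.trace_fin_two]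
      rw [Matrix.trace_fin_two] at ht
      ext i j
      fin_cases i <;> fin_cases j <;> simp [mat]
      linear_combination -ht
    have hq : ∀ u, -(φ u 0 0) ^ 2 - φ u 0 1 * φ u 1 0 = δ := fun u => by
      have h := congrArg Matrix.det (hφ u)
      have hd : (φ u).det = δ := by
        show ((s : Matrix (Fin 2) (Fin 2) F) * mat u.1 * si).det = δ
        rw [Matrix.det_mul, Matrix.det_mul, det_mat, s.2, hsi, (s⁻¹).2, one_mul, mul_one]
      rw [hd] at h
      simp [mat, Matrix.det_fin_two] at h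
      linear_combination h
    refine Nat.card_le_card_of_injective
      (fun u => ⟨⟨(φ u.1 0 0, φ u.1 0 1, φ u.1 1 0), hq u.1⟩, ?_⟩) ?_
    · refine (anticommute_iff _ _).1 ?_
      rw [hφ]
      have hxy : mat x.1 = (s : Matrix (Fin 2) (Fin 2) F) * mat y.1 * si := by
        rw [hs, mul_assoc, hinv', mul_one]
      rw [hxy]
      show _ = -(((s : Matrix (Fin 2) (Fin 2) F) * mat u.1.1 * si) * _)
      rw [show (s : Matrix (Fin 2) (Fin 2) F) * mat y.1 * si * ((s : Matrix (Fin 2) (Fin 2) F) * mat u.1.1 * si) =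
          (s : Matrix (Fin 2) (Fin 2) F) * (mat y.1 * (si * (s : Matrix (Fin 2) (Fin 2) F)) * mat u.1.1) * si by
        simp only [mul_assoc],
        show (s : Matrix (Fin 2) (Fin 2) F) * mat u.1.1 * si * ((s : Matrix (Fin 2) (Fin 2) F) * mat y.1 * si) =
          (s : Matrix (Fin 2) (Fin 2) F) * (mat u.1.1 * (si * (s : Matrix (Fin 2) (Fin 2) F)) * mat y.1) * si by
        simp only [mul_assoc], hinv, mul_one, mul_one, (anticommute_iff _ _).2 u.2]
      simp
    · intro u v e
      have h : φ u.1 = φ v.1 := by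
        rw [← hφ u.1, ← hφ v.1]
        exact congrArg mat (congrArg (fun w => w.1.1) e)
      refine Subtype.ext (Subtype.ext (mat_injective ?_))
      have h' := congrArg (fun M => si * M * (s : Matrix (Fin 2) (Fin 2) F)) h
      have hassoc : ∀ M : Matrix (Fin 2) (Fin 2) F,
          si * ((s : Matrix (Fin 2) (Fin 2) F) * M * si) * (s : Matrix (Fin 2) (Fin 2) F) = M := fun M => by
        rw [← mul_assoc, ← mul_assoc, hinv, one_mul, mul_assoc, hinv, mul_one]
      simpa [φ, hassoc] using h'
  have := Fintype.ofFinite F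
  by_cases hsq : IsSquare (-δ)
  · refine ⟨?_, fun h => absurd hsq h⟩
    obtain ⟨r, hr⟩ := hsq
    refine le_trans ?_ (htrans x ⟨(r, 0, 0), by simp only; linear_combination hr⟩)
    have hu : Nat.card {b : F // b ≠ 0} = Nat.card F - 1 := by
      rw [Nat.card_eq_fintype_card, Nat.card_eq_fintype_card, Fintype.card_subtype_compl,
        Fintype.card_subtype_eq]
    rw [← hu]
    refine Nat.card_le_card_of_injective
      (fun b => ⟨⟨(0, b.1, -δ / b.1), by have := b.2; simp only; field_simp; ring⟩, by simp [bil]⟩) ?_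
    intro b b' e
    exact Subtype.ext (congrArg (fun w => w.1.1.2.1) e)
  · have main : Nat.card F ≤ Nat.card {y : Tri F δ // bil x.1 y.1 = 0} := by
      refine le_trans ?_ (htrans x ⟨(0, 1, -δ), by simp only; ring⟩)
      obtain ⟨a₀, b₀, h0⟩ := exists_quad h2 hδ (-δ)
      have hden : ∀ t : F, 1 + δ * t ^ 2 ≠ 0 := fun t e => by
        have ht : t ≠ 0 := fun e' => by rw [e'] at e; simp at e
        refine hsq ⟨1 / t, ?_⟩
        field_simp
        linear_combination -e
      let a₁ : F → F := fun t => a₀ - 2 * (a₀ + δ * t * b₀) / (1 + δ * t ^ 2)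
      let b₁ : F → F := fun t => b₀ + t * (a₁ t - a₀)
      have hon : ∀ t, a₁ t ^ 2 + δ * b₁ t ^ 2 = -δ := fun t => by
        have hd := hden t
        have hu : (a₁ t - a₀) * (1 + δ * t ^ 2) = -2 * (a₀ + δ * t * b₀) := by
          simp only [a₁]; field_simp; ring
        simp only [b₁]
        linear_combination h0 + (a₁ t - a₀) * hu
      refine Nat.card_le_card_of_injective
        (fun t => ⟨⟨(a₁ t, b₁ t, δ * b₁ t), by simp only; linear_combination -hon t⟩,
          by simp [bil]⟩) ?_
      intro t t' e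
      have ha : a₁ t = a₁ t' := congrArg (fun w => w.1.1.1) e
      have hb : b₁ t = b₁ t' := congrArg (fun w => w.1.1.2.1) e
      by_cases hne : a₁ t = a₀
      · have k : ∀ s, a₁ s = a₀ → a₀ + δ * s * b₀ = 0 := fun s hs => by
          simp only [a₁, sub_eq_self, div_eq_zero_iff] at hs
          exact (mul_eq_zero.1 (hs.resolve_right (hden s))).resolve_left h2
        have k1 := k t hne
        have k2 := k t' (ha ▸ hne)
        have hb0 : b₀ ≠ 0 := fun e0 => by
          rw [e0, mul_zero, add_zero] at k1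
          rw [k1, e0] at h0
          exact hδ (by linear_combination h0)
        have : (δ * b₀) * (t - t') = 0 := by linear_combination k1 - k2
        exact sub_eq_zero.1 ((mul_eq_zero.1 this).resolve_left (mul_ne_zero hδ hb0))
      · simp only [b₁, add_right_inj, ← ha] at hb
        exact mul_right_cancel₀ (sub_ne_zero.2 hne) hb
    exact ⟨le_trans (Nat.sub_le _ _) main, fun _ => main⟩

/-- The blocks. -/
theorem blocks (hodd : Odd (Nat.card F)) (hδ : δ ≠ 0) {Ω : Type*} [Finite Ω] (f : Tri F δ → Ω)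
    (hneg : ∀ x : Tri F δ, f (-x) = f x) (horth : ∀ x y : Tri F δ, bil x.1 y.1 = 0 → f x = f y)
    (N : ℕ) (hfib : ∀ o : Ω, Nat.card {x : Tri F δ // f x = o} = N)
    (hn : Odd (Nat.card Ω)) (hn1 : Nat.card Ω ≠ 1) (hn3 : 5 ≤ Nat.card F → Nat.card Ω ≠ 3) :
    (IsSquare (-δ) ∧ Nat.card (Tri F δ) = Nat.card F * (Nat.card F + 1)) ∧
      (Nat.card F = 3 ∧ Nat.card Ω = 3 ∨ Nat.card F = 5 ∧ Nat.card Ω = 5) := by
  classical
  have h2 : (2 : F) ≠ 0 := PSL2.two_ne_zero_iff_odd.2 hodd
  have := Fintype.ofFinite F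
  have := Fintype.ofFinite Ω
  set q := Nat.card F with hq
  set n := Nat.card Ω with hnn
  have hq1 : 1 < q := Finite.one_lt_card
  have htot : Nat.card (Tri F δ) = n * N := by
    rw [Nat.card_congr (Equiv.sigmaFiberEquiv f).symm, Nat.card_sigma]
    simp only [hfib, Finset.sum_const, Finset.card_univ, smul_eq_mul]
    rw [hnn, Nat.card_eq_fintype_card]
  -- lower bound for a fibre
  have hfibge : ∀ m : ℕ, (∀ x : Tri F δ, m ≤ Nat.card {y : Tri F δ // bil x.1 y.1 = 0}) →
      ∀ x : Tri F δ, 4 + m * (m - 2) ≤ 2 * N := by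
    intro m hm x
    let P := Σ y : {y : Tri F δ // bil x.1 y.1 = 0},
      {z : Tri F δ // bil y.1.1 z.1 = 0 ∧ z ≠ x ∧ z ≠ -x}
    have hP : m * (m - 2) ≤ Nat.card P := by
      rw [Nat.card_sigma]
      refine le_trans ?_ (Finset.card_nsmul_le_sum _ _ (m - 2) fun y _ => ?_)
      · rw [Finset.card_univ, ← Nat.card_eq_fintype_card, smul_eq_mul]
        exact Nat.mul_le_mul_right _ (hm x)
      · have hle : Nat.card {z : Tri F δ // bil y.1.1 z.1 = 0} ≤
            Nat.card {z : Tri F δ // bil y.1.1 z.1 = 0 ∧ z ≠ x ∧ z ≠ -x} + 2 := by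
          have e1 : Nat.card {z : Tri F δ // bil y.1.1 z.1 = 0} =
              ({z : Tri F δ | bil y.1.1 z.1 = 0} : Set (Tri F δ)).ncard :=
            (Nat.card_coe_set_eq _).symm ▸ rfl
          have e2 : Nat.card {z : Tri F δ // bil y.1.1 z.1 = 0 ∧ z ≠ x ∧ z ≠ -x} =
              ({z : Tri F δ | bil y.1.1 z.1 = 0 ∧ z ≠ x ∧ z ≠ -x} : Set (Tri F δ)).ncard :=
            (Nat.card_coe_set_eq _).symm ▸ rfl
          rw [e1, e2]
          refine le_trans (Set.ncard_le_ncard (t := _ ∪ ({x, -x} : Set (Tri F δ))) ?_)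
            ((Set.ncard_union_le _ _).trans (Nat.add_le_add_left
              ((Set.ncard_insert_le _ _).trans (by rw [Set.ncard_singleton])) _))
          intro z hz
          by_cases h1 : z = x
          · exact Or.inr (Or.inl h1)
          · by_cases h2 : z = -x
            · exact Or.inr (Or.inr h2)
            · exact Or.inl ⟨hz, h1, h2⟩
        have := hm y.1
        omega
    -- send a pair to its end
    let S := {z : Tri F δ // f z = f x ∧ z ≠ x ∧ z ≠ -x}
    let g : P → S := fun p => ⟨p.2.1, ((horth _ _ p.1.2).trans (horth _ _ p.2.2.1)).symm,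
      p.2.2.2.1, p.2.2.2.2⟩
    have hg : ∀ s : S, Nat.card {p : P // g p = s} ≤ 2 := by
      intro s
      rcases isEmpty_or_nonempty {p : P // g p = s} with h | ⟨⟨p₀, hp₀⟩⟩
      · simp
      refine le_trans (Nat.card_le_card_of_injective (β := Bool)
        (fun p => decide (p.1.1.1 = p₀.1.1)) ?_) (by simp)
      rintro ⟨⟨y, z⟩, hp⟩ ⟨⟨y', z'⟩, hp'⟩ e
      have hz : z.1 = s.1 := congrArg Subtype.val hp
      have hz' : z'.1 = s.1 := congrArg Subtype.val hp'
      have hs : p₀.2.1 = s.1 := congrArg Subtype.val hp₀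
      have key : ∀ (a : {y : Tri F δ // bil x.1 y.1 = 0}) (b : Tri F δ), bil a.1.1 b.1 = 0 →
          b = s.1 → a.1 = p₀.1.1 ∨ a.1 = -p₀.1.1 := by
        intro a b hab hb
        subst hb
        rcases common_orth (x := x) (z := s.1) (y := p₀.1.1) (y' := a.1) hδ h2 s.2.2.1
          (fun e => s.2.2.2 (Subtype.ext e))
          (by rw [bil_comm]; exact p₀.1.2) (by have := p₀.2.2.1; rwa [hs] at this)
          (by rw [bil_comm]; exact a.2) hab with h | h
        · exact Or.inl (Subtype.ext h)
        · exact Or.inr (Subtype.ext h)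
      have hy : y.1 = y'.1 := by
        simp only [decide_eq_decide] at e
        rcases key y z.1 z.2.1 hz with h | h
        · rw [h, e.1 h]
        · rcases key y' z'.1 z'.2.1 hz' with h' | h'
          · rw [h', e.2 h']
          · rw [h, h']
      obtain rfl : y = y' := Subtype.ext hy
      have : z = z' := Subtype.ext (hz.trans hz'.symm)
      subst this; rfl
    have hPS : Nat.card P ≤ 2 * Nat.card S := by
      rw [Nat.card_congr (Equiv.sigmaFiberEquiv g).symm, Nat.card_sigma]
      refine le_trans (Finset.sum_le_card_nsmul _ _ 2 fun s _ => hg s) ?_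
      rw [smul_eq_mul, Finset.card_univ, ← Nat.card_eq_fintype_card, mul_comm]
    have hS : Nat.card S + 2 ≤ N := by
      rw [← hfib (f x)]
      have e1 : Nat.card {z : Tri F δ // f z = f x} =
          ({z : Tri F δ | f z = f x} : Set (Tri F δ)).ncard := (Nat.card_coe_set_eq _).symm ▸ rfl
      have e2 : Nat.card S = ({z : Tri F δ | f z = f x ∧ z ≠ x ∧ z ≠ -x} : Set (Tri F δ)).ncard :=
        (Nat.card_coe_set_eq _).symm ▸ rfl
      have hdis : Disjoint ({z : Tri F δ | f z = f x ∧ z ≠ x ∧ z ≠ -x} : Set (Tri F δ)) {x, -x} := by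
        rw [Set.disjoint_left]
        rintro z ⟨-, h1, h2⟩ (h | h)
        · exact h1 h
        · exact h2 h
      rw [e1, e2, ← Set.ncard_pair (fun e => neg_ne_self h2 hδ x e.symm),
        ← Set.ncard_union_eq hdis]
      refine Set.ncard_le_ncard ?_
      rintro z (⟨h, -, -⟩ | rfl | rfl)
      · exact h
      · rfl
      · exact hneg x
    omega
  obtain ⟨x₀⟩ : Nonempty (Tri F δ) := ⟨⟨(0, 1, -δ), by simp only; ring⟩⟩
  have hdvd : n ∣ Nat.card (Tri F δ) := htot ▸ dvd_mul_right n N
  obtain ⟨r, hr⟩ : ∃ r, n = 2 * r + 1 := hn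
  by_cases hsq : IsSquare (-δ)
  · suffices hh : Nat.card (Tri F δ) = q * (q + 1) ∧ (q = 3 ∧ n = 3 ∨ q = 5 ∧ n = 5) from
      ⟨⟨hsq, hh.1⟩, hh.2⟩
    have hcard : Nat.card {a : F // a ^ 2 = -δ} ≤ 2 := by
      obtain ⟨s, hs⟩ := hsq
      refine le_trans (Nat.card_le_card_of_injective (β := Bool) (fun a => decide (a.1 = s)) ?_)
        (by simp)
      rintro ⟨a, ha⟩ ⟨b, hb⟩ e
      simp only [decide_eq_decide] at e
      have ha' := (mul_self_eq_mul_self_iff.1 (show a * a = s * s by rw [← hs, ← ha, sq]))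
      have hb' := (mul_self_eq_mul_self_iff.1 (show b * b = s * s by rw [← hs, ← hb, sq]))
      refine Subtype.ext ?_
      simp only
      rcases ha' with h | h
      · rw [h, e.1 h]
      · rcases hb' with h' | h'
        · rw [h', e.2 h']
        · rw [h, h']
    have hup : n * N ≤ q * (q - 1) + q * 2 := by
      rw [← htot]
      exact le_trans card_le (Nat.add_le_add_left (Nat.mul_le_mul_left _ hcard) _)
    have hlo := hfibge (q - 1) (fun x => (card_orth_ge h2 hδ x).1) x₀
    have hodd' : q % 2 = 1 := Nat.odd_iff.1 hodd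
    obtain ⟨p, hp⟩ : ∃ p, q = p + 3 := ⟨q - 3, by omega⟩
    rw [hp, show p + 3 - 1 = p + 2 by omega] at hup
    rw [hp, show p + 3 - 1 = p + 2 by omega, show p + 2 - 2 = p by omega] at hlo
    by_cases h5 : 5 ≤ q
    · have hn5 : 5 ≤ n := by have := hn3 h5; omega
      have h55 : 5 * N ≤ n * N := Nat.mul_le_mul_right _ hn5
      have hp2 : p ≤ 2 := by nlinarith
      obtain rfl : p = 2 := by omega
      have : 5 * 6 ≤ n * N := le_trans (Nat.mul_le_mul_left 5 (by omega : 6 ≤ N)) h55
      have : n * N ≤ 30 := by omega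
      have hN : 6 ≤ N := by omega
      have hq5 : q = 5 := by omega
      refine ⟨by rw [htot, hq5]; omega, Or.inr ⟨hq5, ?_⟩⟩
      nlinarith
    · obtain rfl : p = 0 := by omega
      -- a block has four points
      obtain ⟨y, hy⟩ : Nonempty {y : Tri F δ // bil x₀.1 y.1 = 0} := by
        have := (card_orth_ge h2 hδ x₀).1
        exact (Nat.card_pos_iff.1 (by omega)).1
      have hyx : ∀ w : Tri F δ, (w = x₀ ∨ w = -x₀) → bil x₀.1 w.1 ≠ 0 := by
        intro w hw e
        obtain ⟨⟨a, b, c⟩, h⟩ := x₀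
        rcases hw with rfl | rfl
        · simp only [bil] at e h
          exact hδ ((mul_eq_zero.1 (show (2 : F) * δ = 0 by linear_combination -e - 2 * h)).resolve_left h2)
        · simp only [bil, coe_neg, Prod.fst_neg, Prod.snd_neg] at e h
          exact hδ ((mul_eq_zero.1 (show (2 : F) * δ = 0 by linear_combination e - 2 * h)).resolve_left h2)
      have hN4 : 4 ≤ N := by
        let g : Bool × Bool → {z : Tri F δ // f z = f x₀} := fun i =>
          ⟨if i.1 then (if i.2 then x₀ else -x₀) else (if i.2 then y else -y), by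
            rcases i with ⟨_ | _, _ | _⟩ <;> simp [hneg, (horth x₀ y hy).symm]⟩
        have hg : Function.Injective g := by
          have hnn : ∀ w : Tri F δ, - -w = w := fun w => Subtype.ext (neg_neg w.1)
          have h1 : y ≠ x₀ := fun e => hyx y (Or.inl e) hy
          have h2' : y ≠ -x₀ := fun e => hyx y (Or.inr e) hy
          have h3 : -y ≠ x₀ := fun e => h2' (by rw [← e, hnn])
          have h4 : -y ≠ -x₀ := fun e => h1 (by rw [← hnn y, e, hnn])
          rintro ⟨_ | _, _ | _⟩ ⟨_ | _, _ | _⟩ e <;> have e' := congrArg Subtype.val e <;>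
            simp [g, h1, h2', h3, h4, h1.symm, h2'.symm, h3.symm, h4.symm, neg_ne_self h2 hδ,
              (neg_ne_self h2 hδ _).symm] at e' ⊢
        have := Nat.card_le_card_of_injective g hg
        rw [hfib, Nat.card_prod, Nat.card_eq_fintype_card, Fintype.card_bool] at this
        omega
      have h4n : n * 4 ≤ n * N := Nat.mul_le_mul_left _ hN4
      have hn3' : n = 3 := by omega
      have hq3 : q = 3 := by omega
      refine ⟨?_, Or.inl ⟨hq3, hn3'⟩⟩
      rw [hn3'] at hup
      rw [htot, hq3, hn3']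
      omega
  · exfalso
    have hzero : Nat.card {a : F // a ^ 2 = -δ} = 0 := by
      rw [Nat.card_eq_zero]
      exact Or.inl ⟨fun a => hsq ⟨a.1, by have := a.2; linear_combination -this⟩⟩
    have hup : n * N ≤ q * (q - 1) := by
      have h := card_le (F := F) (δ := δ)
      rw [hzero, mul_zero, add_zero, htot] at h
      exact h
    have hlo := hfibge q (fun x => (card_orth_ge h2 hδ x).2 hsq) x₀
    have hodd' : q % 2 = 1 := Nat.odd_iff.1 hodd
    obtain ⟨p, hp⟩ : ∃ p, q = p + 3 := ⟨q - 3, by omega⟩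
    rw [hp, show p + 3 - 1 = p + 2 by omega] at hup
    rw [hp, show p + 3 - 2 = p + 1 by omega] at hlo
    by_cases h5 : 5 ≤ q
    · have hn5 : 5 ≤ n := by have := hn3 h5; omega
      have h55 : 5 * N ≤ n * N := Nat.mul_le_mul_right _ hn5
      nlinarith
    · obtain rfl : p = 0 := by omega
      have : 3 * N ≤ n * N := Nat.mul_le_mul_right _ (by omega)
      omega

end Tri

end Cfsg.Agent.CoreKilling.RankTwo
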