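import Cfsg.Agent.Lib.CoreKilling.RankTwo.Fusion
import Cfsg.Agent.Lib.CoreKilling.RankTwo.CentShape
import Cfsg.Agent.S1240

/-!
# Core killing in 2-rank two: the bad central involution in `G` (owner: helper44)

* `Ctx S W z` : the standing hypotheses
* `Ctx.trans` : `C(z) ∩ N(W)` is transitive on the noncentral involutions of `S`
* `Ctx.exists_bad` : the shape of `C(z)/O(C(z))`, read in `G`
* `Ctx.at_v` : the same at a noncentral involution
-/

set_option autoImplicit false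
set_option linter.unusedSectionVars false

namespace Cfsg.Agent.CoreKilling.RankTwo

open Subgroup
open scoped Pointwise

universe u

theorem TwoFacts.congr {A B : Type*} [Group A] [Group B] (e : A ≃* B) {a : A} (h : TwoFacts A a) :
    TwoFacts B (e a) := by
  have hz : ∀ {c : A}, c ∈ center A → e c ∈ center B := fun {c} hc => mem_center_iff.2 fun b => by
    obtain ⟨x, rfl⟩ := e.surjective b
    rw [← map_mul, ← map_mul, mem_center_iff.1 hc x]
  have hz' : ∀ {c : B}, c ∈ center B → e.symm c ∈ center A := fun {c} hc => mem_center_iff.2 fun x => by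
    refine e.injective ?_
    rw [map_mul, map_mul, e.apply_symm_apply, mem_center_iff.1 hc]
  have ho : ∀ x : A, orderOf (e x) = orderOf x := fun x => orderOf_injective e.toMonoidHom e.injective x
  have hcard : Nat.card (center B) = Nat.card (center A) :=
    Nat.card_congr (e.toEquiv.subtypeEquiv fun x =>
      ⟨fun hx => hz hx, fun hx => by simpa using hz' hx⟩).symm
  refine ⟨by rw [ho, h.z2], hz h.zc, fun x hx hx2 => ?_, ?_, ?_, fun x hx hxa => ?_,
    fun u w c hu hw hwu hcu hcw => ?_, fun x c hx hxa hcx hcc => ?_, ?_, ?_⟩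
  · obtain ⟨x, rfl⟩ := e.surjective x
    rw [ho] at hx2
    rw [h.uniq x (by simpa using hz' hx) hx2]
  · haveI := h.cyc
    exact isCyclic_of_surjective ((e.toMonoidHom.comp (center A).subtype).codRestrict (center B)
      fun c => hz c.2) fun b => ⟨⟨e.symm b, hz' b.2⟩, Subtype.ext (e.apply_symm_apply _)⟩
  · rw [hcard, ← Nat.card_congr e.toEquiv]; exact h.card
  · obtain ⟨x, rfl⟩ := e.surjective x
    rw [ho] at hx
    obtain ⟨s, hs⟩ := h.swap x hx (fun e' => hxa (by rw [e']))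
    exact ⟨e s, by rw [← map_inv, ← map_mul, ← map_mul, ← map_mul, hs]⟩
  · obtain ⟨u, rfl⟩ := e.surjective u
    obtain ⟨w, rfl⟩ := e.surjective w
    obtain ⟨c, rfl⟩ := e.surjective c
    refine hz (h.cent u w c (e.injective (by rw [map_mul, hu])) (e.injective (by rw [map_mul, hw]))
      (e.injective (by rw [map_mul, map_mul, map_inv, map_inv, hwu]))
      (e.injective (by rw [map_mul, map_mul]; exact hcu)) (e.injective (by rw [map_mul, map_mul]; exact hcw)))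
  · obtain ⟨x, rfl⟩ := e.surjective x
    obtain ⟨c, rfl⟩ := e.surjective c
    rw [ho] at hx
    rcases h.cab x c hx (fun e' => hxa (by rw [e']))
      (e.injective (by rw [map_mul, map_mul]; exact hcx))
      (by have := hz' hcc; rwa [← map_mul, e.symm_apply_apply] at this) with h' | h'
    · exact Or.inl (hz h')
    · exact Or.inr (by rw [← map_mul]; exact hz h')
  · rcases h.fus with hf | ⟨⟨c, hc, hca⟩, f, hf, H, hH, hHi⟩
    · refine Or.inl fun x y hx hxa hy hya => ?_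
      obtain ⟨x, rfl⟩ := e.surjective x
      obtain ⟨y, rfl⟩ := e.surjective y
      rw [ho] at hx hy
      exact MonoidHom.map_isConj e.toMonoidHom
        (hf x y hx (fun e' => hxa (by rw [e'])) hy (fun e' => hya (by rw [e'])))
    · refine Or.inr ⟨⟨e c, hz hc, by rw [← map_mul, hca]⟩, e f, fun x hx => ?_, H.map e.toMonoidHom, ?_, ?_⟩
      · obtain ⟨x, rfl⟩ := e.surjective x
        rw [← map_mul, ho] at hx
        rcases hf x hx with h' | h' | h'
        · exact Or.inl (by rw [← map_mul, h'])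
        · exact Or.inr (Or.inl (by rw [← map_mul, h']))
        · exact Or.inr (Or.inr (by rw [← map_mul, h', map_mul]))
      · rw [index_map_of_bijective e.bijective]; exact hH
      · rintro _ ⟨x, hx, rfl⟩ hx2
        rw [show e.toMonoidHom x = e x from rfl, ho] at hx2
        rcases hHi x hx hx2 with h' | h' | h'
        · exact Or.inl (by rw [h']; rfl)
        · exact Or.inr (Or.inl (by rw [h']; rfl))
        · exact Or.inr (Or.inr (by rw [h', map_mul]; rfl))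
  · obtain ⟨v, hv, hva⟩ := h.ex
    exact ⟨e v, by rw [ho, hv], fun e' => hva (e.injective e')⟩

variable {G : Type u} [Group G] [Finite G]

/-- The standing hypotheses. -/
structure Ctx (S : Sylow 2 G) (W : Subgroup G) (z : G) : Prop where
  set : Setting S W
  core : Cfsg.oddCore G = ⊥
  ne : W ≠ ⊥
  noSE : ∀ H : Subgroup G, Cfsg.IsStronglyEmbedded H →
    (Cfsg.oddCore ↥H).map H.subtype ≤ Cfsg.oddCore G
  hidx : ∀ H : Subgroup G, H.index ≠ 2
  qw : Cfsg.IsQuasiDihedral (S : Subgroup G) ∨ Cfsg.IsWreathed (S : Subgroup G)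
  hzS : z ∈ S
  facts : TwoFacts (S : Subgroup G) ⟨z, hzS⟩
  one : ∀ a : G, orderOf a = 2 → ∃ g : G, g * z * g⁻¹ = a
  bad : ¬ centralizer ({z} : Set G) ≤ normalizer (W : Set G)

variable {S : Sylow 2 G} {W : Subgroup G} {z : G}

local notation "𝐌" => normalizer (W : Set G)
local notation "𝐂" => centralizer (Singleton.singleton z : Set G)
local notation "𝐑" => Cfsg.centralizerPPrimeCore 2 z

/-- The shape of `C(z)/O(C(z))`. -/
structure Bad (S : Sylow 2 G) (W : Subgroup G) (z : G) (p : ℕ) : Prop where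
  prime : p.Prime
  ne_two : p ≠ 2
  small : p = 3 ∨ p = 5
  index : (normalizer (W : Set G) ⊓ centralizer ({z} : Set G)).relIndex (centralizer ({z} : Set G)) = p
  partner : ∀ v ∈ S, orderOf v = 2 → v ≠ z →
    ∃ s ∈ normalizer (W : Set G) ⊓ centralizer ({z} : Set G), orderOf s = 2 ∧ s * v * s⁻¹ = v * z
  dvd : ∀ v ∈ S, orderOf v = 2 → v ≠ z → ∀ X : Subgroup G, Cfsg.centralizerPPrimeCore 2 z ≤ X →
    X ≤ centralizer ({z} : Set G) → ¬ 2 ∣ Nat.card X →
    centralizer ({z} : Set G) ⊓ centralizer ({v} : Set G) ≤ normalizer (X : Set G) →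
    (Cfsg.centralizerPPrimeCore 2 z).relIndex X ∣ p ∧
      (X ≤ normalizer (W : Set G) → X ≤ Cfsg.centralizerPPrimeCore 2 z)

namespace Ctx

variable (C : Ctx S W z)
include C

theorem z2 : orderOf z = 2 := by
  have := C.facts.z2
  rwa [Subgroup.orderOf_mk] at this

theorem zc : ∀ s ∈ S, Commute s z := fun s hs =>
  congrArg Subtype.val (mem_center_iff.1 C.facts.zc ⟨s, hs⟩)

theorem z_mem_M : z ∈ 𝐌 := C.set.norm C.hzS

theorem S_le_C : (S : Subgroup G) ≤ 𝐂 := fun s hs => mem_centralizer_singleton_iff.2 (C.zc s hs)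

theorem R_le : 𝐑 ≤ W := C.set.core_le C.hzS C.z2

theorem R_le_M : 𝐑 ≤ 𝐌 := C.R_le.trans le_normalizer

theorem R_le_C : 𝐑 ≤ 𝐂 := map_subtype_le _

theorem R_odd : ¬ 2 ∣ Nat.card 𝐑 :=
  haveI : Fact (Nat.Prime 2) := ⟨Nat.prime_two⟩
  Signalizer.not_dvd_card_core z

theorem M_ne : 𝐌 ≠ ⊤ := fun e => C.ne (eq_bot_iff.2 (C.core ▸ Cores.le_pPrimeCore
  (normalizer_eq_top_iff.1 e) ((Nat.prime_two.coprime_iff_not_dvd).2 C.set.odd).symm))

theorem mul_z_mem {v : G} (hvS : v ∈ S) : v * z ∈ S := S.mul_mem hvS C.hzS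

theorem mul_z2 {v : G} (hvS : v ∈ S) (hv : orderOf v = 2) (hvz : v ≠ z) :
    orderOf (v * z) = 2 ∧ v * z ≠ z := by
  refine ⟨Involution.orderOf_of_sq ?_ ?_, fun e => ?_⟩
  · rw [(C.zc v hvS).symm.mul_mul_mul_comm, Involution.mul_self hv, Involution.mul_self C.z2, one_mul]
  · intro e
    rw [mul_eq_one_iff_inv_eq, Involution.inv_eq hv] at e
    exact hvz e
  · have := mul_right_cancel (b := z) (e.trans (one_mul z).symm)
    rw [this, orderOf_one] at hv; omega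

theorem four {v : G} (hvS : v ∈ S) (hv : orderOf v = 2) (hvz : v ≠ z) :
    IsFour (zpowers z ⊔ zpowers v) ∧ zpowers z ⊔ zpowers v ≤ (S : Subgroup G) :=
  isFour_with C.zc C.z2 C.hzS hvS hv hvz

theorem centE_le {v : G} (hvS : v ∈ S) (hv : orderOf v = 2) (hvz : v ≠ z) :
    𝐂 ⊓ centralizer ({v} : Set G) ≤ 𝐌 := by
  rintro g ⟨hgz, hgv⟩
  obtain ⟨h4, hle⟩ := C.four hvS hv hvz
  refine C.set.mem_normalizer h4 hle ?_
  have hcent : zpowers z ⊔ zpowers v ≤ centralizer ({g} : Set G) :=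
    sup_le (zpowers_le.2 (mem_centralizer_singleton_iff.2 (mem_centralizer_singleton_iff.1 hgz).symm))
      (zpowers_le.2 (mem_centralizer_singleton_iff.2 (mem_centralizer_singleton_iff.1 hgv).symm))
  rintro _ ⟨x, hx, rfl⟩
  show g * x * g⁻¹ ∈ (S : Subgroup G)
  rw [show g * x = x * g from (mem_centralizer_singleton_iff.1 (hcent hx)).symm, mul_inv_cancel_right]
  exact hle hx

/-- A conjugate of `z` in `S`, reached inside `K` and `N(W)`. -/
theorem move {x g : G} {K : Subgroup G} (hSK : (S : Subgroup G) ≤ K) (hg : g ∈ K)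
    (hgx : g * z * g⁻¹ = x) (hxS : x ∈ S) (hxz : x ≠ z) :
    ∃ m ∈ 𝐌 ⊓ K, m * z * m⁻¹ = x ∧ ∀ s ∈ S, Commute s x → m⁻¹ * s * m ∈ S := by
  obtain ⟨m, hmK, hmx, hm⟩ := exists_move S C.zc hSK hg hgx
  have hx : orderOf x = 2 := by rw [← hgx, Involution.orderOf_conj, C.z2]
  obtain ⟨h4, hle⟩ := C.four hxS hx hxz
  refine ⟨m, ⟨?_, hmK⟩, hmx, hm⟩
  have h1 : MulAut.conj m⁻¹ • (zpowers z ⊔ zpowers x) ≤ (S : Subgroup G) := by
    rintro _ ⟨y, hy, rfl⟩
    have hsx : Commute y x := Signalizer.commute_of_isMulCommutative h4.1.1 hy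
      (mem_sup_right (mem_zpowers x))
    have := hm y (hle hy) hsx
    show m⁻¹ * y * m⁻¹⁻¹ ∈ (S : Subgroup G)
    rwa [inv_inv]
  have := inv_mem (C.set.mem_normalizer h4 hle h1)
  rwa [inv_inv] at this

/-- A move for any noncentral involution. -/
theorem move_v {v : G} (hvS : v ∈ S) (hv : orderOf v = 2) (hvz : v ≠ z) :
    ∃ m ∈ 𝐌, m * z * m⁻¹ = v ∧ ∀ s ∈ S, Commute s v → m⁻¹ * s * m ∈ S := by
  obtain ⟨g, hg⟩ := C.one v hv
  obtain ⟨m, hm, h1, h2⟩ := C.move (le_top) (mem_top g) hg hvS hvz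
  exact ⟨m, hm.1, h1, h2⟩

/-- `C(z) ∩ N(W)` is transitive on the noncentral involutions of `S`. -/
theorem trans {x y : G} (hxS : x ∈ S) (hx : orderOf x = 2) (hxz : x ≠ z) (hyS : y ∈ S)
    (hy : orderOf y = 2) (hyz : y ≠ z) : ∃ h ∈ 𝐌 ⊓ 𝐂, h * x * h⁻¹ = y := by
  rcases C.facts.fus with hf | ⟨hc0, e, he, -⟩
  · obtain ⟨s, hs⟩ := isConj_iff.1 (hf ⟨x, hxS⟩ ⟨y, hyS⟩ (by rwa [Subgroup.orderOf_mk])
      (fun e => hxz (congrArg Subtype.val e)) (by rwa [Subgroup.orderOf_mk])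
      (fun e => hyz (congrArg Subtype.val e)))
    exact ⟨s, ⟨C.set.norm s.2, C.S_le_C s.2⟩, congrArg Subtype.val hs⟩
  have hzz : z * z = 1 := Involution.mul_self C.z2
  -- from `x`, the pair `(x, z)` to the pair `(z, e)`
  have key : ∀ w : G, w ∈ S → orderOf w = 2 → w ≠ z →
      ∃ a ∈ 𝐌, a * w * a⁻¹ = z ∧ a * z * a⁻¹ = (e : G) := by
    intro w hwS hw hwz
    obtain ⟨m, hm, hmw, hmS⟩ := C.move_v hwS hw hwz
    have h0 : m⁻¹ * w * m = z := by rw [← hmw]; group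
    rcases move_square C.facts hc0 he hwz hwS hmw hmS with h | h
    · exact ⟨m⁻¹, inv_mem hm, by rw [inv_inv, h0], by rw [inv_inv, h]⟩
    · have h' : orderOf ((e : G) * z) = 2 := by
        rw [← h]
        have := Involution.orderOf_conj m⁻¹ z
        rw [inv_inv] at this
        rw [this, C.z2]
      have hne : (e : G) * z ≠ z := fun e' => by
        rw [e'] at h
        refine hwz ?_
        rw [← hmw]
        have : z * m = m * z := by rw [← mul_left_cancel_iff (a := m⁻¹), ← mul_assoc, h, inv_mul_cancel_left]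
        rw [← this, mul_inv_cancel_right]
      obtain ⟨s, hs⟩ := C.facts.swap (e * ⟨z, C.hzS⟩) (by rw [← Subgroup.orderOf_coe]; exact h')
        (fun e' => hne (congrArg Subtype.val e'))
      have hs' : (s : G) * ((e : G) * z) * (s : G)⁻¹ = e := by
        have := congrArg Subtype.val hs
        simpa [mul_assoc, hzz] using this
      refine ⟨s * m⁻¹, mul_mem (C.set.norm s.2) (inv_mem hm), ?_, ?_⟩
      · rw [show (s : G) * m⁻¹ * w * ((s : G) * m⁻¹)⁻¹ = s * (m⁻¹ * w * m) * (s : G)⁻¹ by group, h0,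
          (C.zc s s.2).eq, mul_inv_cancel_right]
      · rw [show (s : G) * m⁻¹ * z * ((s : G) * m⁻¹)⁻¹ = s * (m⁻¹ * z * m) * (s : G)⁻¹ by group, h, hs']
  obtain ⟨a, ha, hax, haz⟩ := key x hxS hx hxz
  obtain ⟨b, hb, hby, hbz⟩ := key y hyS hy hyz
  refine ⟨b⁻¹ * a, ⟨(normalizer (W : Set G)).mul_mem ((normalizer (W : Set G)).inv_mem hb) ha, mem_centralizer_singleton_iff.2 ?_⟩, ?_⟩
  · have h1 : b⁻¹ * a * z * (b⁻¹ * a)⁻¹ = z := by
      rw [show b⁻¹ * a * z * (b⁻¹ * a)⁻¹ = b⁻¹ * (a * z * a⁻¹) * b by group, haz, ← hbz]; group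
    exact mul_inv_eq_iff_eq_mul.1 h1
  · rw [show b⁻¹ * a * x * (b⁻¹ * a)⁻¹ = b⁻¹ * (a * x * a⁻¹) * b by group, hax, ← hby]; group

/-- Lifting a centraliser modulo `O(C(z))`. -/
theorem lift_cent {c v : G} (hc : c ∈ 𝐂) (hvS : v ∈ S) (hv : orderOf v = 2)
    (hcv : v⁻¹ * (c * v * c⁻¹) ∈ 𝐑) : ∃ r ∈ 𝐑, r * c ∈ 𝐂 ⊓ centralizer ({v} : Set G) := by
  have ho : orderOf (c * v * c⁻¹) = 2 := by rw [Involution.orderOf_conj, hv]
  obtain ⟨r, hr, hrv⟩ := exists_conj_of_coset C.R_odd hv ho hcv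
  refine ⟨r⁻¹, inv_mem hr, (centralizer ({z} : Set G)).mul_mem ((centralizer ({z} : Set G)).inv_mem (C.R_le_C hr)) hc, mem_centralizer_singleton_iff.2 ?_⟩
  refine mul_inv_eq_iff_eq_mul.1 ?_
  rw [show r⁻¹ * c * v * (r⁻¹ * c)⁻¹ = r⁻¹ * (c * v * c⁻¹) * r by group, ← hrv]
  group

/-- The shape. -/
theorem exists_bad : ∃ p, Bad S W z p := by
  haveI : Fact (Nat.Prime 2) := ⟨Nat.prime_two⟩
  obtain ⟨F, hF, hFin, hodd, ⟨eL⟩⟩ := S1240.result S C.qw C.hidx
    (fun a b ha hb => by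
      obtain ⟨g, hg⟩ := C.one a ha
      obtain ⟨k, hk⟩ := C.one b hb
      exact isConj_iff.2 ⟨k * g⁻¹, by rw [← hg, ← hk]; group⟩) z C.z2
  set K := Cfsg.oddCore ↥(𝐂) with hK
  haveI : K.Normal := Cores.pPrimeCore_normal 2 _
  set π := QuotientGroup.mk' K with hπ
  have hπs : Function.Surjective π := QuotientGroup.mk'_surjective K
  have hKR : ∀ c : 𝐂, c ∈ K ↔ (c : G) ∈ 𝐑 := fun c => ⟨fun h => ⟨c, h, rfl⟩, fun ⟨x, hx, hxc⟩ => by
    rwa [← (Subtype.ext hxc : x = c)]⟩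
  have hKodd : ¬ 2 ∣ Nat.card K := Cores.not_dvd_card_pPrimeCore
  have hπ1 : ∀ c : 𝐂, π c = 1 ↔ (c : G) ∈ 𝐑 := fun c => (QuotientGroup.eq_one_iff c).trans (hKR c)
  let S' : Sylow 2 𝐂 := S.subtype C.S_le_C
  let Sb : Sylow 2 (↥(𝐂) ⧸ K) := S'.mapSurjective hπs
  let φ : (S : Subgroup G) →* (Sb : Subgroup (↥(𝐂) ⧸ K)) :=
    (π.comp (inclusion C.S_le_C)).codRestrict _ fun s => ⟨inclusion C.S_le_C s, s.2, rfl⟩
  have hφ : Function.Bijective φ := by
    constructor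
    · refine (injective_iff_map_eq_one φ).2 fun s hs => ?_
      have h1 := (hπ1 _).1 (congrArg Subtype.val hs)
      obtain ⟨k, hk⟩ := IsPGroup.iff_orderOf.1 S.isPGroup' s
      rw [← Subgroup.orderOf_coe] at hk
      exact Subtype.ext (orderOf_eq_one_iff.1 (Nat.eq_one_of_dvd_coprimes
        (((Nat.prime_two.coprime_iff_not_dvd).2 C.R_odd).pow_left k) (dvd_of_eq hk)
        (Subgroup.orderOf_dvd_natCard _ h1)))
    · rintro ⟨_, c, hc, rfl⟩
      exact ⟨⟨c, hc⟩, rfl⟩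
  set zb : ↥(𝐂) ⧸ K := π ⟨z, mem_centralizer_singleton_iff.2 rfl⟩ with hzb
  have hzbS : zb ∈ Sb := (φ ⟨z, C.hzS⟩).2
  let A : Amb (↥(𝐂) ⧸ K) F zb :=
    { S := Sb
      hzS := hzbS
      facts := C.facts.congr (MulEquiv.ofBijective φ hφ)
      zc := mem_center_iff.2 fun q => by
        obtain ⟨c, rfl⟩ := hπs q
        rw [hzb, ← map_mul, ← map_mul]
        exact congrArg π (Subtype.ext (mem_centralizer_singleton_iff.1 c.2))
      core := fun N hN hNo => by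
        have h1 := Cores.le_pPrimeCore (p := 2) hN (Nat.coprime_two_right.2 hNo)
        rw [show Cfsg.pPrimeCore 2 (↥(𝐂) ⧸ K) = ⊥ from Cores.pPrimeCore_quotient_self 2] at h1
        exact le_bot_iff.1 h1
      e := eL
      hodd := by rw [Nat.card_eq_fintype_card]; exact hodd }
  set H := (𝐌.subgroupOf 𝐂).map π with hH
  have hKM : K ≤ 𝐌.subgroupOf 𝐂 := fun c hc => mem_subgroupOf.2 (C.R_le_M ((hKR c).1 hc))
  have hmemH : ∀ c : 𝐂, π c ∈ H ↔ (c : G) ∈ 𝐌 := fun c => by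
    rw [hH, ← mem_comap, comap_map_eq, QuotientGroup.ker_mk', sup_eq_left.2 hKM, mem_subgroupOf]
  -- involutions of `Sb`
  have hliftS : ∀ d ∈ A.S, orderOf d = 2 → d ≠ zb →
      ∃ v : (S : Subgroup G), π ⟨v, C.S_le_C v.2⟩ = d ∧ orderOf (v : G) = 2 ∧ (v : G) ≠ z := by
    intro d hd hd2 hdz
    obtain ⟨v, hv⟩ := hφ.2 ⟨d, hd⟩
    have hv' : π ⟨v, C.S_le_C v.2⟩ = d := congrArg Subtype.val hv
    refine ⟨v, hv', ?_, fun e => hdz ?_⟩
    · rw [Subgroup.orderOf_coe, ← orderOf_injective φ hφ.1, hv, Subgroup.orderOf_mk]; exact hd2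
    · rw [← hv', hzb]; exact congrArg π (Subtype.ext e)
  have hcentlift : ∀ (v : G) (hvS : v ∈ S), orderOf v = 2 → ∀ c : 𝐂,
      π c * π ⟨v, C.S_le_C hvS⟩ = π ⟨v, C.S_le_C hvS⟩ * π c →
      ∃ r ∈ 𝐑, r * (c : G) ∈ 𝐂 ⊓ centralizer ({v} : Set G) := by
    intro v hvS hv c hc
    refine C.lift_cent c.2 hvS hv ?_
    have h1 : π (⟨v, C.S_le_C hvS⟩⁻¹ * (c * ⟨v, C.S_le_C hvS⟩ * c⁻¹)) = 1 := by
      rw [map_mul, map_mul, map_mul, map_inv, map_inv, hc]; group
    exact (hπ1 _).1 h1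
  have hB : BadSub A H :=
    { le := fun d hd => by
        obtain ⟨v, hv⟩ := hφ.2 ⟨d, hd⟩
        have hv' : π ⟨v, C.S_le_C v.2⟩ = d := congrArg Subtype.val hv
        rw [← hv']
        exact (hmemH _).2 (C.set.norm v.2)
      ne := fun e => C.bad fun c hc => (hmemH ⟨c, hc⟩).1 (e ▸ mem_top _)
      ex := by
        obtain ⟨v, hv, hvz⟩ := C.facts.ex
        refine ⟨φ v, (φ v).2, ?_, fun e => hvz (hφ.1 (Subtype.ext e))⟩
        rw [Subgroup.orderOf_coe, orderOf_injective φ hφ.1, hv]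
      cent := fun d hd hd2 hdz q hq => by
        obtain ⟨v, rfl, hv, hvz⟩ := hliftS d hd hd2 hdz
        obtain ⟨c, rfl⟩ := hπs q
        obtain ⟨r, hr, hrc⟩ := hcentlift v v.2 hv c (mem_centralizer_singleton_iff.1 hq)
        have h1 := mul_mem (inv_mem (C.R_le_M hr)) (C.centE_le v.2 hv hvz hrc)
        rw [inv_mul_cancel_left] at h1
        exact (hmemH c).2 h1
      fus := fun d hd d' hd' hd2 hdz hd2' hdz' => by
        obtain ⟨v, rfl, hv, hvz⟩ := hliftS d hd hd2 hdz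
        obtain ⟨v', rfl, hv', hvz'⟩ := hliftS d' hd' hd2' hdz'
        obtain ⟨h, hh, hhv⟩ := C.trans v.2 hv hvz v'.2 hv' hvz'
        refine ⟨π ⟨h, hh.2⟩, (hmemH _).2 hh.1, ?_⟩
        rw [← map_inv, ← map_mul, ← map_mul]
        exact congrArg π (Subtype.ext hhv) }
  obtain ⟨p, hp⟩ := A.shape hB
  have hvimg : ∀ (v : G) (hvS : v ∈ S), orderOf v = 2 → v ≠ z →
      orderOf (π ⟨v, C.S_le_C hvS⟩) = 2 ∧ π ⟨v, C.S_le_C hvS⟩ ≠ zb := fun v hvS hv hvz =>
    ⟨by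
      show orderOf ((φ ⟨v, hvS⟩ : (Sb : Subgroup (↥(𝐂) ⧸ K))) : ↥(𝐂) ⧸ K) = 2
      rw [Subgroup.orderOf_coe, orderOf_injective φ hφ.1, Subgroup.orderOf_mk, hv],
     fun e => hvz (congrArg Subtype.val (hφ.1 (a₁ := ⟨v, hvS⟩) (a₂ := ⟨z, C.hzS⟩) (Subtype.ext e)))⟩
  refine ⟨p, ⟨hp.prime, hp.ne_two, hp.small, ?_, ?_, ?_⟩⟩
  · rw [inf_relIndex_right, ← hp.index, hH, index_map_eq _ hπs (by rw [QuotientGroup.ker_mk']; exact hKM)]
    rfl
  · intro v hvS hv hvz
    obtain ⟨hd2, hdz⟩ := hvimg v hvS hv hvz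
    obtain ⟨d', hd'H, hd'2, -, hd'⟩ := hp.partner _ ((hmemH _).2 (C.set.norm hvS)) hd2 hdz
    obtain ⟨c, rfl⟩ := hπs d'
    have hcK : c * c ∈ K := (QuotientGroup.eq_one_iff _).1
      (show π (c * c) = 1 by rw [map_mul, Involution.mul_self hd'2])
    have hcK' : c ∉ K := fun h => by
      rw [show π c = 1 from (QuotientGroup.eq_one_iff _).2 h, orderOf_one] at hd'2; omega
    obtain ⟨ho, hmem⟩ := TwoCore.exists_involution_lift (Nat.odd_iff.2 (Nat.two_dvd_ne_zero.1 hKodd)) hcK hcK'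
    set v' := c ^ Nat.card K
    have hv'π : π v' = π c := (QuotientGroup.eq.2 hmem).symm
    have hv'M : (v' : G) ∈ 𝐌 := (hmemH v').1 (hv'π ▸ hd'H)
    have hv'2 : orderOf (v' : G) = 2 := by rw [Subgroup.orderOf_coe]; exact ho
    obtain ⟨hw, -⟩ := C.mul_z2 hvS hv hvz
    have hco : ((v' : G) * v * (v' : G)⁻¹)⁻¹ * (v * z) ∈ 𝐑 := by
      have h1 : π ((v' * ⟨v, C.S_le_C hvS⟩ * v'⁻¹)⁻¹ *
          (⟨v, C.S_le_C hvS⟩ * ⟨z, mem_centralizer_singleton_iff.2 rfl⟩)) = 1 := by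
        rw [map_mul, map_mul, map_inv, map_mul, map_mul, map_inv, hv'π, hd', ← hzb]
        exact inv_mul_cancel _
      exact (hπ1 _).1 h1
    obtain ⟨r, hr, hrv⟩ := exists_conj_of_coset C.R_odd
      (by rw [Involution.orderOf_conj]; exact hv) hw hco
    set s₀ := r * (v' : G) with hs₀
    have hs₀MC : s₀ ∈ 𝐌 ⊓ 𝐂 := ⟨mul_mem (C.R_le_M hr) hv'M, mul_mem (C.R_le_C hr) v'.2⟩
    have hs₀v : s₀ * v * s₀⁻¹ = v * z := by rw [hs₀, ← hrv]; group
    have hs₀R : s₀ * s₀ ∈ 𝐑 := by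
      have h1 : π ((⟨r, C.R_le_C hr⟩ * v') * (⟨r, C.R_le_C hr⟩ * v')) = 1 := by
        rw [map_mul, map_mul, show π ⟨r, C.R_le_C hr⟩ = 1 from (hπ1 _).2 hr, one_mul, hv'π,
          Involution.mul_self hd'2]
      exact (hπ1 _).1 h1
    obtain ⟨k, hk⟩ : Odd (orderOf (s₀ * s₀)) := Nat.not_even_iff_odd.1 fun he =>
      C.R_odd ((even_iff_two_dvd.1 he).trans (Subgroup.orderOf_dvd_natCard _ hs₀R))
    have hsq : Commute (s₀ * s₀) v := by
      refine mul_inv_eq_iff_eq_mul.1 ?_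
      rw [show s₀ * s₀ * v * (s₀ * s₀)⁻¹ = s₀ * (s₀ * v * s₀⁻¹) * s₀⁻¹ by group, hs₀v,
        show s₀ * (v * z) * s₀⁻¹ = s₀ * v * s₀⁻¹ * (s₀ * z * s₀⁻¹) by group, hs₀v,
        mem_centralizer_singleton_iff.1 hs₀MC.2, mul_inv_cancel_right, mul_assoc,
        Involution.mul_self C.z2, mul_one]
    set s := s₀ * (s₀ * s₀) ^ k with hs
    have hsv : s * v * s⁻¹ = v * z := by
      rw [hs, show s₀ * (s₀ * s₀) ^ k * v * (s₀ * (s₀ * s₀) ^ k)⁻¹ =
        s₀ * ((s₀ * s₀) ^ k * v * ((s₀ * s₀) ^ k)⁻¹) * s₀⁻¹ by group, (hsq.pow_left k).eq,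
        mul_inv_cancel_right, hs₀v]
    refine ⟨s, mul_mem hs₀MC (pow_mem (mul_mem hs₀MC hs₀MC) k), Involution.orderOf_of_sq ?_ ?_, hsv⟩
    · have hcomm : Commute s₀ ((s₀ * s₀) ^ k) := ((Commute.refl s₀).mul_right (Commute.refl s₀)).pow_right k
      rw [hs, hcomm.symm.mul_mul_mul_comm, ← pow_add, ← pow_succ', show k + k + 1 = 2 * k + 1 by ring,
        ← hk, pow_orderOf_eq_one]
    · intro e
      rw [e, one_mul, inv_one, mul_one] at hsv
      exact (Involution.ne_one C.z2) (mul_left_cancel (hsv.symm.trans (mul_one v).symm))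
  · intro v hvS hv hvz X hRX hXC hX hn
    obtain ⟨hd2, hdz⟩ := hvimg v hvS hv hvz
    set Xb := (X.subgroupOf 𝐂).map π with hXb
    have hXb2 : ¬ 2 ∣ Nat.card Xb := fun h => hX (h.trans ((card_map_dvd (X.subgroupOf 𝐂) π).trans
      (dvd_of_eq (Cores.card_subgroupOf hXC))))
    have hnb : centralizer ({π ⟨v, C.S_le_C hvS⟩} : Set (↥(𝐂) ⧸ K)) ≤ normalizer (Xb : Set _) := by
      intro q hq
      obtain ⟨c, rfl⟩ := hπs q
      obtain ⟨r, hr, hrc⟩ := hcentlift v hvS hv c (mem_centralizer_singleton_iff.1 hq)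
      have h1 : (c : G) ∈ normalizer (X : Set G) := by
        have := mul_mem (inv_mem (le_normalizer (hRX hr))) (hn hrc)
        rwa [inv_mul_cancel_left] at this
      refine Signalizer.mem_normalizer_of_conj_mem ?_
      rintro _ ⟨x, hx, rfl⟩
      exact ⟨c * x * c⁻¹, (mem_normalizer_iff.1 h1 _).1 hx, by rw [map_mul, map_mul, map_inv]⟩
    have hcard : (𝐑).relIndex X = Nat.card Xb := by
      rw [hXb, ← relIndex_ker, QuotientGroup.ker_mk', show K = (𝐑).subgroupOf 𝐂 from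
        Subgroup.ext fun c => (hKR c).trans mem_subgroupOf.symm, relIndex_subgroupOf hXC]
    refine ⟨hcard ▸ hp.dvd _ hd2 hdz Xb hXb2 hnb, fun hXM x hx => ?_⟩
    have h1 := hp.eq_bot hd2 hdz hXb2 hnb (by
      rintro _ ⟨c, hc, rfl⟩
      exact (hmemH c).2 (hXM hc))
    have h2 : π ⟨x, hXC hx⟩ ∈ Xb := ⟨⟨x, hXC hx⟩, hx, rfl⟩
    rw [h1, mem_bot] at h2
    exact (hπ1 _).1 h2

/-- The shape at a noncentral involution. -/
theorem at_v {p : ℕ} (B : Bad S W z p) {v : G} (hvS : v ∈ S) (hv : orderOf v = 2) (hvz : v ≠ z)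
    {X : Subgroup G} (hθX : Cfsg.centralizerPPrimeCore 2 v ≤ X) (hXv : X ≤ centralizer ({v} : Set G))
    (hX : ¬ 2 ∣ Nat.card X) (hn : 𝐂 ⊓ centralizer ({v} : Set G) ≤ normalizer (X : Set G)) :
    (Cfsg.centralizerPPrimeCore 2 v).relIndex X ∣ p ∧
      (X ≤ 𝐌 → X ≤ Cfsg.centralizerPPrimeCore 2 v) := by
  obtain ⟨m, hm, hmv, hmS⟩ := C.move_v hvS hv hvz
  set f := (MulAut.conj m⁻¹).toMonoidHom with hf
  have hfi : Function.Injective f := (MulAut.conj m⁻¹).injective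
  have hfv : f v = z := by show m⁻¹ * v * m⁻¹⁻¹ = z; rw [← hmv]; group
  have hfz : f z ∈ S ∧ orderOf (f z) = 2 ∧ f z ≠ z := by
    refine ⟨?_, ?_, fun e => hvz ?_⟩
    · show m⁻¹ * z * m⁻¹⁻¹ ∈ (S : Subgroup G)
      rw [inv_inv]; exact hmS z C.hzS (C.zc v hvS).symm
    · rw [orderOf_injective f hfi, C.z2]
    · exact hfi (hfv.trans e.symm)
  have hfR : (Cfsg.centralizerPPrimeCore 2 v).map f = 𝐑 := by
    rw [hf, Signalizer.map_conj_centralizerPPrimeCore]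
    congr 1
  have h := B.dvd _ hfz.1 hfz.2.1 hfz.2.2 (X.map f) (hfR ▸ map_mono hθX)
    (by
      rintro _ ⟨x, hx, rfl⟩
      refine mem_centralizer_singleton_iff.2 ?_
      rw [← hfv, ← map_mul, ← map_mul, mem_centralizer_singleton_iff.1 (hXv hx)])
    (by rw [card_map_of_injective hfi]; exact hX)
    (by
      rintro g ⟨hgz, hgv⟩
      obtain ⟨g', hfg⟩ : ∃ g', f g' = g := ⟨m * g * m⁻¹, by show m⁻¹ * (m * g * m⁻¹) * m⁻¹⁻¹ = g; group⟩
      have h1 : g' ∈ 𝐂 ⊓ centralizer ({v} : Set G) := by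
        constructor <;> refine mem_centralizer_singleton_iff.2 (hfi ?_) <;>
          rw [map_mul, map_mul, hfg]
        · exact mem_centralizer_singleton_iff.1 hgv
        · rw [hfv]; exact mem_centralizer_singleton_iff.1 hgz
      rw [← hfg]
      exact le_normalizer_map f (mem_map_of_mem f (hn h1)))
  constructor
  · have h1 := h.1
    rwa [← hfR, relIndex_map_map_of_injective _ _ hfi] at h1
  · intro hXM x hx
    have h1 := h.2 (by
      rintro _ ⟨y, hy, rfl⟩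
      show m⁻¹ * y * m⁻¹⁻¹ ∈ 𝐌
      exact mul_mem (mul_mem (inv_mem hm) (hXM hy)) (inv_mem (inv_mem hm))) (mem_map_of_mem f hx)
    rw [← hfR] at h1
    obtain ⟨y, hy, hyx⟩ := h1
    exact hfi hyx ▸ hy

end Ctx

end Cfsg.Agent.CoreKilling.RankTwo
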