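import Cfsg.Agent.Lib.CoreKilling.RankTwo.Local
import Cfsg.Agent.Lib.CoreKilling.RankTwo.AutOdd
import Mathlib.GroupTheory.FixedPointFree

/-!
# Core killing in 2-rank two: `O(K) ∩ N(W)` is normal in `O(K)` (owner: helper44)

* `LocSub.relIndex_fix` : at a noncentral involution `O(K) ∩ N(W)` has index dividing `p`
* `LocSub.D_normal` : for `C(z) ≤ K`, `O(K) ∩ N(W)` is normal in `O(K)`
* `LocSub.mem_W` : the `p'`-elements of `O(K)` lie in `W`
-/

set_option autoImplicit false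
set_option linter.unusedSectionVars false
set_option linter.style.haveILetI false

namespace Cfsg.Agent.CoreKilling.RankTwo

open Subgroup
open scoped Pointwise

universe u

variable {G : Type u} [Group G] [Finite G]

theorem relIndex_sup_normalized {H N : Subgroup G} (h : H ≤ normalizer (N : Set G)) :
    N.relIndex (H ⊔ N) = N.relIndex H := by
  haveI : (N.subgroupOf (normalizer (N : Set G))).Normal :=
    Cores.subgroupOf_normal_of_le_normalizer le_rfl
  rw [← relIndex_subgroupOf (sup_le h le_normalizer), ← relIndex_subgroupOf (H := N) h,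
    subgroupOf_sup h le_normalizer, relIndex_sup_right]

variable {S : Sylow 2 G} {W : Subgroup G} {z : G}

local notation "𝐌" => normalizer (W : Set G)
local notation "𝐂" => centralizer (Singleton.singleton z : Set G)
local notation "𝐑" => Cfsg.centralizerPPrimeCore 2 z

namespace LocSub

variable (C : Ctx S W z) {p : ℕ} (B : Bad S W z p) {K : Subgroup G} (L : LocSub S W z K)
include C B L

theorem D_le_W : oc K ⊓ 𝐌 ≤ W := (L.inter_eq C B).ge.trans inf_le_left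

/-- At `v` the index of `O(K) ∩ N(W)` is that of `θ(v)`. -/
theorem relIndex_fix_eq {v : G} (hvS : v ∈ S) (hv : orderOf v = 2) {X : Subgroup G}
    (hX : X ≤ oc K ⊓ centralizer ({v} : Set G)) :
    (oc K ⊓ 𝐌).relIndex X = (Cfsg.centralizerPPrimeCore 2 v).relIndex X := by
  have he : (oc K ⊓ 𝐌) ⊓ X = Cfsg.centralizerPPrimeCore 2 v ⊓ X := by
    refine le_antisymm (le_inf ?_ inf_le_right) (le_inf (le_inf ?_ ?_) inf_le_right)
    · exact (le_inf (inf_le_left.trans (L.D_le_W C B)) ((inf_le_right.trans hX).trans inf_le_right)).trans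
        (C.W_inf hvS hv).le
    · exact (inf_le_right.trans hX).trans inf_le_left
    · exact inf_le_left.trans ((C.theta_le hvS hv).trans le_normalizer)
  rw [← inf_relIndex_right (oc K ⊓ 𝐌), he, inf_relIndex_right]

/-- At a noncentral involution the index divides `p`. -/
theorem relIndex_fix {v : G} (hvS : v ∈ S) (hv : orderOf v = 2) (hvz : v ≠ z) {X : Subgroup G}
    (hX : X ≤ oc K ⊓ centralizer ({v} : Set G)) : (oc K ⊓ 𝐌).relIndex X ∣ p := by
  have hCn := Signalizer.centralizer_le_normalizer_core (p := 2) v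
  have hn : ∀ Y : Subgroup G, Y ≤ oc K ⊓ centralizer ({v} : Set G) →
      Y ≤ normalizer (Cfsg.centralizerPPrimeCore 2 v : Set G) := fun Y hY =>
    (hY.trans inf_le_right).trans hCn
  rw [L.relIndex_fix_eq C B hvS hv hX, ← relIndex_sup_normalized (hn X hX)]
  refine (Dvd.intro _ (relIndex_mul_relIndex _ _ _ le_sup_right ?_)).trans
    (C.part B hvS hv hvz (oc_odd K) (L.supN_core C B hvS hv hvz)).1
  exact sup_le_sup_right hX _

/-- A subgroup over `C_D(v)` outside `N(W)` is `C_O(v)`. -/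
theorem fix_le_of_not_le {v : G} (hvS : v ∈ S) (hv : orderOf v = 2) (hvz : v ≠ z) {X : Subgroup G}
    (hX : X ≤ oc K ⊓ centralizer ({v} : Set G))
    (hDX : oc K ⊓ 𝐌 ⊓ centralizer ({v} : Set G) ≤ X) (hXM : ¬ X ≤ 𝐌) :
    oc K ⊓ centralizer ({v} : Set G) ≤ X := by
  have key : ∀ Y : Subgroup G, Y ≤ oc K ⊓ centralizer ({v} : Set G) →
      (oc K ⊓ 𝐌 ⊓ centralizer ({v} : Set G)).relIndex Y = (oc K ⊓ 𝐌).relIndex Y := fun Y hY => by
    rw [← inf_relIndex_right, inf_assoc, inf_eq_right.2 (hY.trans inf_le_right), inf_relIndex_right]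
  have h := relIndex_mul_relIndex _ _ _ hDX hX
  rw [key X hX, key _ le_rfl] at h
  have h2 : (oc K ⊓ 𝐌).relIndex X = p :=
    ((Nat.dvd_prime B.prime).1 (L.relIndex_fix C B hvS hv hvz hX)).resolve_left fun e =>
      hXM ((relIndex_eq_one.1 e).trans inf_le_right)
  rcases (Nat.dvd_prime B.prime).1
    ((Dvd.intro_left _ h).trans (L.relIndex_fix C B hvS hv hvz le_rfl)) with e | e
  · exact relIndex_eq_one.1 e
  exfalso
  rw [h2, e] at h
  have := Nat.le_of_dvd B.prime.pos (h ▸ L.relIndex_fix C B hvS hv hvz le_rfl)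
  nlinarith [B.prime.two_le]

/-- The main step: `O(K) ≤ N(O(K) ∩ N(W))`, with index `1` or `p²`. -/
theorem D_normal (hCK : 𝐂 ≤ K) :
    oc K ≤ normalizer ((oc K ⊓ 𝐌 : Subgroup G) : Set G) ∧ (oc K ⊓ 𝐌).relIndex (oc K) ∣ p ^ 2 := by
  haveI : Fact (Nat.Prime 2) := ⟨Nat.prime_two⟩
  haveI : Fact p.Prime := ⟨B.prime⟩
  by_cases hOM : oc K ≤ 𝐌
  · rw [inf_eq_left.2 hOM, relIndex_self]
    exact ⟨le_normalizer, one_dvd _⟩
  set O := oc K with hO
  set D := O ⊓ 𝐌 with hD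
  set P := O ⊔ K ⊓ 𝐌 with hP
  have hOP : O ≤ P := le_sup_left
  have hKP : K ⊓ 𝐌 ≤ P := le_sup_right
  have hOn : K ≤ normalizer (O : Set G) := le_normalizer_oc K
  have hPO : P ≤ normalizer (O : Set G) := sup_le le_normalizer (inf_le_left.trans hOn)
  have hDn : K ⊓ 𝐌 ≤ normalizer (D : Set G) :=
    Signalizer.le_normalizer_inf (inf_le_left.trans hOn) (inf_le_right.trans le_normalizer)
  -- the largest subgroup of `D` normal in `P`
  set N0 := ⨆ X : {X : Subgroup G // X ≤ D ∧ P ≤ normalizer (X : Set G)}, (X : Subgroup G) with hN0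
  have hN0D : N0 ≤ D := iSup_le fun X => X.2.1
  have hPN0 : P ≤ normalizer (N0 : Set G) := Signalizer.le_normalizer_iSup fun X => X.2.2
  have hcore : ∀ X : Subgroup G, X ≤ D → P ≤ normalizer (X : Set G) → X ≤ N0 := fun X h1 h2 =>
    le_iSup (fun X : {X : Subgroup G // X ≤ D ∧ P ≤ normalizer (X : Set G)} => (X : Subgroup G))
      ⟨X, h1, h2⟩
  -- a minimal one above it
  obtain ⟨A1, ⟨hN0A, hAO, hPA⟩, hAmin⟩ := exists_minimal_of_wellFoundedLT
    (fun X : Subgroup G => N0 < X ∧ X ≤ O ∧ P ≤ normalizer (X : Set G))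
    ⟨O, lt_of_le_of_ne (hN0D.trans inf_le_left) fun e => hOM (e ▸ hN0D.trans inf_le_right),
      le_rfl, hPO⟩
  have hA0 : N0 ≤ A1 := hN0A.le
  have hAodd : ¬ 2 ∣ Nat.card A1 := not_dvd_of_le hAO (oc_odd K)
  have hab : ∀ a ∈ A1, ∀ b ∈ A1, a * b * a⁻¹ * b⁻¹ ∈ N0 := by
    set N' := N0.subgroupOf A1
    haveI : N'.Normal := Cores.subgroupOf_normal_of_le_normalizer ((hAO.trans hOP).trans hPN0)
    haveI : Group.IsSolvable A1 :=
      OddOrderTheorem.solvable (Nat.odd_iff.2 (Nat.two_dvd_ne_zero.1 hAodd))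
    haveI : Nontrivial (A1 ⧸ N') := QuotientGroup.nontrivial_iff.2 fun e =>
      hN0A.not_ge (subgroupOf_eq_top.1 e)
    have hlt : ⁅A1, A1⁆ ⊔ N0 ≠ A1 := by
      intro e
      refine (IsSolvable.commutator_lt_top_of_nontrivial (G := A1 ⧸ N')).ne (eq_top_iff.2 ?_)
      rintro x -
      obtain ⟨⟨a, ha⟩, rfl⟩ := QuotientGroup.mk'_surjective N' x
      rw [commutator_def, ← map_top_of_surjective _ (QuotientGroup.mk'_surjective N'), ← map_commutator]
      have ha' : a ∈ ((⁅(⊤ : Subgroup A1), ⊤⁆ ⊔ N').map A1.subtype : Subgroup G) := by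
        rw [Subgroup.map_sup, map_commutator, ← MonoidHom.range_eq_map, range_subtype,
          map_subgroupOf_eq_of_le hA0, e]
        exact ha
      obtain ⟨b, hb, hba⟩ := ha'
      rw [show (⟨a, ha⟩ : A1) = b from Subtype.ext hba.symm]
      have := mem_map_of_mem (QuotientGroup.mk' N') hb
      rwa [Subgroup.map_sup, QuotientGroup.map_mk'_self, sup_bot_eq] at this
    have hcle : ⁅A1, A1⁆ ⊔ N0 ≤ A1 :=
      sup_le ((commutator_mono le_rfl le_rfl).trans (commutator_le.2 fun a ha b hb =>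
        A1.mul_mem (A1.mul_mem (A1.mul_mem ha hb) (A1.inv_mem ha)) (A1.inv_mem hb))) hA0
    have heq : ⁅A1, A1⁆ ⊔ N0 = N0 := by
      by_contra hne
      exact hlt (le_antisymm hcle (hAmin ⟨lt_of_le_of_ne le_sup_right (Ne.symm hne), hcle.trans hAO,
        Signalizer.le_normalizer_sup (hPA.trans (Signalizer.normalizer_le_normalizer_commutator A1))
          hPN0⟩ hcle))
    exact fun a ha b hb => heq.le (le_sup_left (b := N0) (commutator_mem_commutator ha hb))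
  have hA1D : ¬ A1 ≤ D := fun h => hN0A.not_ge (hcore A1 h hPA)
  obtain ⟨w, hw, hwz⟩ := C.facts.ex
  set v : G := (w : G)
  have hvS : v ∈ S := w.2
  have hv : orderOf v = 2 := by rw [Subgroup.orderOf_coe]; exact hw
  have hvz : v ≠ z := fun e => hwz (Subtype.ext e)
  obtain ⟨h1S, h12, h1z⟩ := C.v_mul hvS hv hvz
  obtain ⟨s, hs, hs2, hsv⟩ := B.partner v hvS hv hvz
  have hsK : s ∈ K ⊓ 𝐌 := ⟨hCK hs.2, hs.1⟩
  have hSK : ∀ x ∈ S, x ∈ K ⊓ 𝐌 := fun x hx => ⟨L.le hx, C.set.norm hx⟩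
  have hOz : O ⊓ 𝐂 ≤ D :=
    le_inf inf_le_left ((L.core_z C B).trans C.R_le_M)
  -- transport by the partner
  have hsw : ∀ X Y : Subgroup G, s ∈ normalizer (X : Set G) → s ∈ normalizer (Y : Set G) →
      (X ⊓ centralizer ({v} : Set G) ≤ Y → X ⊓ centralizer ({v * z} : Set G) ≤ Y) ∧
      (X ⊓ centralizer ({v * z} : Set G) ≤ Y → X ⊓ centralizer ({v} : Set G) ≤ Y) := by
    intro X Y hsX hsY
    constructor
    · rintro h x ⟨hx, hxc⟩
      have h1 : s⁻¹ * x * s ∈ X ⊓ centralizer ({v} : Set G) := by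
        refine ⟨(mem_normalizer_iff''.1 hsX x).1 hx, mem_centralizer_singleton_iff.2 ?_⟩
        calc s⁻¹ * x * s * v = s⁻¹ * (x * (s * v * s⁻¹)) * s := by group
          _ = s⁻¹ * ((s * v * s⁻¹) * x) * s := by rw [hsv, mem_centralizer_singleton_iff.1 hxc]
          _ = _ := by group
      exact (mem_normalizer_iff''.1 hsY x).2 (h h1)
    · rintro h x ⟨hx, hxc⟩
      have h1 : s * x * s⁻¹ ∈ X ⊓ centralizer ({v * z} : Set G) := by
        refine ⟨(mem_normalizer_iff.1 hsX x).1 hx, mem_centralizer_singleton_iff.2 ?_⟩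
        rw [← hsv]
        calc s * x * s⁻¹ * (s * v * s⁻¹) = s * (x * v) * s⁻¹ := by group
          _ = s * (v * x) * s⁻¹ := by rw [mem_centralizer_singleton_iff.1 hxc]
          _ = _ := by group
      exact (mem_normalizer_iff.1 hsY x).2 (h h1)
  have hgen : ∀ X Y : Subgroup G, ¬ 2 ∣ Nat.card X → K ⊓ 𝐌 ≤ normalizer (X : Set G) →
      X ⊓ 𝐂 ≤ Y → X ⊓ centralizer ({v} : Set G) ≤ Y → X ⊓ centralizer ({v * z} : Set G) ≤ Y →
      X ≤ Y := fun X Y hX hnX h1 h2 h3 =>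
    gen4 C.z2 hv hvz (C.zc v hvS).symm hX (hnX (hSK z C.hzS)) (hnX (hSK v hvS)) h1 h2 h3
  -- `O = A1 D`
  have hDP : D ≤ P := inf_le_left.trans hOP
  set H := A1 ⊔ D with hH
  have hHO : H ≤ O := sup_le hAO inf_le_left
  have hHn : K ⊓ 𝐌 ≤ normalizer (H : Set G) := Signalizer.le_normalizer_sup (hKP.trans hPA) hDn
  have hnot : ¬ (H ⊓ centralizer ({v} : Set G) ≤ D) := fun h => hA1D (hgen A1 D hAodd (hKP.trans hPA)
    ((inf_le_inf_right _ hAO).trans hOz)
    ((inf_le_inf_right _ (le_sup_left : A1 ≤ H)).trans h)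
    ((inf_le_inf_right _ (le_sup_left : A1 ≤ H)).trans ((hsw H D (hHn hsK) (hDn hsK)).1 h)))
  have hOH : O ≤ H := by
    have key : ∀ u : G, u ∈ S → orderOf u = 2 → u ≠ z → ¬ H ⊓ centralizer ({u} : Set G) ≤ D →
        O ⊓ centralizer ({u} : Set G) ≤ H := fun u huS hu huz hne =>
      (L.fix_le_of_not_le C B huS hu huz (X := H ⊓ centralizer ({u} : Set G))
        (inf_le_inf_right _ hHO) (inf_le_inf_right _ le_sup_right)
        (fun h => hne (le_inf (inf_le_left.trans hHO) h))).trans inf_le_left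
    exact hgen O H (oc_odd K) (inf_le_left.trans hOn) (hOz.trans le_sup_right)
      (key v hvS hv hvz hnot) (key _ h1S h12 h1z fun h => hnot ((hsw H D (hHn hsK) (hDn hsK)).2 h))
  have hAD : A1 ⊓ D ≤ N0 := by
    refine hcore _ inf_le_right (sup_le (hOH.trans (sup_le ?_ ?_))
      (Signalizer.le_normalizer_inf (hKP.trans hPA) hDn))
    · intro a ha
      refine Signalizer.mem_normalizer_of_conj_mem fun x hx => ?_
      have h1 : a * x * a⁻¹ * x⁻¹ ∈ A1 ⊓ D :=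
        ⟨hA0 (hab a ha x hx.1), hN0D (hab a ha x hx.1)⟩
      have h2 := (A1 ⊓ D).mul_mem h1 hx
      rwa [inv_mul_cancel_right] at h2
    · exact Signalizer.le_normalizer_inf (hDP.trans hPA) le_normalizer
  -- `z` fixes nothing on `A1 / N0`
  have hzP : z ∈ P := hKP (hSK z C.hzS)
  have hvP : v ∈ P := hKP (hSK v hvS)
  have hfree : ∀ x ∈ A1, x⁻¹ * (z * x * z⁻¹) ∈ N0 → x ∈ N0 := by
    intro x hx h
    have hb : orderOf (x⁻¹ * z * x⁻¹⁻¹) = 2 := by rw [Involution.orderOf_conj]; exact C.z2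
    have h1 : z⁻¹ * (x⁻¹ * z * x⁻¹⁻¹) ∈ N0 := by
      have := (mem_normalizer_iff''.1 (hPN0 hzP) _).1 h
      rwa [show z⁻¹ * (x⁻¹ * (z * x * z⁻¹)) * z = z⁻¹ * (x⁻¹ * z * x⁻¹⁻¹) by group] at this
    obtain ⟨r, hr, hrz⟩ := exists_conj_of_coset
      (not_dvd_of_le (hN0D.trans inf_le_left) (oc_odd K)) C.z2 hb h1
    have hxr : x * r ∈ 𝐂 := mem_centralizer_singleton_iff.2 (mul_inv_eq_iff_eq_mul.1 (by
      rw [show x * r * z * (x * r)⁻¹ = x * (r * z * r⁻¹) * x⁻¹ by group, hrz]; group))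
    have h2 : x * r ∈ A1 := A1.mul_mem hx (hA0 hr)
    have h3 := N0.mul_mem (hAD ⟨h2, hOz ⟨hAO h2, hxr⟩⟩) (N0.inv_mem hr)
    rwa [mul_inv_cancel_right] at h3
  -- the two lines
  have hAv : ¬ A1 ⊓ centralizer ({v} : Set G) ≤ N0 := fun h => hA1D (hgen A1 D hAodd (hKP.trans hPA)
    ((inf_le_inf_right _ hAO).trans hOz) (h.trans hN0D)
    (((hsw A1 N0 (hPA (hKP hsK)) (hPN0 (hKP hsK))).1 h).trans hN0D))
  have hAvz : ¬ A1 ⊓ centralizer ({v * z} : Set G) ≤ N0 := fun h =>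
    hAv ((hsw A1 N0 (hPA (hKP hsK)) (hPN0 (hKP hsK))).2 h)
  have hline : ∀ u : G, u ∈ S → orderOf u = 2 → u ≠ z → ¬ A1 ⊓ centralizer ({u} : Set G) ≤ N0 →
      N0.relIndex (A1 ⊓ centralizer ({u} : Set G)) = p := by
    intro u huS hu huz hne
    have he : N0.relIndex (A1 ⊓ centralizer ({u} : Set G)) =
        D.relIndex (A1 ⊓ centralizer ({u} : Set G)) := by
      rw [← inf_relIndex_right N0, ← inf_relIndex_right D]
      congr 1
      exact le_antisymm (inf_le_inf_right _ hN0D) (le_inf ((inf_le_inf_left D inf_le_left).trans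
        (inf_comm D A1 ▸ hAD)) inf_le_right)
    refine ((Nat.dvd_prime B.prime).1 ?_).resolve_left fun e => hne (relIndex_eq_one.1 e)
    rw [he]
    exact L.relIndex_fix C B huS hu huz (inf_le_inf_right _ hAO)
  set Fv := (A1 ⊓ centralizer ({v} : Set G)) ⊔ N0 with hFv
  have hFvA : Fv ≤ A1 := sup_le inf_le_left hA0
  have hFvn : A1 ≤ normalizer (Fv : Set G) := fun a ha =>
    Signalizer.mem_normalizer_of_conj_mem fun x hx => by
      have := Fv.mul_mem (le_sup_right (a := A1 ⊓ centralizer ({v} : Set G)) (hab a ha x (hFvA hx))) hx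
      rwa [inv_mul_cancel_right] at this
  have hA1P : A1 ≤ P := hAO.trans hOP
  have hFvvz : Fv ⊓ (A1 ⊓ centralizer ({v * z} : Set G)) = N0 ⊓ (A1 ⊓ centralizer ({v * z} : Set G)) := by
    refine le_antisymm (le_inf (fun x hx => ?_) inf_le_right) (inf_le_inf_right _ le_sup_right)
    obtain ⟨hxF, hxA, hxc⟩ := hx
    refine hfree x hxA ?_
    have hx' : x ∈ ((A1 ⊓ centralizer ({v} : Set G) : Subgroup G) : Set G) * (N0 : Set G) := by
      rw [← coe_mul_of_left_le_normalizer_right _ _ (inf_le_left.trans (hA1P.trans hPN0))]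
      exact hxF
    obtain ⟨c, hc, n, hn, rfl⟩ := hx'
    have hcv : v * c * v⁻¹ = c := by
      rw [← mem_centralizer_singleton_iff.1 hc.2, mul_inv_cancel_right]
    -- `z` and `v` agree on `c n`
    have hzv : z * (c * n) * z⁻¹ = v * (c * n) * v⁻¹ := by
      have h1 := mem_centralizer_singleton_iff.1 hxc
      calc z * (c * n) * z⁻¹ = v⁻¹ * ((v * z) * (c * n)) * z⁻¹ := by group
        _ = v⁻¹ * ((c * n) * (v * z)) * z⁻¹ := by rw [h1]
        _ = v⁻¹ * (c * n) * v := by group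
        _ = _ := by rw [Involution.inv_eq hv]
    rw [hzv, show v * (c * n) * v⁻¹ = v * c * v⁻¹ * (v * n * v⁻¹) by group, hcv,
      show (c * n)⁻¹ * (c * (v * n * v⁻¹)) = n⁻¹ * (v * n * v⁻¹) by group]
    exact N0.mul_mem (N0.inv_mem hn) ((mem_normalizer_iff.1 (hPN0 hvP) n).1 hn)
  have hcard : N0.relIndex A1 = p ^ 2 := by
    have hA1 : A1 = (A1 ⊓ centralizer ({v * z} : Set G)) ⊔ Fv := by
      refine le_antisymm (hgen A1 _ hAodd (hKP.trans hPA) ?_ ?_ le_sup_left) (sup_le inf_le_left hFvA)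
      · exact fun x hx => le_sup_right (a := A1 ⊓ centralizer ({v * z} : Set G))
          (le_sup_right (a := A1 ⊓ centralizer ({v} : Set G))
            (hAD ⟨hx.1, hOz ⟨hAO hx.1, hx.2⟩⟩))
      · exact le_sup_left.trans le_sup_right
    rw [← relIndex_mul_relIndex N0 Fv A1 le_sup_right hFvA, hFv,
      relIndex_sup_normalized (inf_le_left.trans (hA1P.trans hPN0)), ← hFv, hline v hvS hv hvz hAv]
    conv_lhs => arg 2; rw [hA1]
    rw [relIndex_sup_normalized (inf_le_left.trans hFvn), ← inf_relIndex_right, hFvvz,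
      inf_relIndex_right, hline _ h1S h12 h1z hAvz, sq]
  -- the action on `A1 / N0`
  haveI hN'n : (N0.subgroupOf P).Normal := Cores.subgroupOf_normal_of_le_normalizer hPN0
  haveI hA'n : (A1.subgroupOf P).Normal := Cores.subgroupOf_normal_of_le_normalizer hPA
  set π := QuotientGroup.mk' (N0.subgroupOf P) with hπ
  set Ab := (A1.subgroupOf P).map π with hAb
  haveI : Ab.Normal := hA'n.map π (QuotientGroup.mk'_surjective _)
  let mk : A1 → Ab := fun a => ⟨π ⟨a, hA1P a.2⟩, mem_map_of_mem π a.2⟩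
  have hmk : ∀ a : Ab, ∃ x, mk x = a := by
    rintro ⟨_, x, hx, rfl⟩
    exact ⟨⟨x, hx⟩, rfl⟩
  have hmk_eq : ∀ a b : A1, mk a = mk b ↔ (a : G)⁻¹ * b ∈ N0 := fun a b =>
    Subtype.ext_iff.trans (QuotientGroup.eq.trans mem_subgroupOf)
  letI : CommGroup Ab :=
    { (inferInstance : Group Ab) with
      mul_comm := fun a b => by
        obtain ⟨x, rfl⟩ := hmk a
        obtain ⟨y, rfl⟩ := hmk b
        refine (hmk_eq (x * y) (y * x)).2 ?_
        have := hab (y : G)⁻¹ (A1.inv_mem y.2) (x : G)⁻¹ (A1.inv_mem x.2)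
        rw [Subgroup.coe_mul, Subgroup.coe_mul]
        rwa [show (y : G)⁻¹ * (x : G)⁻¹ * (y : G)⁻¹⁻¹ * (x : G)⁻¹⁻¹ = ((x : G) * y)⁻¹ * (y * x) by
          group] at this }
  have hcardA : Nat.card Ab = p ^ 2 := by
    rw [hAb, ← relIndex_ker, hπ, QuotientGroup.ker_mk', relIndex_subgroupOf hA1P, hcard]
  let φ : P →* MulAut Ab := (MulAut.conjNormal).comp π
  have hφ : ∀ (g : P) (a : A1), φ g (mk a) =
      mk ⟨(g : G) * a * (g : G)⁻¹, (mem_normalizer_iff.1 (hPA g.2) a).1 a.2⟩ :=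
    fun g a => Subtype.ext (MulAut.conjNormal_apply (π g) _)
  set bv := φ ⟨v, hvP⟩ with hbv
  set bs := φ ⟨s, hKP hsK⟩ with hbs
  set bz := φ ⟨z, hzP⟩ with hbz
  have hsq : ∀ (g : G) (hg : g ∈ P), orderOf g = 2 → φ ⟨g, hg⟩ * φ ⟨g, hg⟩ = 1 := fun g hg h2 => by
    rw [← map_mul, show (⟨g, hg⟩ : P) * ⟨g, hg⟩ = 1 from Subtype.ext (Involution.mul_self h2), map_one]
  have hone : ∀ a : A1, mk a = 1 ↔ (a : G) ∈ N0 := fun a =>
    (Subtype.ext_iff.trans (QuotientGroup.eq_one_iff _)).trans mem_subgroupOf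
  have hfp : MonoidHom.FixedPointFree bz.toMonoidHom := by
    intro a ha
    obtain ⟨x, rfl⟩ := hmk a
    rw [hone]
    exact hfree x x.2 ((hmk_eq _ _).1 ((hφ _ x).symm.trans ha).symm)
  have hinv : ∀ a : Ab, bz a = a⁻¹ := fun a => congrFun (hfp.coe_eq_inv_of_involutive fun b => by
    show bz (bz b) = b
    exact mul_self_apply (hsq z hzP C.z2) b) a
  obtain ⟨x1, hx1, hx1N⟩ := SetLike.not_le_iff_exists.1 hAv
  obtain ⟨x2, hx2, hx2N⟩ := SetLike.not_le_iff_exists.1 hAvz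
  have hbz_v : ∀ a, bv (bz a) = φ ⟨v * z, P.mul_mem hvP hzP⟩ a := fun a => by
    rw [hbv, hbz, ← MulAut.mul_apply, ← map_mul]; rfl
  have hne : ∀ a : Ab, a ≠ 1 → a ≠ a⁻¹ := fun a ha e => ha (by
    have h2 : orderOf a ∣ 2 := orderOf_dvd_of_pow_eq_one (by rw [sq, mul_eq_one_iff_eq_inv]; exact e)
    have h3 : orderOf a ∣ p ^ 2 := hcardA ▸ orderOf_dvd_natCard a
    exact orderOf_eq_one_iff.1 (Nat.eq_one_of_dvd_coprimes
      (((Nat.coprime_primes Nat.prime_two B.prime).2 (Ne.symm B.ne_two)).pow_right 2) h2 h3))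
  have hcen : ∀ (g x : G), g * x = x * g → g * x * g⁻¹ = x := fun g x e => by
    rw [e, mul_inv_cancel_right]
  have hfix1 : bv (mk ⟨x1, hx1.1⟩) = mk ⟨x1, hx1.1⟩ := by
    rw [hbv, hφ, hmk_eq]
    show (v * x1 * v⁻¹)⁻¹ * x1 ∈ N0
    rw [hcen v x1 (mem_centralizer_singleton_iff.1 hx1.2).symm, inv_mul_cancel]
    exact N0.one_mem
  have hfix2 : bv (mk ⟨x2, hx2.1⟩)⁻¹ = mk ⟨x2, hx2.1⟩ := by
    rw [← hinv, hbz_v, hφ, hmk_eq]
    show (v * z * x2 * (v * z)⁻¹)⁻¹ * x2 ∈ N0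
    rw [hcen (v * z) x2 (mem_centralizer_singleton_iff.1 hx2.2).symm, inv_mul_cancel]
    exact N0.one_mem
  have hDbot : ((D.subgroupOf P).map φ) = ⊥ := by
    have hcardD : ¬ 2 ∣ Nat.card ((D.subgroupOf P).map φ) := fun h => not_dvd_of_le inf_le_left (oc_odd K)
      ((h.trans (card_map_dvd _ _)).trans (dvd_of_eq (Cores.card_subgroupOf hDP)))
    have hn : ∀ g (hg : g ∈ K ⊓ 𝐌), φ ⟨g, hKP hg⟩ ∈ normalizer (((D.subgroupOf P).map φ) : Set _) :=
      fun g hg => le_normalizer_map φ (mem_map_of_mem φ (Signalizer.mem_normalizer_of_conj_mem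
        fun x hx => mem_subgroupOf.2 ((mem_normalizer_iff.1 (hDn hg) (x : G)).1 (mem_subgroupOf.1 hx))))
    refine aut_odd_eq_bot B.small hcardA bv bs (hsq v hvP hv) ?_ ⟨mk ⟨x1, hx1.1⟩, ?_⟩ (hsq s _ hs2) ?_ _
      hcardD (hn v (hSK v hvS)) (hn s hsK)
    · intro e
      rw [e, MulAut.one_apply] at hfix2
      exact hne _ (fun h => hx2N ((hone _).1 h)) hfix2.symm
    · rw [hfix1]
      exact hne _ fun h => hx1N ((hone _).1 h)
    · intro a
      have e1 : (⟨s, hKP hsK⟩ : P) * ⟨v, hvP⟩ * ⟨s, hKP hsK⟩ = ⟨v, hvP⟩ * ⟨z, hzP⟩ :=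
        Subtype.ext (by
          show s * v * s = v * z
          rw [← hsv, Involution.inv_eq hs2])
      rw [← MulAut.mul_apply, ← MulAut.mul_apply, ← map_inv bv]
      rw [hbs, hbv, ← map_mul, ← map_mul, e1, map_mul, MulAut.mul_apply, ← hbz, hinv]
  have hDcomm : ∀ d ∈ D, ∀ a ∈ A1, a⁻¹ * (d * a * d⁻¹) ∈ N0 := by
    intro d hd a ha
    have h1 : φ ⟨d, hDP hd⟩ = 1 :=
      (mem_bot (G := MulAut Ab)).1 (hDbot ▸ mem_map_of_mem φ (show (⟨d, hDP hd⟩ : P) ∈ D.subgroupOf P from hd))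
    refine (hmk_eq ⟨a, ha⟩ ⟨d * a * d⁻¹, (mem_normalizer_iff.1 (hPA (hDP hd)) a).1 ha⟩).1 ?_
    rw [← hφ ⟨d, hDP hd⟩ ⟨a, ha⟩, h1, MulAut.one_apply]
  have hOnD : O ≤ normalizer (D : Set G) := by
    refine hOH.trans (sup_le (fun a ha => Signalizer.mem_normalizer_of_conj_mem fun d hd => ?_)
      le_normalizer)
    have h1 := hDcomm d hd a⁻¹ (A1.inv_mem ha)
    have h2 := D.mul_mem (hN0D h1) hd
    rwa [show a⁻¹⁻¹ * (d * a⁻¹ * d⁻¹) * d = a * d * a⁻¹ by group] at h2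
  refine ⟨hOnD, ?_⟩
  have hAn : A1 ≤ normalizer (D : Set G) := hAO.trans hOnD
  rw [le_antisymm hOH hHO, hH, relIndex_sup_normalized hAn, ← inf_relIndex_right,
    le_antisymm (le_inf ((inf_comm D A1).le.trans hAD) inf_le_right) (inf_le_inf_right _ hN0D),
    inf_relIndex_right, hcard]

/-- The `p'`-elements of `O(K)` lie in `W`. -/
theorem mem_W (hCK : 𝐂 ≤ K) {g : G} (hg : g ∈ oc K) (hp : ¬ p ∣ orderOf g) : g ∈ W := by
  obtain ⟨hn, hidx⟩ := L.D_normal C B hCK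
  haveI : ((oc K ⊓ 𝐌).subgroupOf (oc K)).Normal := Cores.subgroupOf_normal_of_le_normalizer hn
  obtain ⟨k, hk⟩ := hidx
  have h1 : g ^ p ^ 2 ∈ oc K ⊓ 𝐌 := by
    have := pow_index_mem ((oc K ⊓ 𝐌).subgroupOf (oc K)) (⟨g, hg⟩ : oc K)
    rw [hk, pow_mul]
    exact Subgroup.pow_mem _ this k
  obtain ⟨m, hm⟩ := exists_pow_eq_self_of_coprime
    (((B.prime.coprime_iff_not_dvd).2 hp).pow_left 2)
  rw [← hm]
  exact W.pow_mem (L.D_le_W C B h1) m

end LocSub

end Cfsg.Agent.CoreKilling.RankTwo
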