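import Cfsg.Agent.Lib.CoreKilling.GenCover
import Cfsg.Agent.Lib.TwoNilCent.Shape
import Cfsg.Agent.S0514

/-!
# The easy Sylow 2-subgroups of 2-rank two (owner: helper55, for helper44's S1290)

* `centralizer_le_of_dihedral`, `centralizer_le_of_psu_shape` : `C(x) ≤ N(W)` for the involutions
  `x` of `S`
-/

set_option autoImplicit false
set_option linter.unusedSectionVars false
set_option linter.style.haveILetI false

namespace Cfsg.Agent.CoreKilling.RankTwo

open Subgroup
open scoped Pointwise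

universe u

variable {G : Type u} [Group G] [Finite G] {S : Sylow 2 G} {W : Subgroup G}

theorem centralizer_le_of_dihedral (h : Setting S W) {n : ℕ} (hn : 2 ≤ n)
    (hS : Nonempty ((S : Subgroup G) ≃* DihedralGroup n)) :
    ∀ x ∈ S, orderOf x = 2 → centralizer ({x} : Set G) ≤ normalizer (W : Set G) := by
  haveI : Fact (Nat.Prime 2) := ⟨Nat.prime_two⟩
  intro x hx hx2
  -- a four-subgroup of `S` through `x`
  obtain ⟨y, hy, hy2, hyx, hc⟩ : ∃ y ∈ S, orderOf y = 2 ∧ y ≠ x ∧ Commute x y := by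
    haveI : Nontrivial (S : Subgroup G) :=
      (nontrivial_iff_ne_bot _).2 fun e => by
        have h1 : x = 1 := (mem_bot (G := G)).1 (e ▸ hx)
        rw [h1, orderOf_one] at hx2; omega
    haveI := S.isPGroup'.center_nontrivial
    obtain ⟨k, hk⟩ := (S.isPGroup'.to_subgroup (center (S : Subgroup G))).exists_card_eq
    obtain ⟨⟨⟨w, hwS⟩, hwc⟩, hw⟩ := exists_prime_orderOf_dvd_card'
      (G := center (S : Subgroup G)) 2 (by
        rw [hk]
        refine dvd_pow_self 2 ?_
        rintro rfl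
        have h1 := Finite.one_lt_card (α := center (S : Subgroup G))
        rw [hk, pow_zero] at h1
        omega)
    rw [Subgroup.orderOf_mk, Subgroup.orderOf_mk] at hw
    have hwc' : ∀ q ∈ S, q * w = w * q := fun q hq =>
      congrArg Subtype.val (mem_center_iff.1 hwc ⟨q, hq⟩)
    by_cases hwx : w = x
    swap
    · exact ⟨w, hwS, hw, hwx, hwc' x hx⟩
    subst hwx
    obtain ⟨e⟩ := hS
    haveI : Fact (1 < n) := ⟨hn⟩
    have hsr : ∀ i : ZMod n, orderOf ((e.symm (DihedralGroup.sr i) : (S : Subgroup G)) : G) = 2 :=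
      fun i => by rw [orderOf_coe, MulEquiv.orderOf_eq, DihedralGroup.orderOf_sr]
    by_cases h0 : ((e.symm (DihedralGroup.sr 0) : (S : Subgroup G)) : G) = w
    · refine ⟨_, (e.symm (DihedralGroup.sr 1)).2, hsr 1, fun e1 => ?_,
        (hwc' _ (e.symm (DihedralGroup.sr 1)).2).symm⟩
      exact zero_ne_one (α := ZMod n)
        (DihedralGroup.sr.inj (e.symm.injective (Subtype.ext (h0.trans e1.symm))))
    · exact ⟨_, (e.symm (DihedralGroup.sr 0)).2, hsr 0, h0,
        (hwc' _ (e.symm (DihedralGroup.sr 0)).2).symm⟩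
  have hE := TwoCore.isFour_pair hx2 hy2 hyx hc
  set E := zpowers x ⊔ zpowers y
  have hES : E ≤ (S : Subgroup G) := sup_le (zpowers_le.2 hx) (zpowers_le.2 hy)
  set C := centralizer ({x} : Set G) with hC
  have hEC : E ≤ C := sup_le (zpowers_le.2 (mem_centralizer_singleton_iff.2 rfl))
    (zpowers_le.2 (mem_centralizer_singleton_iff.2 hc.symm.eq))
  obtain ⟨T, hT⟩ := (hE.isPGroup.comap_subtype : IsPGroup 2 (E.subgroupOf C)).exists_le_sylow
  have hTM : (T : Subgroup C).map C.subtype ≤ normalizer (W : Set G) :=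
    h.sylow_le hE hES (T.isPGroup'.map _) fun e he =>
      ⟨⟨e, hEC he⟩, hT (show (⟨e, hEC he⟩ : C) ∈ E.subgroupOf C from he), rfl⟩
  obtain ⟨N, hN, hNodd, k, hk⟩ := S0514.result S n hn hS x hx2
  have hNM : N.map C.subtype ≤ normalizer (W : Set G) :=
    ((map_mono (Cores.le_pPrimeCore hN (Nat.coprime_two_right.2 hNodd))).trans
      (h.core_le hx hx2)).trans le_normalizer
  have htop : N ⊔ (T : Subgroup C) = ⊤ := by
    have h1 := index_dvd_of_le (le_sup_left : N ≤ N ⊔ (T : Subgroup C))
    rw [hk] at h1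
    obtain ⟨j, -, hj⟩ := (Nat.dvd_prime_pow Nat.prime_two).1 h1
    have h2 : ¬ 2 ∣ (N ⊔ (T : Subgroup C)).index := fun hd =>
      T.not_dvd_index (dvd_trans hd (index_dvd_of_le le_sup_right))
    rcases j with _ | j
    · exact index_eq_one.1 (by rw [hj, pow_zero])
    · exact absurd (hj ▸ dvd_pow_self 2 j.succ_ne_zero) h2
  calc C = (⊤ : Subgroup C).map C.subtype := by rw [← MonoidHom.range_eq_map, range_subtype]
    _ ≤ normalizer (W : Set G) := by rw [← htop, Subgroup.map_sup]; exact sup_le hNM hTM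

theorem centralizer_le_of_psu_shape (h : Setting S W)
    (hS : Cfsg.Agent.TwoNilCent.Shape (S : Subgroup G)) :
    ∀ x ∈ S, orderOf x = 2 → centralizer ({x} : Set G) ≤ normalizer (W : Set G) := by
  haveI : Fact (Nat.Prime 2) := ⟨Nat.prime_two⟩
  intro x hx hx2
  have hinv : ∀ a ∈ S, a * a = 1 → ∀ s ∈ S, Commute s a := fun a ha ha1 s hs =>
    congrArg Subtype.val (mem_center_iff.1 ((hS.inv_iff ⟨a, ha⟩).1 (Subtype.ext ha1)) ⟨s, hs⟩)
  have hxc := hinv x hx (Involution.mul_self hx2)
  set C := centralizer ({x} : Set G) with hC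
  have hSC : (S : Subgroup G) ≤ C := fun s hs => mem_centralizer_singleton_iff.2 (hxc s hs)
  -- the other central involution
  obtain ⟨y, hy, hy2, hyx⟩ : ∃ y ∈ S, orderOf y = 2 ∧ y ≠ x := by
    obtain ⟨⟨⟨y, hyS⟩, hyc⟩, hy⟩ : ∃ c : center (S : Subgroup G),
        ((c : (S : Subgroup G)) : G) ≠ 1 ∧ ((c : (S : Subgroup G)) : G) ≠ x := by
      by_contra hcon
      push Not at hcon
      have hle : Nat.card (center (S : Subgroup G)) ≤ Nat.card ({1, x} : Set G) := by
        refine Nat.card_le_card_of_injective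
          (fun c => ⟨((c : (S : Subgroup G)) : G), ?_⟩) fun a b hab =>
            Subtype.ext (Subtype.ext (Subtype.ext_iff.1 hab :))
        by_cases hc1 : ((c : (S : Subgroup G)) : G) = 1
        · exact Or.inl hc1
        · exact Or.inr (hcon c hc1)
      rw [hS.center_card, Nat.card_coe_set_eq] at hle
      have := Set.ncard_insert_le (1 : G) {x}
      rw [Set.ncard_singleton] at this
      omega
    refine ⟨y, hyS, orderOf_eq_prime ?_ hy.1, hy.2⟩
    rw [sq]
    exact congrArg Subtype.val ((hS.inv_iff ⟨y, hyS⟩).2 hyc)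
  have hyc := hinv y hy (Involution.mul_self hy2)
  set E := zpowers x ⊔ zpowers y with hEdef
  have hE : IsFour E := TwoCore.isFour_pair hx2 hy2 hyx (hxc y hy).symm
  have hES : E ≤ (S : Subgroup G) := sup_le (zpowers_le.2 hx) (zpowers_le.2 hy)
  -- `y` is isolated in `C`
  set P : Sylow 2 C := S.subtype hSC with hPdef
  set y' : C := ⟨y, hSC hy⟩ with hy'
  have hy'P : y' ∈ P := hy
  have hy'2 : orderOf y' = 2 := by rw [← orderOf_coe]; exact hy2
  have hinvC : ∀ a : C, a ∈ P → a * a = 1 → a ∈ centralizer ((P : Subgroup C) : Set C) :=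
    fun a ha ha1 => mem_centralizer_iff.2 fun s hs =>
      Subtype.ext (hinv a ha (congrArg Subtype.val ha1) s hs).eq
  have hiso : ∀ g : C, g * y' * g⁻¹ ∈ P → g * y' * g⁻¹ = y' := by
    intro g hg
    have hmul : g * y' * g⁻¹ * (g * y' * g⁻¹) = 1 :=
      Involution.mul_self (by rw [Involution.orderOf_conj]; exact hy'2)
    obtain ⟨m, hm, hme⟩ := Sylow.conj_eq_normalizer_conj_of_mem_centralizer P y' g⁻¹
      (hinvC _ hy'P (Involution.mul_self hy'2)) (by rw [inv_inv]; exact hinvC _ hg hmul)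
    rw [inv_inv] at hme
    rw [hme]
    -- `m⁻¹` permutes the central involutions other than `x`
    have hswap : m⁻¹ * y' * m = y' ∨ m⁻¹ * (m⁻¹ * y' * m) * m = y' := by
      rw [← hme]
      by_cases h1 : g * y' * g⁻¹ = y'
      · exact Or.inl h1
      have hcard : ∀ a : (S : Subgroup G), a ∈ center (S : Subgroup G) →
          (a : G) = 1 ∨ (a : G) = x ∨ (a : G) = y ∨ (a : G) = x * y := by
        have hxy1 : x * y ≠ 1 := fun e1 => hyx (by
          rw [mul_eq_one_iff_inv_eq, Involution.inv_eq hx2] at e1; exact e1.symm)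
        have hx1 : x ≠ 1 := fun e1 => by rw [e1, orderOf_one] at hx2; omega
        have hy1 : y ≠ 1 := fun e1 => by rw [e1, orderOf_one] at hy2; omega
        have hset : ({1, x, y, x * y} : Set G) =
            (((center (S : Subgroup G)).map (S : Subgroup G).subtype : Subgroup G) : Set G) := by
          refine Set.eq_of_subset_of_ncard_le (fun a ha => ?_) ?_ (Set.toFinite _)
          · have hX : (⟨x, hx⟩ : (S : Subgroup G)) ∈ center (S : Subgroup G) :=
              (hS.inv_iff _).1 (Subtype.ext (Involution.mul_self hx2))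
            have hY : (⟨y, hy⟩ : (S : Subgroup G)) ∈ center (S : Subgroup G) :=
              (hS.inv_iff _).1 (Subtype.ext (Involution.mul_self hy2))
            rcases ha with rfl | rfl | rfl | rfl
            · exact one_mem _
            · exact ⟨_, hX, rfl⟩
            · exact ⟨_, hY, rfl⟩
            · exact ⟨_, mul_mem hX hY, rfl⟩
          · have hcc : (((center (S : Subgroup G)).map (S : Subgroup G).subtype : Subgroup G) :
                Set G).ncard = 4 := by
              rw [← Nat.card_coe_set_eq]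
              exact (Cores.card_map_subtype _ _).trans hS.center_card
            rw [hcc, Set.ncard_insert_of_notMem (by
                simp [hx1.symm, hy1.symm, hxy1.symm]) (Set.toFinite _),
              Set.ncard_insert_of_notMem (by simp [hyx.symm, hy1]) (Set.toFinite _),
              Set.ncard_pair (fun e1 => hx1 (by
                have := congrArg (· * y⁻¹) e1
                simpa using this.symm))]
        intro a ha
        have h2 : (a : G) ∈ ({1, x, y, x * y} : Set G) := hset ▸ ⟨a, ha, rfl⟩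
        simpa using h2
      refine Or.inr ?_
      have hgP : ((g * y' * g⁻¹ : C) : G) ∈ S := hg
      rcases hcard ⟨_, hgP⟩ ((hS.inv_iff _).1 (Subtype.ext (congrArg (fun q : C => (q : G)) hmul :))) with
        e1 | e1 | e1 | e1
      · exfalso
        have := orderOf_coe (g * y' * g⁻¹)
        rw [Involution.orderOf_conj, hy'2, show ((g * y' * g⁻¹ : C) : G) = 1 from e1,
          orderOf_one] at this
        omega
      · exfalso
        refine hyx ?_
        have hgx : Commute (g : G) x := mem_centralizer_singleton_iff.1 g.2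
        calc y = (g : G)⁻¹ * ((g * y' * g⁻¹ : C) : G) * g := by simp [hy', mul_assoc]
          _ = (g : G)⁻¹ * (x * g) := by rw [show ((g * y' * g⁻¹ : C) : G) = x from e1, mul_assoc]
          _ = x := by rw [← hgx.eq, inv_mul_cancel_left]
      · exact absurd (Subtype.ext e1) h1
      · refine Subtype.ext ?_
        have hmx : Commute (m : G) x := mem_centralizer_singleton_iff.1 m.2
        have e1' : ((g * y' * g⁻¹ : C) : G) = x * y := e1
        have he : (m : G)⁻¹ * y * m = x * y :=
          (congrArg (fun q : C => (q : G)) hme).symm.trans e1'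

        show (m : G)⁻¹ * ((g * y' * g⁻¹ : C) : G) * m = y
        calc (m : G)⁻¹ * ((g * y' * g⁻¹ : C) : G) * m = ((m : G)⁻¹ * x) * (y * m) := by
              rw [show ((g * y' * g⁻¹ : C) : G) = x * y from e1]; group
          _ = x * ((m : G)⁻¹ * y * m) := by rw [hmx.inv_left.eq]; group
          _ = y := by rw [he, ← mul_assoc, Involution.mul_self hx2, one_mul]
    rcases hswap with h1 | h2
    · exact h1
    -- the odd part of `m` does the same, and a `2`-element of `N(P)` centralises `y'`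
    have h2m : (m ^ 2)⁻¹ * y' * m ^ 2 = y' := by
      rw [sq, mul_inv_rev]; simpa [mul_assoc] using h2
    obtain ⟨a, b, hb, hab⟩ := Nat.exists_eq_two_pow_mul_odd (orderOf_pos m).ne'
    have hmP : m ^ b ∈ (P : Subgroup C) := by
      have hzP : IsPGroup 2 (zpowers (m ^ b)) := IsPGroup.of_card (n := a) (by
        rw [Nat.card_zpowers, orderOf_pow' _ (by rintro rfl; simp at hb), hab,
          Nat.gcd_mul_left_left, Nat.mul_div_cancel _ hb.pos])
      have hPz : IsPGroup 2 ((P : Subgroup C) ⊔ zpowers (m ^ b) : Subgroup C) :=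
        P.isPGroup'.to_sup_of_normal_left' hzP (zpowers_le.2 (pow_mem hm b))
      exact (P.is_maximal' hPz le_sup_left).le (mem_sup_right (mem_zpowers _))
    have hfix : (m ^ b)⁻¹ * y' * m ^ b = y' := by
      rw [mul_assoc, ← (mem_centralizer_iff.1 (hinvC _ hy'P (Involution.mul_self hy'2)) _ hmP)]
      group
    obtain ⟨c, rfl⟩ := hb
    have hpow : ∀ j : ℕ, (m ^ (2 * j))⁻¹ * y' * m ^ (2 * j) = y' := by
      intro j
      induction j with
      | zero => simp
      | succ j ih =>
        rw [show 2 * (j + 1) = 2 * j + 2 by ring, pow_add, mul_inv_rev]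
        calc _ = (m ^ 2)⁻¹ * ((m ^ (2 * j))⁻¹ * y' * m ^ (2 * j)) * m ^ 2 := by group
          _ = y' := by rw [ih, h2m]
    calc m⁻¹ * y' * m = m⁻¹ * ((m ^ (2 * c))⁻¹ * y' * m ^ (2 * c)) * m := by rw [hpow]
      _ = (m ^ (2 * c + 1))⁻¹ * y' * m ^ (2 * c + 1) := by rw [pow_succ]; group
      _ = y' := hfix
  have hy'iso := ZStar.isolated_of_sylow P hy'2 hy'P hiso
  intro c hc
  set o : C := (⟨c, hc⟩ : C) * y' * (⟨c, hc⟩ : C)⁻¹ * y' with ho
  have hoO : o ∈ Cfsg.pPrimeCore 2 C := by
    have h1 := ZStar.zStar_of_brauerSuzuki ZStar.uniqueInvolution hy'iso (⟨c, hc⟩ : C)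
    have h2 := inv_mem h1
    rwa [show (y' * (⟨c, hc⟩ : C) * y'⁻¹ * (⟨c, hc⟩ : C)⁻¹)⁻¹ = o by
      rw [ho, mul_inv_rev, mul_inv_rev, mul_inv_rev, inv_inv, inv_inv, Involution.inv_eq hy'2]
      group] at h2
  have hyy : y' * y' = 1 := Involution.mul_self hy'2
  have hoi : y' * o * y'⁻¹ = o⁻¹ := by
    rw [ho, mul_inv_rev, mul_inv_rev, mul_inv_rev, inv_inv, Involution.inv_eq hy'2]
    simp only [mul_assoc, hyy, mul_one]
  obtain ⟨j, hj⟩ : Odd (orderOf o) := by
    refine Nat.odd_iff.2 (Nat.two_dvd_ne_zero.1 fun hd => ?_)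
    refine Signalizer.not_dvd_card_core (p := 2) x (hd.trans ?_)
    rw [← orderOf_coe]
    exact Subgroup.orderOf_dvd_natCard _ (mem_map_of_mem C.subtype hoO)
  set d : C := o ^ (j + 1) with hd
  have hdM : (d : G) ∈ normalizer (W : Set G) :=
    le_normalizer (h.core_le hx hx2 ⟨d, pow_mem hoO _, rfl⟩)
  have hde : d * y' * d⁻¹ = (⟨c, hc⟩ : C) * y' * (⟨c, hc⟩ : C)⁻¹ := by
    have h1 : y' * d⁻¹ * y'⁻¹ = d := by
      rw [hd, ← inv_pow, ← conj_pow, show y' * o⁻¹ * y'⁻¹ = o by
        rw [← inv_inj, mul_inv_rev, mul_inv_rev, inv_inv, inv_inv, ← mul_assoc, hoi]]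
    calc d * y' * d⁻¹ = d * (y' * d⁻¹ * y'⁻¹) * y' := by group
      _ = o ^ (orderOf o + 1) * y' := by rw [h1, hd, ← pow_add]; congr 2; omega
      _ = _ := by
        rw [pow_succ, pow_orderOf_eq_one, one_mul, ho]
        simp only [mul_assoc, hyy, mul_one]
  have hq : (d : G)⁻¹ * c ∈ normalizer (W : Set G) := by
    refine h.mem_normalizer hE hES ?_
    refine (map_le_iff_le_comap).2 (sup_le (zpowers_le.2 ?_) (zpowers_le.2 ?_))
    · show (d : G)⁻¹ * c * x * ((d : G)⁻¹ * c)⁻¹ ∈ (S : Subgroup G)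
      have hcd : Commute ((d : G)⁻¹ * c) x :=
        mem_centralizer_singleton_iff.1 (mul_mem (inv_mem d.2) hc : (d : G)⁻¹ * c ∈ C)
      rwa [hcd.eq, mul_inv_cancel_right]
    · show (d : G)⁻¹ * c * y * ((d : G)⁻¹ * c)⁻¹ ∈ (S : Subgroup G)
      have e1 : (d : G) * y * (d : G)⁻¹ = c * y * c⁻¹ := congrArg Subtype.val hde
      rwa [show (d : G)⁻¹ * c * y * ((d : G)⁻¹ * c)⁻¹ = (d : G)⁻¹ * (c * y * c⁻¹) * d by group,
        ← e1, show (d : G)⁻¹ * ((d : G) * y * (d : G)⁻¹) * d = y by group]
  have := mul_mem hdM hq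
  rwa [mul_inv_cancel_left] at this

end Cfsg.Agent.CoreKilling.RankTwo
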