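import Cfsg.Agent.Lib.CoreKilling.RankTwo.DNormal
import Cfsg.Agent.Lib.CoreKilling.RankTwo.BenderLocal

/-!
# Core killing in 2-rank two: comparison of `W` with its `C(z)`-part (owner: helper44)

* `Ctx.crit1` : no local subgroup of `C(z)` contains `W`
* `Ctx.mem_yc` : the `p'`-elements of `W` in such a local subgroup lie in `yc`
* `Ctx.exists_local` : `O_r(W) = 1` for `r ≠ p` and a local subgroup meets `W` in more `p`-part than `yc`
-/

set_option autoImplicit false
set_option linter.unusedSectionVars false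
set_option linter.style.haveILetI false

namespace Cfsg.Agent.CoreKilling.RankTwo

open Subgroup
open scoped Pointwise

universe u

variable {G : Type u} [Group G] [Finite G]

/-- A prime-power element. -/
theorem not_dvd_orderOf_of_pow {p r : ℕ} (hp : p.Prime) (hr : r.Prime) (hrp : r ≠ p) {g : G}
    (h : ∃ n, g ^ r ^ n = 1) : ¬ p ∣ orderOf g := fun hd => by
  obtain ⟨n, hn⟩ := h
  exact hrp ((Nat.prime_dvd_prime_iff_eq hp hr).1
    (hp.dvd_of_dvd_pow (hd.trans (orderOf_dvd_of_pow_eq_one hn)))).symm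

theorem pow_eq_one_of_isPGroup {r : ℕ} {P : Subgroup G} (hP : IsPGroup r P) {g : G} (hg : g ∈ P) :
    ∃ n, g ^ r ^ n = 1 := by
  obtain ⟨n, hn⟩ := hP ⟨g, hg⟩
  exact ⟨n, congrArg Subtype.val hn⟩

/-- The largest prime power in the order, by the elements outside a subgroup. -/
theorem factorization_lt_of_prime_to {p : ℕ} (hp : p.Prime) {Y D : Subgroup G} (hYD : Y ≤ D)
    (hne : ¬ D ≤ Y) (hel : ∀ g ∈ D, ¬ p ∣ orderOf g → g ∈ Y) :
    (Nat.card Y).factorization p < (Nat.card D).factorization p := by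
  by_contra hcon
  push Not at hcon
  refine hne ?_
  have hdvd : Nat.card D ∣ Nat.card Y := by
    refine (Nat.factorization_le_iff_dvd Nat.card_pos.ne' Nat.card_pos.ne').1 fun r => ?_
    by_cases hr : r.Prime
    swap
    · simp [Nat.factorization_eq_zero_of_not_prime _ hr]
    by_cases hrp : r = p
    · subst hrp; exact hcon
    haveI : Fact r.Prime := ⟨hr⟩
    obtain ⟨P⟩ : Nonempty (Sylow r D) := inferInstance
    have hle : (P : Subgroup D).map D.subtype ≤ Y := fun x hx =>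
      hel x (map_subtype_le _ hx) (not_dvd_orderOf_of_pow hp hr hrp
        (pow_eq_one_of_isPGroup (P.isPGroup'.map D.subtype) hx))
    have h1 := card_dvd_of_le hle
    rw [Cores.card_map_subtype, P.card_eq_multiplicity] at h1
    exact (hr.pow_dvd_iff_le_factorization Nat.card_pos.ne').1 h1
  rw [eq_of_le_of_card_ge hYD (Nat.le_of_dvd Nat.card_pos hdvd)]

theorem eq_bot_of_forall_pc {L : Subgroup G} [Group.IsSolvable L]
    (h : ∀ r : ℕ, r.Prime → pc r L = ⊥) : L = ⊥ := by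
  refine eq_bot_iff.2 fun x hx => ?_
  have hm := mem_fittingSubgroup_of_commute hx fun r hr a ha => by
    rw [h r hr, mem_bot] at ha
    rw [ha]
    exact Commute.one_right x
  have hF : Cfsg.fittingSubgroup L = ⊥ := by
    rw [Cores.fittingSubgroup_eq_iSup_pCore]
    refine eq_bot_iff.2 (iSup_le fun r => ?_)
    have := h r r.2
    rw [pc, map_eq_bot_iff_of_injective _ L.subtype_injective] at this
    exact this.le
  rw [hF, mem_bot] at hm
  rw [mem_bot]
  exact congrArg Subtype.val hm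

variable {S : Sylow 2 G} {W : Subgroup G} {z : G}

local notation "𝐌" => normalizer (W : Set G)
local notation "𝐂" => centralizer (Singleton.singleton z : Set G)
local notation "𝐑" => Cfsg.centralizerPPrimeCore 2 z

namespace Ctx

variable (C : Ctx S W z) {p : ℕ} (B : Bad S W z p)
include C B

/-- No local subgroup of `C(z)` contains `W`. -/
theorem crit1 {U : Subgroup G} (hU : U ≠ ⊥) (hodd : ¬ 2 ∣ Nat.card U)
    (hCU : 𝐂 ≤ normalizer (U : Set G)) (hWU : W ≤ normalizer (U : Set G)) : False := by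
  set K := normalizer (U : Set G)
  have L : LocSub S W z K := C.locSub B hU hodd hCU
  have h1 : oc K ⊓ 𝐌 = W := by rw [← L.inter_eq C B, inf_eq_left.2 hWU]
  have h2 : oc K ≤ 𝐌 := by
    have := (L.D_normal C B hCU).1
    rwa [h1] at this
  rw [inf_eq_left.2 h2] at h1
  exact C.bad (hCU.trans (h1 ▸ le_normalizer_oc K))

/-- The `p'`-elements of `W` in such a local subgroup. -/
theorem mem_yc {U : Subgroup G} (hU : U ≠ ⊥) (hodd : ¬ 2 ∣ Nat.card U)
    (hCU : 𝐂 ≤ normalizer (U : Set G)) {g : G} (hg : g ∈ W ⊓ normalizer (U : Set G))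
    (hp : ¬ p ∣ orderOf g) : g ∈ yc W z := by
  set K := normalizer (U : Set G)
  have L : LocSub S W z K := C.locSub B hU hodd hCU
  have hgO : g ∈ oc K := ((L.inter_eq C B).le hg).1
  set X := Subgroup.closure {y : G | ∃ c ∈ 𝐂, c * g * c⁻¹ = y}
  have hXW : X ≤ W := (closure_le _).2 fun y ⟨c, hc, hy⟩ => by
    subst hy
    refine L.mem_W C B hCU ((mem_normalizer_iff.1 (le_normalizer_oc K (hCU hc)) g).1 hgO) ?_
    rwa [show c * g * c⁻¹ = (MulAut.conj c) g from rfl, MulEquiv.orderOf_eq]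
  have hn : 𝐂 ≤ normalizer (X : Set G) := fun a ha =>
    Signalizer.mem_normalizer_of_conj_mem fun x hx => by
      have hle : X ≤ X.comap (MulAut.conj a).toMonoidHom := (closure_le _).2 fun y ⟨c, hc, hy⟩ => by
        subst hy
        exact subset_closure ⟨a * c, (𝐂).mul_mem ha hc, by
          show a * c * g * (a * c)⁻¹ = a * (c * g * c⁻¹) * a⁻¹
          group⟩
      exact hle hx
  exact le_yc hXW hn (subset_closure ⟨1, one_mem _, by group⟩)

omit B in
/-- `O_r(W) = 1` when `O_r(Y) = 1`. -/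
theorem pc_eq_bot {r : ℕ} (hb : pc r (yc W z) = ⊥) : pc r W = ⊥ := by
  set P := pc r W
  have hMP : 𝐌 ≤ normalizer (P : Set G) := normalizer_le_normalizer_pc r W
  have hPC : P ⊓ 𝐂 ≤ ⊥ := by
    have h1 : P ⊓ 𝐂 ≤ yc W z :=
      ((inf_le_inf_right _ (pc_le r W)).trans C.W_inf_C.le).trans C.R_le_yc
    have h2 : P ⊓ yc W z ≤ pc r (yc W z) := le_pc ((isPGroup_pc r W).to_le inf_le_left) inf_le_right
      (Signalizer.le_normalizer_inf ((yc_le W z).trans (le_normalizer_pc r W)) le_normalizer)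
    exact hb ▸ (le_inf inf_le_left h1).trans h2
  have hPv : ∀ u : G, u ∈ S → orderOf u = 2 → u ≠ z → P ⊓ centralizer ({u} : Set G) ≤ ⊥ := by
    intro u huS hu huz x hx
    obtain ⟨m, hm, hmu, -⟩ := C.move_v huS hu huz
    have h1 : m⁻¹ * x * m ∈ P ⊓ 𝐂 := by
      refine ⟨(mem_normalizer_iff''.1 (hMP hm) x).1 hx.1, mem_centralizer_singleton_iff.2 ?_⟩
      calc m⁻¹ * x * m * z = m⁻¹ * (x * (m * z * m⁻¹)) * m := by group
        _ = m⁻¹ * ((m * z * m⁻¹) * x) * m := by rw [hmu, mem_centralizer_singleton_iff.1 hx.2]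
        _ = _ := by group
    have h2 := hPC h1
    rw [mem_bot] at h2 ⊢
    calc x = m * (m⁻¹ * x * m) * m⁻¹ := by group
      _ = 1 := by rw [h2, mul_one, mul_inv_cancel]
  obtain ⟨w, hw, hwz⟩ := C.facts.ex
  have hw2 : orderOf (w : G) = 2 := by rw [Subgroup.orderOf_coe]; exact hw
  have hwz' : (w : G) ≠ z := fun e => hwz (Subtype.ext e)
  obtain ⟨h1, h2, h3⟩ := C.v_mul w.2 hw2 hwz'
  exact eq_bot_iff.2 (gen4 C.z2 hw2 hwz' (C.zc w w.2).symm
    (not_dvd_of_le (pc_le r W) C.set.odd) (hMP (C.set.norm C.hzS)) (hMP (C.set.norm w.2)) hPC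
    (hPv w w.2 hw2 hwz') (hPv _ h1 h2 h3))

theorem pc_le_yc_of_ne {r : ℕ} (hr : r.Prime) (hrp : r ≠ p) : pc r W ≤ pc r (yc W z) := by
  haveI : Fact r.Prime := ⟨hr⟩
  by_cases hb : pc r (yc W z) = ⊥
  · rw [C.pc_eq_bot hb, hb]
  refine pc_le_pc_of_elements (yc_le W z) fun g hg hgn => ?_
  exact C.mem_yc B hb (not_dvd_of_le ((pc_le r _).trans (yc_le W z)) C.set.odd)
    ((le_normalizer_yc W z).trans (normalizer_le_normalizer_pc r _)) ⟨pc_le r W hg, hgn⟩
    (not_dvd_orderOf_of_pow B.prime hr hrp (pow_eq_one_of_isPGroup (isPGroup_pc r W) hg))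

/-- Only `p` divides the Fitting subgroup of `W`. -/
theorem pc_bot {r : ℕ} (hr : r.Prime) (hrp : r ≠ p) : pc r W = ⊥ := by
  haveI : Fact r.Prime := ⟨hr⟩
  haveI : Fact p.Prime := ⟨B.prime⟩
  haveI : Fact (Nat.Prime 2) := ⟨Nat.prime_two⟩
  by_contra hne
  set Y := yc W z
  have hYW : Y ≤ W := yc_le W z
  have hrY : pc r W ≤ pc r Y := C.pc_le_yc_of_ne B hr hrp
  have hodd : ∀ {X : Subgroup G}, X ≤ Y → ¬ 2 ∣ Nat.card X := fun h =>
    not_dvd_of_le (h.trans hYW) C.set.odd
  have hF : ∀ q : ℕ, q.Prime → pc q W ≤ pc q Y := by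
    intro q hq
    by_cases hqp : q = p
    swap
    · exact C.pc_le_yc_of_ne B hq hqp
    subst hqp
    by_cases hb : pc q Y = ⊥
    · rw [C.pc_eq_bot hb, hb]
    refine pc_le_pc_of_elements hYW fun g hg hgn => ?_
    set K := normalizer (pc q Y : Set G) with hK
    have hCK : 𝐂 ≤ K := (le_normalizer_yc W z).trans (normalizer_le_normalizer_pc q _)
    have L : LocSub S W z K := C.locSub B hb (hodd (pc_le q Y)) hCK
    set D := oc K ⊓ 𝐌 with hD
    have hDW : D ≤ W := L.D_le_W C B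
    have hWKD : W ⊓ K ≤ D := (L.inter_eq C B).le
    obtain ⟨hOD, -⟩ := L.D_normal C B hCK
    have hup : ∀ s : ℕ, pc s W ⊓ D ≤ pc s (oc K) := fun s =>
      (le_pc (p := s) ((isPGroup_pc s W).to_le inf_le_left) inf_le_right
        (Signalizer.le_normalizer_inf (hDW.trans (le_normalizer_pc s W)) le_normalizer)).trans
      (le_pc (isPGroup_pc s D) ((pc_le s D).trans inf_le_left)
        (hOD.trans (normalizer_le_normalizer_pc s D)))
    have hrD : pc r W ≤ pc r (oc K) :=
      (le_inf le_rfl (le_trans (le_inf (pc_le r W)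
        ((hrY.trans (pc_le r Y)).trans (le_normalizer_pc q Y))) hWKD)).trans (hup r)
    set X := pc q (oc K) with hX
    have hXn : K ≤ normalizer (X : Set G) :=
      (le_normalizer_oc K).trans (normalizer_le_normalizer_pc q _)
    have hXO : X ≤ oc K := pc_le q _
    have hXc : X ≤ normalizer (pc r W : Set G) := by
      refine le_trans (fun x hx => ?_) (centralizer_le_normalizer _)
      exact mem_centralizer_iff.2 fun a ha => (commute_pc (Ne.symm hrp) hx (hrD ha)).symm.eq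
    have hcrit : ∀ u : G, u ∈ S → orderOf u = 2 → u ≠ z → X ⊓ centralizer ({u} : Set G) ≤ 𝐌 :=
      fun u huS hu huz => le_trans (le_inf inf_le_right (inf_le_left.trans hXc))
        (C.crit2 B hne (pc_le r W) (normalizer_le_normalizer_pc r W) huS hu huz)
    obtain ⟨w, hw, hwz⟩ := C.facts.ex
    have hw2 : orderOf (w : G) = 2 := by rw [Subgroup.orderOf_coe]; exact hw
    have hwz' : (w : G) ≠ z := fun e => hwz (Subtype.ext e)
    obtain ⟨h1, h2, h3⟩ := C.v_mul w.2 hw2 hwz'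
    have hXodd : ¬ 2 ∣ Nat.card X := not_dvd_of_le hXO (oc_odd K)
    have hXM : X ≤ 𝐌 := gen4 C.z2 hw2 hwz' (C.zc w w.2).symm hXodd (hXn (L.le C.hzS))
      (hXn (L.le w.2)) (((inf_le_inf_right _ hXO).trans (L.core_z C B)).trans C.R_le_M)
      (hcrit w w.2 hw2 hwz') (hcrit _ h1 h2 h3)
    exact C.le_yc_of_le_M B hXodd hXM (hCK.trans hXn)
      (hup q ⟨hg, hWKD ⟨pc_le q W hg, hgn⟩⟩)
  obtain ⟨U, hU, hUY, hCU, hWU⟩ := exists_local_prime
    (Nat.odd_iff.2 (Nat.two_dvd_ne_zero.1 C.set.odd)) hYW (le_normalizer_yc W z) hF (q := r)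
    (fun e => hne (eq_bot_iff.2 (e ▸ hrY))) fun U hU hUY _ hCU g hg hgU hgq =>
      C.mem_yc B hU (hodd hUY) hCU ⟨hg, hgU⟩ (not_dvd_orderOf_of_pow B.prime hr hrp hgq)
  exact C.crit1 B hU (hodd hUY) hCU hWU

/-- A local subgroup with more of `W` than `yc`. -/
theorem exists_local : ∃ U : Subgroup G, U ≠ ⊥ ∧ ¬ 2 ∣ Nat.card U ∧
    𝐂 ≤ normalizer (U : Set G) ∧ ¬ (W ⊓ normalizer (U : Set G) ≤ yc W z) ∧
    (Nat.card (yc W z)).factorization p <
      (Nat.card (W ⊓ normalizer (U : Set G) : Subgroup G)).factorization p := by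
  haveI : Fact p.Prime := ⟨B.prime⟩
  set Y := yc W z
  have hYW : Y ≤ W := yc_le W z
  have hWodd : Odd (Nat.card W) := Nat.odd_iff.2 (Nat.two_dvd_ne_zero.1 C.set.odd)
  haveI : Group.IsSolvable W := OddOrderTheorem.solvable hWodd
  by_contra hcon
  have hkey : ∀ U : Subgroup G, U ≠ ⊥ → U ≤ Y → Y ≤ normalizer (U : Set G) →
      𝐂 ≤ normalizer (U : Set G) → W ⊓ normalizer (U : Set G) ≤ Y := by
    intro U hU hUY hYU hCU
    have hodd : ¬ 2 ∣ Nat.card U := not_dvd_of_le (hUY.trans hYW) C.set.odd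
    by_contra hne
    exact hcon ⟨U, hU, hodd, hCU, hne, factorization_lt_of_prime_to B.prime (le_inf hYW hYU) hne
      fun g hg hgp => C.mem_yc B hU hodd hCU hg hgp⟩
  have hF : ∀ q : ℕ, q.Prime → pc q W ≤ pc q Y := by
    intro q hq
    by_cases hqp : q = p
    swap
    · rw [C.pc_bot B hq hqp]; exact bot_le
    subst hqp
    have hb : pc q Y ≠ ⊥ := fun e => C.ne (eq_bot_of_forall_pc fun s hs => by
      by_cases hsq : s = q
      · rw [hsq]; exact C.pc_eq_bot e
      · exact C.pc_bot B hs hsq)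
    exact pc_le_pc_of_ne_bot hYW (hkey _ hb (pc_le q Y) (le_normalizer_pc q Y)
      ((le_normalizer_yc W z).trans (normalizer_le_normalizer_pc q _)))
  have hWY : W ≤ Y := le_of_local hWodd hYW C.ne (le_normalizer_yc W z) hF hkey
  exact C.bad (le_antisymm hWY hYW ▸ le_normalizer_yc W z)

end Ctx

end Cfsg.Agent.CoreKilling.RankTwo
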