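import Cfsg.Agent.Lib.CoreKilling.RankTwo.TwoGroup
import Cfsg.Agent.Lib.CoreKilling.Basic
import Cfsg.Agent.Lib.TwoCore.Group
import Cfsg.Agent.Lib.TwoCore.Small
import Cfsg.Agent.Lib.ZStar.Unique
import Cfsg.Agent.Lib.ZStar.Apply
import Cfsg.Agent.S0111

/-!
# Involution fusion in 2-rank two (owner: helper44)

* `exists_move` : a conjugate of `z` in `S` is reached by an element bringing its centraliser in `S`
  back into `S`
* `one_class` : one class of involutions in a simple group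
* `exists_conj_of_coset` : involutions congruent modulo an odd subgroup are conjugate by it
* `exists_involution_partner` : lifting an involution through an odd kernel
-/

set_option autoImplicit false
set_option linter.unusedSectionVars false

namespace Cfsg.Agent.CoreKilling.RankTwo

open Subgroup Involution

universe u

variable {G : Type u} [Group G] [Finite G]

/-- Conjugates of a central involution inside `K`. -/
theorem exists_move (S : Sylow 2 G) {z x g : G} (hzc : ∀ s ∈ S, Commute s z) {K : Subgroup G}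
    (hSK : (S : Subgroup G) ≤ K) (hg : g ∈ K) (hgx : g * z * g⁻¹ = x) :
    ∃ m ∈ K, m * z * m⁻¹ = x ∧ ∀ s ∈ S, Commute s x → m⁻¹ * s * m ∈ S := by
  set Γ := K ⊓ centralizer ({z} : Set G)
  set P := ((S : Subgroup G) ⊓ centralizer ({x} : Set G)).map (MulAut.conj g⁻¹).toMonoidHom with hP
  have hPΓ : P ≤ Γ := by
    rintro _ ⟨s, ⟨hs, hs'⟩, rfl⟩
    show g⁻¹ * s * g⁻¹⁻¹ ∈ Γ
    refine ⟨K.mul_mem (K.mul_mem (K.inv_mem hg) (hSK hs)) (K.inv_mem (K.inv_mem hg)),
      mem_centralizer_singleton_iff.2 ?_⟩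
    have h1 : Commute (g⁻¹ * s * g⁻¹⁻¹) (g⁻¹ * x * g⁻¹⁻¹) :=
      Commute.map (mem_centralizer_singleton_iff.1 hs' : Commute s x) (MulAut.conj g⁻¹).toMonoidHom
    rwa [show g⁻¹ * x * g⁻¹⁻¹ = z by rw [← hgx]; group] at h1
  obtain ⟨c, hc, hcP⟩ := TwoCore.exists_conj_sylow_mem S (Γ := Γ)
    (fun s hs => ⟨hSK hs, mem_centralizer_singleton_iff.2 (hzc s hs)⟩)
    ((S.isPGroup'.to_le inf_le_left).map (MulAut.conj g⁻¹).toMonoidHom) hPΓ
  refine ⟨g * c⁻¹, mul_mem hg (inv_mem hc.1), ?_, fun s hs hsx => ?_⟩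
  · have h1 : Commute c⁻¹ z := (show Commute c z from mem_centralizer_singleton_iff.1 hc.2).inv_left
    calc g * c⁻¹ * z * (g * c⁻¹)⁻¹ = g * (c⁻¹ * z * c⁻¹⁻¹) * g⁻¹ := by group
      _ = x := by rw [h1.eq, mul_inv_cancel_right, hgx]
  · have h1 := hcP _ ⟨s, ⟨hs, mem_centralizer_singleton_iff.2 hsx⟩, rfl⟩
    rw [show (g * c⁻¹)⁻¹ * s * (g * c⁻¹) = c * (g⁻¹ * s * g⁻¹⁻¹) * c⁻¹ by group]
    exact h1

/-- Involutions congruent modulo an odd subgroup. -/
theorem exists_conj_of_coset {N : Subgroup G} (hN : ¬ 2 ∣ Nat.card N) {a b : G} (ha : orderOf a = 2)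
    (hb : orderOf b = 2) (hab : a⁻¹ * b ∈ N) : ∃ r ∈ N, r * a * r⁻¹ = b := by
  set o := a⁻¹ * b with ho
  have hainv : a⁻¹ = a := inv_eq ha
  have hinv : a * o * a⁻¹ = o⁻¹ := by
    rw [ho, hainv, _root_.mul_inv_rev, ← mul_assoc, mul_self ha, one_mul, hainv, inv_eq hb]
  obtain ⟨k, hk⟩ : Odd (orderOf o) := Nat.not_even_iff_odd.1 fun he =>
    hN ((even_iff_two_dvd.1 he).trans (Subgroup.orderOf_dvd_natCard N hab))
  set r := o ^ (k + 1) with hr
  have hrr : r * r = o := by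
    rw [hr, ← pow_add, show k + 1 + (k + 1) = (2 * k + 1) + 1 by ring, pow_succ, ← hk,
      pow_orderOf_eq_one, one_mul]
  have har : a * r * a⁻¹ = r⁻¹ := by rw [hr, ← conj_pow, hinv, inv_pow]
  refine ⟨r⁻¹, inv_mem (pow_mem hab _), ?_⟩
  rw [inv_inv, ← har]
  calc a * r * a⁻¹ * a * r = a * (r * r) := by group
    _ = b := by rw [hrr, ho, mul_inv_cancel_left]

/-- An involution of `S` other than `z` lies in a four-group with it. -/
theorem isFour_with {S : Sylow 2 G} {z x : G} (hzc : ∀ s ∈ S, Commute s z) (hz : orderOf z = 2)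
    (hzS : z ∈ S) (hxS : x ∈ S) (hx : orderOf x = 2) (hxz : x ≠ z) :
    IsFour (zpowers z ⊔ zpowers x) ∧ zpowers z ⊔ zpowers x ≤ (S : Subgroup G) :=
  ⟨TwoCore.isFour_pair hz hx hxz (hzc x hxS).symm, sup_le (zpowers_le.2 hzS) (zpowers_le.2 hxS)⟩

/-- The image of a root of `z` under a move. -/
theorem move_square {S : Sylow 2 G} {z : G} {hzS : z ∈ S}
    (hf : TwoFacts (S : Subgroup G) ⟨z, hzS⟩) {e : (S : Subgroup G)}
    (hc0 : ∃ c ∈ center (S : Subgroup G), c * c = ⟨z, hzS⟩)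
    (he : ∀ c : (S : Subgroup G), orderOf (c * c) = 2 →
      c * c = ⟨z, hzS⟩ ∨ c * c = e ∨ c * c = e * ⟨z, hzS⟩)
    {x m : G} (hx : x ≠ z) (hxS : x ∈ S) (hmx : m * z * m⁻¹ = x)
    (hm : ∀ s ∈ S, Commute s x → m⁻¹ * s * m ∈ S) :
    m⁻¹ * z * m = (e : G) ∨ m⁻¹ * z * m = (e : G) * z := by
  obtain ⟨c, hc, hcz⟩ := hc0
  have hz : orderOf z = 2 := by have := hf.z2; rwa [Subgroup.orderOf_mk] at this
  have h1 := hm (c : G) c.2 (congrArg Subtype.val (mem_center_iff.1 hc ⟨x, hxS⟩)).symm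
  have hsq : ((⟨_, h1⟩ * ⟨_, h1⟩ : (S : Subgroup G)) : G) = m⁻¹ * z * m := by
    show m⁻¹ * c * m * (m⁻¹ * c * m) = _
    rw [show z = (c : G) * c from (congrArg Subtype.val hcz).symm]
    group
  have ho : orderOf (⟨_, h1⟩ * ⟨_, h1⟩ : (S : Subgroup G)) = 2 := by
    rw [← Subgroup.orderOf_coe, hsq]
    have := orderOf_conj m⁻¹ z
    rw [inv_inv] at this
    rw [this, hz]
  rcases he _ ho with h | h | h <;> have h' := congrArg Subtype.val h <;> rw [hsq] at h'
  · exfalso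
    refine hx ?_
    rw [← hmx]
    have h2 : Commute m z := by
      show m * z = z * m
      rw [← mul_left_cancel_iff (a := m⁻¹), inv_mul_cancel_left, ← mul_assoc]
      exact h'.symm
    rw [h2.eq, mul_inv_cancel_right]
  · exact Or.inl h'
  · exact Or.inr h'

section Simple

variable [IsSimpleGroup G]

theorem center_eq_bot_of_simple (hna : ¬ IsMulCommutative G) : center G = ⊥ :=
  (inferInstance : (center G).Normal).eq_bot_or_eq_top.resolve_right fun h =>
    hna ⟨⟨fun a b => mem_center_iff.1 (h ▸ mem_top b) a⟩⟩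

theorem oddCore_eq_bot_of_even (h2 : 2 ∣ Nat.card G) : Cfsg.oddCore G = ⊥ := by
  refine (Cores.pPrimeCore_normal 2 G).eq_bot_or_eq_top.resolve_right fun h => ?_
  have h' := Cores.not_dvd_card_pPrimeCore (p := 2) (G := G)
  rw [show Cfsg.pPrimeCore 2 G = ⊤ from h, card_top] at h'
  exact h' h2

theorem index_ne_two (hna : ¬ IsMulCommutative G) (H : Subgroup G) : H.index ≠ 2 := by
  intro h
  haveI := normal_of_index_eq_two h
  rcases (inferInstance : H.Normal).eq_bot_or_eq_top with h' | h' <;> rw [h'] at h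
  · rw [index_bot] at h
    haveI : IsCyclic G := isCyclic_of_prime_card (p := 2) (hp := ⟨Nat.prime_two⟩) h
    letI : CommGroup G := IsCyclic.commGroup
    exact hna ⟨⟨fun a b => mul_comm a b⟩⟩
  · rw [index_top] at h; omega

/-- One class of involutions. -/
theorem one_class (hna : ¬ IsMulCommutative G) (S : Sylow 2 G) {z : G} (hzS : z ∈ S)
    (hf : TwoFacts (S : Subgroup G) ⟨z, hzS⟩) {a : G} (ha : orderOf a = 2) :
    ∃ g : G, g * z * g⁻¹ = a := by
  haveI : Fact (Nat.Prime 2) := ⟨Nat.prime_two⟩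
  have hz : orderOf z = 2 := by have := hf.z2; rwa [Subgroup.orderOf_mk] at this
  have hzc : ∀ s ∈ S, Commute s z := fun s hs => congrArg Subtype.val (mem_center_iff.1 hf.zc ⟨s, hs⟩)
  -- some other involution of `S` is a conjugate
  obtain ⟨g₀, hg₀S, hg₀⟩ : ∃ g : G, g * z * g⁻¹ ∈ S ∧ g * z * g⁻¹ ≠ z := by
    by_contra hh
    push Not at hh
    have h2 : 2 ∣ Nat.card G := hz ▸ orderOf_dvd_natCard z
    have hc := ZStar.isolated_mem_center ZStar.uniqueInvolution
      (ZStar.isolated_of_sylow S hz hzS fun g hg => hh g hg) (oddCore_eq_bot_of_even h2)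
    rw [center_eq_bot_of_simple hna, mem_bot] at hc
    rw [hc, orderOf_one] at hz; omega
  set x := g₀ * z * g₀⁻¹ with hxdef
  have hx : orderOf x = 2 := by rw [hxdef, orderOf_conj, hz]
  have key : ∀ y : (S : Subgroup G), orderOf y = 2 → ∃ g : G, g * z * g⁻¹ = (y : G) := by
    intro y hy
    by_cases hyz : y = ⟨z, hzS⟩
    · exact ⟨1, by rw [hyz]; group⟩
    have hconj : ∀ {u w : (S : Subgroup G)}, IsConj u w → (∃ g : G, g * z * g⁻¹ = (u : G)) →
        ∃ g : G, g * z * g⁻¹ = (w : G) := by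
      intro u w huw ⟨g, hg⟩
      obtain ⟨s, hs⟩ := isConj_iff.1 huw
      refine ⟨(s : G) * g, ?_⟩
      rw [show (s : G) * g * z * ((s : G) * g)⁻¹ = s * (g * z * g⁻¹) * (s : G)⁻¹ by group, hg, ← hs]
      rfl
    rcases hf.fus with hfus | ⟨hc0, e, he, H, hH, hHi⟩
    · exact hconj (hfus ⟨x, hg₀S⟩ y (by rwa [Subgroup.orderOf_mk])
        (fun e => hg₀ (congrArg Subtype.val e)) hy hyz) ⟨g₀, rfl⟩
    obtain ⟨m, -, hmx, hm⟩ := exists_move S hzc (le_top) (mem_top g₀) (hxdef.symm)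
    have hme := move_square hf hc0 he hg₀ hg₀S hmx hm
    have hzz : (⟨z, hzS⟩ : (S : Subgroup G)) * ⟨z, hzS⟩ = 1 := Subtype.ext (mul_self hz)
    -- the square involutions other than `z` are conjugates
    have hez : (∃ g : G, g * z * g⁻¹ = (e : G)) ∧ ∃ g : G, g * z * g⁻¹ = (e : G) * z := by
      have hnz : m⁻¹ * z * m ≠ z := fun h' => hg₀ (by
        show x = z
        rw [← hmx]
        have : z * m = m * z := by rw [← mul_left_cancel_iff (a := m⁻¹), ← mul_assoc, h', inv_mul_cancel_left]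
        rw [← this, mul_inv_cancel_right])
      have ho : orderOf (m⁻¹ * z * m) = 2 := by
        have := orderOf_conj m⁻¹ z
        rw [inv_inv] at this
        rw [this, hz]
      have hbase : ∃ g : G, g * z * g⁻¹ = m⁻¹ * z * m := ⟨m⁻¹, by rw [inv_inv]⟩
      rcases hme with h | h
      · rw [h] at hbase hnz ho
        obtain ⟨s, hs⟩ := hf.swap e (by rwa [← Subgroup.orderOf_coe]) fun e' =>
          hnz (congrArg Subtype.val e')
        exact ⟨hbase, hconj (isConj_iff.2 ⟨s, hs⟩) hbase⟩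
      · rw [h] at hbase hnz ho
        obtain ⟨s, hs⟩ := hf.swap (e * ⟨z, hzS⟩) (by rw [← Subgroup.orderOf_coe]; exact ho) fun e' =>
          hnz (congrArg Subtype.val e')
        rw [mul_assoc e, hzz, mul_one] at hs
        exact ⟨hconj (u := e * ⟨z, hzS⟩) (isConj_iff.2 ⟨s, hs⟩) hbase, hbase⟩
    have hin : ∀ w : (S : Subgroup G), orderOf w = 2 → w ∈ H → ∃ g : G, g * z * g⁻¹ = (w : G) := by
      intro w hw hwH
      rcases hHi w hwH hw with rfl | rfl | rfl
      · exact ⟨1, by simp⟩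
      · exact hez.1
      · exact hez.2
    by_cases hyH : y ∈ H
    · exact hin y hy hyH
    rcases S0111.result S (H.map (S : Subgroup G).subtype) (map_subtype_le H) (by
        rw [relIndex, subgroupOf, comap_map_eq_self_of_injective (S : Subgroup G).subtype_injective]
        exact hH)
      (y : G) (by rwa [Subgroup.orderOf_coe]) y.2 (fun h => hyH (by
        obtain ⟨w, hw, hwy⟩ := h
        rwa [← Subtype.ext hwy])) with ⟨M, -, hM, -⟩ | ⟨g, w, hwH, hwy⟩
    · exact absurd hM (index_ne_two hna M)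
    · have hw2 : orderOf w = 2 := by
        rw [← Subgroup.orderOf_coe, show (w : G) = g * y * g⁻¹ from hwy, orderOf_conj, Subgroup.orderOf_coe, hy]
      obtain ⟨k, hk⟩ := hin w hw2 hwH
      refine ⟨g⁻¹ * k, ?_⟩
      rw [show g⁻¹ * k * z * (g⁻¹ * k)⁻¹ = g⁻¹ * (k * z * k⁻¹) * g by group, hk,
        show (w : G) = g * y * g⁻¹ from hwy]
      group
  obtain ⟨P, hP⟩ := (IsPGroup.of_card (G := zpowers a) (p := 2) (n := 1)
    (by rw [Nat.card_zpowers, ha, pow_one])).exists_le_sylow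
  obtain ⟨g, hg⟩ := MulAction.exists_smul_eq G P S
  have haS : g * a * g⁻¹ ∈ S := hg ▸ ⟨a, hP (mem_zpowers a), rfl⟩
  obtain ⟨k, hk⟩ := key ⟨_, haS⟩ (by rw [Subgroup.orderOf_mk, orderOf_conj, ha])
  refine ⟨g⁻¹ * k, ?_⟩
  rw [show g⁻¹ * k * z * (g⁻¹ * k)⁻¹ = g⁻¹ * (k * z * k⁻¹) * g by group, hk]
  group

end Simple

end Cfsg.Agent.CoreKilling.RankTwo
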