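import Cfsg.Agent.Lib.CoreKilling.RankTwo.Ctx
import Cfsg.Agent.Lib.Bender.FreeNC

/-!
# Core killing in 2-rank two: odd subgroups and local subgroups (owner: helper44)

* `gen4` : an odd subgroup is generated by the fixed points of a four-group
* `Ctx.part`, `Ctx.le_W` : odd subgroups of `N(W)` lie in `W`
* `Ctx.false_of_transitive` : no local subgroup carries all the fusion and `C(z)`
* `oc K` : the odd core of `K` as a subgroup of `G`
* `LocSub`, `LocSub.inter_eq` : `z` isolated in `K`, `W ⊓ K = O(K) ⊓ N(W)`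
* `yc` : the largest `C(z)`-invariant subgroup of `W`
* `Ctx.crit2` : an element of `C(v)` normalising a normal subgroup of `N(W)` in `W` lies in `N(W)`
-/

set_option autoImplicit false
set_option linter.unusedSectionVars false
set_option linter.style.haveILetI false

namespace Cfsg.Agent.CoreKilling.RankTwo

open Subgroup
open scoped Pointwise

universe u

variable {G : Type u} [Group G]

theorem mem_cases {a x : G} (ha : orderOf a = 2) (hx : x ∈ zpowers a) : x = 1 ∨ x = a := by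
  obtain ⟨i, rfl⟩ := mem_zpowers_iff.1 hx
  rw [← zpow_mod_orderOf, ha, Nat.cast_ofNat]
  rcases Int.emod_two_eq_zero_or_one i with h | h <;> rw [h]
  · exact Or.inl (zpow_zero a)
  · exact Or.inr (zpow_one a)

theorem four_cases {a b x : G} (ha : orderOf a = 2) (hb : orderOf b = 2) (hab : Commute a b)
    (hx : x ∈ zpowers a ⊔ zpowers b) : x = 1 ∨ x = a ∨ x = b ∨ x = b * a := by
  have hn : zpowers b ≤ normalizer (zpowers a : Set G) :=
    (zpowers_le.2 (mem_centralizer_iff.2 fun c hc => by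
      obtain ⟨i, rfl⟩ := mem_zpowers_iff.1 hc
      exact (hab.zpow_left i).eq)).trans (centralizer_le_normalizer _)
  have hx' : x ∈ (zpowers a : Set G) * (zpowers b : Set G) := by
    rw [← Subgroup.coe_mul_of_right_le_normalizer_left _ _ hn]; exact hx
  obtain ⟨y, hy, w, hw, rfl⟩ := hx'
  rcases mem_cases ha hy with rfl | rfl <;> rcases mem_cases hb hw with rfl | rfl
  · exact Or.inl (one_mul 1)
  · exact Or.inr (Or.inr (Or.inl (one_mul _)))
  · exact Or.inr (Or.inl (mul_one _))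
  · exact Or.inr (Or.inr (Or.inr hab.eq))

variable [Finite G]

/-- An odd subgroup is generated by its fixed points under a four-group. -/
theorem gen4 {a b : G} (ha : orderOf a = 2) (hb : orderOf b = 2) (hne : b ≠ a) (hab : Commute a b)
    {X K : Subgroup G} (hX : ¬ 2 ∣ Nat.card X) (hanX : a ∈ normalizer (X : Set G))
    (hbnX : b ∈ normalizer (X : Set G)) (h1 : X ⊓ centralizer ({a} : Set G) ≤ K)
    (h2 : X ⊓ centralizer ({b} : Set G) ≤ K) (h3 : X ⊓ centralizer ({b * a} : Set G) ≤ K) : X ≤ K := by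
  haveI : Fact (Nat.Prime 2) := ⟨Nat.prime_two⟩
  have h4 := TwoCore.isFour_pair ha hb hne hab
  refine Signalizer.le_of_elements h4.1 h4.2 K X hX (sup_le (zpowers_le.2 hanX) (zpowers_le.2 hbnX))
    fun e he he1 => ?_
  rcases four_cases ha hb hab he with rfl | rfl | rfl | rfl
  · exact absurd rfl he1
  · exact h1
  · exact h2
  · exact h3

/-- The odd core of a subgroup. -/
def oc (K : Subgroup G) : Subgroup G := (Cfsg.oddCore K).map K.subtype

theorem oc_le (K : Subgroup G) : oc K ≤ K := map_subtype_le _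

theorem oc_odd (K : Subgroup G) : ¬ 2 ∣ Nat.card (oc K) := by
  rw [oc, Cores.card_map_subtype]; exact Cores.not_dvd_card_pPrimeCore

theorem le_normalizer_oc (K : Subgroup G) : K ≤ normalizer (oc K : Set G) :=
  le_normalizer.trans (Cores.normalizer_le_normalizer_map _)

theorem le_oc {K N : Subgroup G} (hNK : N ≤ K) (hn : K ≤ normalizer (N : Set G))
    (hN : ¬ 2 ∣ Nat.card N) : N ≤ oc K := fun x hx =>
  ⟨⟨x, hNK hx⟩, Cores.le_pPrimeCore (p := 2) (Cores.subgroupOf_normal_of_le_normalizer hn)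
    (by rw [Cores.card_subgroupOf hNK]; exact ((Nat.prime_two.coprime_iff_not_dvd).2 hN).symm)
    (show (⟨x, hNK hx⟩ : K) ∈ N.subgroupOf K from hx), rfl⟩

theorem not_dvd_of_le {A B : Subgroup G} (hAB : A ≤ B) (hB : ¬ 2 ∣ Nat.card B) : ¬ 2 ∣ Nat.card A :=
  fun h => hB (h.trans (card_dvd_of_le hAB))

theorem not_dvd_sup {A B : Subgroup G} (hA : ¬ 2 ∣ Nat.card A) (hB : ¬ 2 ∣ Nat.card B)
    (hAB : A ≤ normalizer (B : Set G)) : ¬ 2 ∣ Nat.card (A ⊔ B : Subgroup G) := fun h =>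
  Nat.not_even_iff_odd.2 (Bender.odd_card_sup_of_normalizes hAB
    (Nat.odd_iff.2 (Nat.two_dvd_ne_zero.1 hB)) (Nat.odd_iff.2 (Nat.two_dvd_ne_zero.1 hA)))
    (even_iff_two_dvd.2 h)

variable {S : Sylow 2 G} {W : Subgroup G} {z : G}

local notation "𝐌" => normalizer (W : Set G)
local notation "𝐂" => centralizer (Singleton.singleton z : Set G)
local notation "𝐑" => Cfsg.centralizerPPrimeCore 2 z

/-- `X` is normalised by a supplement of `R` in `C(⟨z, v⟩)`. -/
def SupN (z v : G) (X : Subgroup G) : Prop :=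
  ∀ g ∈ centralizer ({z} : Set G) ⊓ centralizer ({v} : Set G),
    ∃ j ∈ Cfsg.centralizerPPrimeCore 2 z, Commute j v ∧ j * g ∈ normalizer (X : Set G)

theorem SupN.of_le {v : G} {X : Subgroup G}
    (h : centralizer ({z} : Set G) ⊓ centralizer ({v} : Set G) ≤ normalizer (X : Set G)) : SupN z v X :=
  fun g hg => ⟨1, one_mem _, Commute.one_left v, by rw [one_mul]; exact h hg⟩

theorem le_core_z {X : Subgroup G} (hXC : X ≤ 𝐂) (hX : ¬ 2 ∣ Nat.card X)
    (hn : 𝐂 ≤ normalizer (X : Set G)) : X ≤ 𝐑 := le_oc hXC hn hX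

namespace Ctx

variable (C : Ctx S W z)
include C

theorem v_mul {v : G} (hvS : v ∈ S) (hv : orderOf v = 2) (hvz : v ≠ z) :
    v * z ∈ S ∧ orderOf (v * z) = 2 ∧ v * z ≠ z :=
  ⟨C.mul_z_mem hvS, C.mul_z2 hvS hv hvz⟩

theorem centE_mul {v : G} (hvS : v ∈ S) :
    𝐂 ⊓ centralizer ({v * z} : Set G) = 𝐂 ⊓ centralizer ({v} : Set G) := by
  ext g
  simp only [Subgroup.mem_inf, mem_centralizer_singleton_iff]
  refine and_congr_right fun hgz => ⟨fun h => ?_, fun h => ?_⟩
  · have h1 : Commute g (v * z * z) := Commute.mul_right h hgz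
    rwa [mul_assoc, Involution.mul_self C.z2, mul_one] at h1
  · exact (Commute.mul_right (h : Commute g v) (hgz : Commute g z)).eq

theorem SupN.mul {v : G} {X : Subgroup G} (hvS : v ∈ S) (h : SupN z v X) : SupN z (v * z) X := by
  intro g hg
  rw [C.centE_mul hvS] at hg
  obtain ⟨j, hj, hjv, hjg⟩ := h g hg
  exact ⟨j, hj, hjv.mul_right (mem_centralizer_singleton_iff.1 (C.R_le_C hj)), hjg⟩

theorem theta_le {v : G} (hvS : v ∈ S) (hv : orderOf v = 2) : Cfsg.centralizerPPrimeCore 2 v ≤ W :=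
  C.set.core_le hvS hv

theorem W_inf {v : G} (hvS : v ∈ S) (hv : orderOf v = 2) :
    W ⊓ centralizer ({v} : Set G) = Cfsg.centralizerPPrimeCore 2 v := C.set.fix v hvS hv

theorem W_inf_C : W ⊓ 𝐂 = 𝐑 := C.set.fix z C.hzS C.z2

variable {p : ℕ} (B : Bad S W z p)
include B

/-- The fixed points of an odd subgroup at a noncentral involution. -/
theorem part {v : G} (hvS : v ∈ S) (hv : orderOf v = 2) (hvz : v ≠ z) {X : Subgroup G}
    (hX : ¬ 2 ∣ Nat.card X) (hs : SupN z v X) :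
    (Cfsg.centralizerPPrimeCore 2 v).relIndex
        ((X ⊓ centralizer ({v} : Set G)) ⊔ Cfsg.centralizerPPrimeCore 2 v) ∣ p ∧
      (X ⊓ centralizer ({v} : Set G) ≤ 𝐌 →
        X ⊓ centralizer ({v} : Set G) ≤ Cfsg.centralizerPPrimeCore 2 v) := by
  haveI : Fact (Nat.Prime 2) := ⟨Nat.prime_two⟩
  set θ := Cfsg.centralizerPPrimeCore 2 v
  have hθC : θ ≤ centralizer ({v} : Set G) := map_subtype_le _
  have hCθ := Signalizer.centralizer_le_normalizer_core (p := 2) v
  have hnX : 𝐂 ⊓ centralizer ({v} : Set G) ≤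
      normalizer (((X ⊓ centralizer ({v} : Set G)) ⊔ θ : Subgroup G) : Set G) := by
    intro g hg
    obtain ⟨j, hj, hjv, hjg⟩ := hs g hg
    have hjC : j ∈ centralizer ({v} : Set G) := mem_centralizer_singleton_iff.2 hjv.eq
    have hjθ : j ∈ θ := (C.W_inf hvS hv).le ⟨C.R_le hj, hjC⟩
    have h1 : j * g ∈ normalizer (((X ⊓ centralizer ({v} : Set G)) ⊔ θ : Subgroup G) : Set G) := by
      have hjgC : j * g ∈ centralizer ({v} : Set G) := mul_mem hjC hg.2
      exact Signalizer.le_normalizer_sup (A := zpowers (j * g))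
        (Signalizer.le_normalizer_inf (zpowers_le.2 hjg) (zpowers_le.2 (le_normalizer hjgC)))
        (zpowers_le.2 (hCθ hjgC)) (mem_zpowers _)
    have h2 := mul_mem (inv_mem (le_normalizer
      (le_sup_right (a := X ⊓ centralizer ({v} : Set G)) hjθ))) h1
    rwa [inv_mul_cancel_left] at h2
  have h := C.at_v B hvS hv hvz (X := (X ⊓ centralizer ({v} : Set G)) ⊔ θ) le_sup_right
    (sup_le inf_le_right hθC)
    (not_dvd_sup (not_dvd_of_le inf_le_left hX) (Signalizer.not_dvd_card_core v) (inf_le_right.trans hCθ))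
    hnX
  exact ⟨h.1, fun hM => le_sup_left.trans (h.2 (sup_le hM ((C.theta_le hvS hv).trans le_normalizer)))⟩

/-- Odd subgroups of `N(W)` lie in `W`. -/
theorem le_W {v : G} (hvS : v ∈ S) (hv : orderOf v = 2) (hvz : v ≠ z) {X : Subgroup G}
    (hX : ¬ 2 ∣ Nat.card X) (hXM : X ≤ 𝐌) (hzX : z ∈ normalizer (X : Set G))
    (hvX : v ∈ normalizer (X : Set G)) (hXz : X ⊓ 𝐂 ≤ W) (hs : SupN z v X) : X ≤ W := by
  obtain ⟨h1, h2, h3⟩ := C.v_mul hvS hv hvz
  exact gen4 C.z2 hv hvz (C.zc v hvS).symm hX hzX hvX hXz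
    (((C.part B hvS hv hvz hX hs).2 (inf_le_left.trans hXM)).trans (C.theta_le hvS hv))
    (((C.part B h1 h2 h3 hX (SupN.mul C hvS hs)).2 (inf_le_left.trans hXM)).trans (C.theta_le h1 h2))

omit B in
/-- No local subgroup carries `C(z)` and all the fusion. -/
theorem false_of_transitive {U : Subgroup G} (hU : U ≠ ⊥) (hodd : ¬ 2 ∣ Nat.card U)
    (hSK : (S : Subgroup G) ≤ normalizer (U : Set G)) (hCK : 𝐂 ≤ normalizer (U : Set G))
    (hfus : ∀ x ∈ S, orderOf x = 2 → x ≠ z → ∃ k ∈ normalizer (U : Set G), k * z * k⁻¹ = x) :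
    False := by
  haveI : Fact (Nat.Prime 2) := ⟨Nat.prime_two⟩
  set K := normalizer (U : Set G)
  have hKne : K ≠ ⊤ := fun e => hU (eq_bot_iff.2 (C.core ▸ Cores.le_pPrimeCore
    (normalizer_eq_top_iff.1 e) ((Nat.prime_two.coprime_iff_not_dvd).2 hodd).symm))
  have hconj : ∀ t ∈ K, orderOf t = 2 → ∃ k ∈ K, k * z * k⁻¹ = t := by
    intro t htK ht
    obtain ⟨g, hg, hgS⟩ := TwoCore.exists_conj_sylow_mem S hSK
      (IsPGroup.of_card (G := zpowers t) (p := 2) (n := 1) (by rw [Nat.card_zpowers, ht, pow_one]))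
      (zpowers_le.2 htK)
    have htS := hgS t (mem_zpowers t)
    by_cases h : g * t * g⁻¹ = z
    · exact ⟨g⁻¹, inv_mem hg, by rw [← h]; group⟩
    obtain ⟨k, hk, hkt⟩ := hfus _ htS (by rw [Involution.orderOf_conj, ht]) h
    exact ⟨g⁻¹ * k, mul_mem (inv_mem hg) hk, by
      rw [show g⁻¹ * k * z * (g⁻¹ * k)⁻¹ = g⁻¹ * (k * z * k⁻¹) * g by group, hkt]; group⟩
  have hse : Cfsg.IsStronglyEmbedded K := by
    refine Involution.isStronglyEmbedded_iff_forall.2 ⟨hKne, ?_, fun g t ht htK hg => ?_⟩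
    · rw [even_iff_two_dvd, ← C.z2]
      exact Subgroup.orderOf_dvd_natCard _ (hSK C.hzS)
    obtain ⟨k, hk, hkt⟩ := hconj t htK ht
    obtain ⟨l, hl, hlt⟩ := hconj _ hg (by rw [Involution.orderOf_conj, ht])
    have h1 : l⁻¹ * g * k ∈ 𝐂 := by
      refine mem_centralizer_singleton_iff.2 (mul_inv_eq_iff_eq_mul.1 ?_)
      rw [show l⁻¹ * g * k * z * (l⁻¹ * g * k)⁻¹ = l⁻¹ * (g * (k * z * k⁻¹) * g⁻¹) * l by group,
        hkt, ← hlt]
      group
    have h2 := mul_mem (mul_mem hl (hCK h1)) (inv_mem hk)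
    rwa [show l * (l⁻¹ * g * k) * k⁻¹ = g by group] at h2
  refine hU (eq_bot_iff.2 (C.core ▸ le_trans ?_ (C.noSE K hse)))
  exact le_oc le_normalizer le_rfl hodd

/-- An element of `C(v)` normalising a subgroup of `W` normal in `N(W)` lies in `N(W)`. -/
theorem crit2 {P : Subgroup G} (hP : P ≠ ⊥) (hPW : P ≤ W) (hPn : 𝐌 ≤ normalizer (P : Set G))
    {v : G} (hvS : v ∈ S) (hv : orderOf v = 2) (hvz : v ≠ z) :
    centralizer ({v} : Set G) ⊓ normalizer (P : Set G) ≤ 𝐌 := by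
  obtain ⟨m, hm, hmv, -⟩ := C.move_v hvS hv hvz
  set f := (MulAut.conj m).toMonoidHom with hf
  have hfi : Function.Injective f := (MulAut.conj m).injective
  have hmapC : (𝐂).map f = centralizer ({v} : Set G) := by
    ext g
    rw [hf, Signalizer.mem_map_conj, mem_centralizer_singleton_iff, mem_centralizer_singleton_iff, ← hmv]
    constructor
    · intro h
      calc g * (m * z * m⁻¹) = m * (m⁻¹ * g * m * z) * m⁻¹ := by group
        _ = _ := by rw [h]; group
    · intro h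
      calc m⁻¹ * g * m * z = m⁻¹ * (g * (m * z * m⁻¹)) * m := by group
        _ = _ := by rw [h]; group
  have hmapM : (𝐌).map f = 𝐌 := by
    ext g
    rw [hf, Signalizer.mem_map_conj]
    refine ⟨fun h => ?_, fun h => mul_mem (mul_mem (inv_mem hm) h) hm⟩
    have := mul_mem (mul_mem hm h) (inv_mem hm)
    rwa [show m * (m⁻¹ * g * m) * m⁻¹ = g by group] at this
  have hidx : (𝐌 ⊓ centralizer ({v} : Set G)).relIndex (centralizer ({v} : Set G)) = p := by
    have h := relIndex_map_map_of_injective (𝐌 ⊓ 𝐂) 𝐂 hfi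
    rwa [map_inf _ _ _ hfi, hmapM, hmapC, B.index] at h
  set K' := centralizer ({v} : Set G) ⊓ normalizer (P : Set G)
  have h1 := relIndex_mul_relIndex (𝐌 ⊓ centralizer ({v} : Set G)) K' (centralizer ({v} : Set G))
    (le_inf inf_le_right (inf_le_left.trans hPn)) inf_le_left
  rw [hidx] at h1
  rcases (Nat.dvd_prime B.prime).1 (h1 ▸ dvd_mul_right _ _) with h | h
  · exact (relIndex_eq_one.1 h).trans inf_le_left
  exfalso
  rw [h] at h1
  have h2 : centralizer ({v} : Set G) ≤ K' :=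
    relIndex_eq_one.1 (mul_left_cancel₀ B.prime.ne_zero (h1.trans (mul_one p).symm))
  refine C.false_of_transitive hP (not_dvd_of_le hPW C.set.odd) (C.set.norm.trans hPn) ?_ ?_
  · intro g hg
    have hg' : m * g * m⁻¹ ∈ centralizer ({v} : Set G) := hmapC.le ⟨g, hg, rfl⟩
    have := mul_mem (mul_mem (inv_mem (hPn hm)) (h2 hg').2) (hPn hm)
    rwa [show m⁻¹ * (m * g * m⁻¹) * m = g by group] at this
  · intro x hxS hx hxz
    obtain ⟨m', hm', hmx, -⟩ := C.move_v hxS hx hxz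
    exact ⟨m', hPn hm', hmx⟩

end Ctx

/-- `z` isolated in `K`, with supplements. -/
structure LocSub (S : Sylow 2 G) (W : Subgroup G) (z : G) (K : Subgroup G) : Prop where
  le : (S : Subgroup G) ≤ K
  iso : ∀ k ∈ K, k * z * k⁻¹ ∈ S → k * z * k⁻¹ = z
  coreM : oc K ⊓ centralizer ({z} : Set G) ≤ normalizer (W : Set G)
  sup : ∀ v ∈ S, orderOf v = 2 → v ≠ z → ∀ g ∈ centralizer ({z} : Set G) ⊓ centralizer ({v} : Set G),
    ∃ j ∈ Cfsg.centralizerPPrimeCore 2 z, Commute j v ∧ j * g ∈ K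

namespace LocSub

variable (C : Ctx S W z) {p : ℕ} (B : Bad S W z p) {K : Subgroup G} (L : LocSub S W z K)
include C B L

theorem supN {X : Subgroup G} (hKX : K ⊓ 𝐌 ≤ normalizer (X : Set G)) {v : G} (hvS : v ∈ S)
    (hv : orderOf v = 2) (hvz : v ≠ z) : SupN z v X := fun g hg => by
  obtain ⟨j, hj, hjv, hjg⟩ := L.sup v hvS hv hvz g hg
  exact ⟨j, hj, hjv, hKX ⟨hjg, (𝐌).mul_mem (C.R_le_M hj) (C.centE_le hvS hv hvz hg)⟩⟩

theorem supN_core {v : G} (hvS : v ∈ S) (hv : orderOf v = 2) (hvz : v ≠ z) : SupN z v (oc K) :=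
  L.supN C B (inf_le_left.trans (le_normalizer_oc K)) hvS hv hvz

/-- `K = O(K) C_K(z)`. -/
theorem exists_mul {k : G} (hk : k ∈ K) : ∃ o ∈ oc K, o⁻¹ * k ∈ 𝐂 := by
  haveI : Fact (Nat.Prime 2) := ⟨Nat.prime_two⟩
  have hzK : z ∈ K := L.le C.hzS
  have hz' : orderOf (⟨z, hzK⟩ : K) = 2 := by rw [Subgroup.orderOf_mk]; exact C.z2
  have hiso : Cfsg.IsIsolatedInvolution (⟨z, hzK⟩ : K) :=
    ZStar.isolated_of_sylow (S.subtype L.le) hz' C.hzS fun g hg => Subtype.ext (L.iso g g.2 hg)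
  have h := ZStar.zStar_of_brauerSuzuki ZStar.uniqueInvolution hiso ⟨k, hk⟩
  have h1 : z * k * z⁻¹ * k⁻¹ ∈ oc K := ⟨_, h, rfl⟩
  have h2 : z⁻¹ * (k * z * k⁻¹) ∈ oc K := by
    have := (mem_normalizer_iff.1 (le_normalizer_oc K (inv_mem hzK)) _).1 (inv_mem h1)
    rwa [show z⁻¹ * (z * k * z⁻¹ * k⁻¹)⁻¹ * z⁻¹⁻¹ = z⁻¹ * (k * z * k⁻¹) by group] at this
  obtain ⟨o, ho, hoz⟩ := exists_conj_of_coset (oc_odd K) C.z2
    (by rw [Involution.orderOf_conj]; exact C.z2) h2
  refine ⟨o, ho, mem_centralizer_singleton_iff.2 (mul_inv_eq_iff_eq_mul.1 ?_)⟩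
  rw [show o⁻¹ * k * z * (o⁻¹ * k)⁻¹ = o⁻¹ * (k * z * k⁻¹) * o by group, ← hoz]
  group

/-- `O(K) ∩ C(z) ≤ R`. -/
theorem core_z : oc K ⊓ 𝐂 ≤ 𝐑 := by
  obtain ⟨w, hw, hwz⟩ := C.facts.ex
  have hwS : (w : G) ∈ S := w.2
  have hw2 : orderOf (w : G) = 2 := by rw [Subgroup.orderOf_coe]; exact hw
  have hwz' : (w : G) ≠ z := fun e => hwz (Subtype.ext e)
  have hn : 𝐂 ⊓ centralizer ({(w : G)} : Set G) ≤
      normalizer (((oc K ⊓ 𝐂) ⊔ 𝐑 : Subgroup G) : Set G) := by
    intro g hg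
    obtain ⟨j, hj, -, hjg⟩ := L.sup w hwS hw2 hwz' g hg
    have hjC : j * g ∈ 𝐂 := mul_mem (C.R_le_C hj) hg.1
    have h1 : j * g ∈ normalizer (((oc K ⊓ 𝐂) ⊔ 𝐑 : Subgroup G) : Set G) :=
      Signalizer.le_normalizer_sup (A := zpowers (j * g))
        (Signalizer.le_normalizer_inf (zpowers_le.2 (le_normalizer_oc K hjg))
          (zpowers_le.2 (le_normalizer hjC)))
        (zpowers_le.2 (le_normalizer.trans (Cores.normalizer_le_normalizer_map _) hjC)) (mem_zpowers _)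
    have h2 := mul_mem (inv_mem (le_normalizer (le_sup_right (a := oc K ⊓ 𝐂) hj))) h1
    rwa [inv_mul_cancel_left] at h2
  have hRn : 𝐂 ≤ normalizer (𝐑 : Set G) := le_normalizer.trans (Cores.normalizer_le_normalizer_map _)
  exact le_sup_left.trans ((B.dvd w hwS hw2 hwz' _ le_sup_right (sup_le inf_le_right C.R_le_C)
    (not_dvd_sup (not_dvd_of_le inf_le_left (oc_odd K)) C.R_odd (inf_le_right.trans hRn)) hn).2
    (sup_le L.coreM C.R_le_M))

/-- `R ∩ K ≤ O(K)`. -/
theorem R_inf_le : 𝐑 ⊓ K ≤ oc K := by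
  refine le_sup_left.trans (le_oc (N := (𝐑 ⊓ K) ⊔ oc K) (sup_le inf_le_right (oc_le K)) ?_
    (not_dvd_sup (not_dvd_of_le inf_le_left C.R_odd) (oc_odd K) (inf_le_right.trans (le_normalizer_oc K))))
  intro k hk
  obtain ⟨o, ho, hok⟩ := L.exists_mul C B hk
  have hokK : o⁻¹ * k ∈ K := mul_mem (inv_mem (oc_le K ho)) hk
  have h1 : o⁻¹ * k ∈ normalizer (((𝐑 ⊓ K) ⊔ oc K : Subgroup G) : Set G) :=
    Signalizer.le_normalizer_sup (A := zpowers (o⁻¹ * k))
      (Signalizer.le_normalizer_inf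
        (zpowers_le.2 (le_normalizer.trans (Cores.normalizer_le_normalizer_map _) hok))
        (zpowers_le.2 (le_normalizer hokK)))
      (zpowers_le.2 (le_normalizer_oc K hokK)) (mem_zpowers _)
  have h2 := mul_mem (le_normalizer (le_sup_right (a := 𝐑 ⊓ K) ho)) h1
  rwa [mul_inv_cancel_left] at h2

/-- `θ(v) ∩ K ≤ O(K)`. -/
theorem theta_inf_le {v : G} (hvS : v ∈ S) (hv : orderOf v = 2) (hvz : v ≠ z) :
    Cfsg.centralizerPPrimeCore 2 v ⊓ K ≤ oc K := by
  haveI : Fact (Nat.Prime 2) := ⟨Nat.prime_two⟩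
  set θ := Cfsg.centralizerPPrimeCore 2 v
  have hθC : θ ≤ centralizer ({v} : Set G) := map_subtype_le _
  set A := (θ ⊓ K) ⊔ oc K
  set X := (A ⊓ 𝐂) ⊔ 𝐑
  have hRn : 𝐂 ≤ normalizer (𝐑 : Set G) := le_normalizer.trans (Cores.normalizer_le_normalizer_map _)
  have hAK : θ ⊓ K ≤ normalizer (oc K : Set G) := inf_le_right.trans (le_normalizer_oc K)
  have hn : 𝐂 ⊓ centralizer ({v} : Set G) ≤ normalizer (X : Set G) := by
    intro g hg
    obtain ⟨j, hj, hjv, hjg⟩ := L.sup v hvS hv hvz g hg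
    have hjC : j * g ∈ 𝐂 := mul_mem (C.R_le_C hj) hg.1
    have hjvC : j * g ∈ centralizer ({v} : Set G) :=
      mul_mem (mem_centralizer_singleton_iff.2 hjv.eq) hg.2
    have h1 : j * g ∈ normalizer (X : Set G) :=
      Signalizer.le_normalizer_sup (A := zpowers (j * g))
        (Signalizer.le_normalizer_inf
          (Signalizer.le_normalizer_sup (Signalizer.le_normalizer_inf
              (zpowers_le.2 (Signalizer.centralizer_le_normalizer_core (p := 2) v hjvC))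
              (zpowers_le.2 (le_normalizer hjg)))
            (zpowers_le.2 (le_normalizer_oc K hjg)))
          (zpowers_le.2 (le_normalizer hjC)))
        (zpowers_le.2 (hRn hjC)) (mem_zpowers _)
    have h2 := mul_mem (inv_mem (le_normalizer (le_sup_right (a := A ⊓ 𝐂) hj))) h1
    rwa [inv_mul_cancel_left] at h2
  have hXM : X ≤ 𝐌 := by
    refine sup_le (fun x hx => ?_) C.R_le_M
    obtain ⟨hxA, hxz⟩ := hx
    have hxA' : x ∈ (↑(θ ⊓ K) : Set G) * (↑(oc K) : Set G) := by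
      rw [← Subgroup.coe_mul_of_left_le_normalizer_right _ _ hAK]; exact hxA
    obtain ⟨t, ht, o, ho, rfl⟩ := hxA'
    have hvn : v ∈ normalizer (oc K : Set G) := le_normalizer_oc K (L.le hvS)
    have h1 : v⁻¹ * (t * o * v * (t * o)⁻¹) ∈ oc K ⊓ 𝐂 := by
      refine ⟨?_, ?_⟩
      · have htv : Commute t v := mem_centralizer_singleton_iff.1 (hθC ht.1)
        have e : v⁻¹ * (t * o * v * (t * o)⁻¹) = t * (v⁻¹ * o * v * o⁻¹) * t⁻¹ := by
          calc v⁻¹ * (t * o * v * (t * o)⁻¹) = v⁻¹ * t * o * v * o⁻¹ * t⁻¹ := by group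
            _ = t * v⁻¹ * o * v * o⁻¹ * t⁻¹ := by rw [htv.symm.inv_left.eq]
            _ = _ := by group
        rw [e]
        refine (mem_normalizer_iff.1 (hAK ht) _).1 (mul_mem ?_ (inv_mem ho))
        simpa using (mem_normalizer_iff.1 (inv_mem hvn) o).1 ho
      · have hvC : v ∈ 𝐂 := C.S_le_C hvS
        exact (𝐂).mul_mem ((𝐂).inv_mem hvC) ((𝐂).mul_mem ((𝐂).mul_mem hxz hvC) ((𝐂).inv_mem hxz))
    obtain ⟨r, hr, hrx⟩ := C.lift_cent hxz hvS hv (L.core_z C B h1)
    have h2 := mul_mem (inv_mem (C.R_le_M hr)) (C.centE_le hvS hv hvz hrx)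
    rwa [inv_mul_cancel_left] at h2
  have hX2 : ¬ 2 ∣ Nat.card X := not_dvd_sup (not_dvd_of_le inf_le_left (not_dvd_sup
    (not_dvd_of_le inf_le_left (Signalizer.not_dvd_card_core v)) (oc_odd K) hAK)) C.R_odd
    (inf_le_right.trans hRn)
  have hXR : X ≤ 𝐑 := (B.dvd v hvS hv hvz X le_sup_right (sup_le inf_le_right C.R_le_C) hX2 hn).2 hXM
  intro t ht
  obtain ⟨o, ho, hot⟩ := L.exists_mul C B ht.2
  have h1 : o⁻¹ * t ∈ A := mul_mem (inv_mem (le_sup_right (a := θ ⊓ K) ho)) (le_sup_left (b := oc K) ht)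
  have h2 : o⁻¹ * t ∈ 𝐑 := hXR (le_sup_left (b := 𝐑) ⟨h1, hot⟩)
  have h3 := mul_mem ho (L.R_inf_le C B ⟨h2, K.mul_mem (K.inv_mem (oc_le K ho)) ht.2⟩)
  rwa [mul_inv_cancel_left] at h3

/-- `W ∩ K = O(K) ∩ N(W)`. -/
theorem inter_eq : W ⊓ K = oc K ⊓ 𝐌 := by
  obtain ⟨w, hw, hwz⟩ := C.facts.ex
  have hwS : (w : G) ∈ S := w.2
  have hw2 : orderOf (w : G) = 2 := by rw [Subgroup.orderOf_coe]; exact hw
  have hwz' : (w : G) ≠ z := fun e => hwz (Subtype.ext e)
  obtain ⟨h1, h2, h3⟩ := C.v_mul hwS hw2 hwz'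
  refine le_antisymm (le_inf ?_ (inf_le_left.trans le_normalizer)) (le_inf ?_ (inf_le_left.trans (oc_le K)))
  · have hn : ∀ x ∈ S, x ∈ normalizer ((W ⊓ K : Subgroup G) : Set G) := fun x hx =>
      Signalizer.le_normalizer_inf (A := zpowers x) (zpowers_le.2 (C.set.norm hx))
        (zpowers_le.2 (le_normalizer (L.le hx))) (mem_zpowers x)
    refine gen4 C.z2 hw2 hwz' (C.zc w hwS).symm (not_dvd_of_le inf_le_left C.set.odd)
      (hn z C.hzS) (hn w hwS) ?_ ?_ ?_
    · exact le_trans (le_inf ((inf_le_inf_right _ inf_le_left).trans C.W_inf_C.le)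
        (inf_le_left.trans inf_le_right)) (L.R_inf_le C B)
    · exact le_trans (le_inf ((inf_le_inf_right _ inf_le_left).trans (C.W_inf hwS hw2).le)
        (inf_le_left.trans inf_le_right)) (L.theta_inf_le C B hwS hw2 hwz')
    · exact le_trans (le_inf ((inf_le_inf_right _ inf_le_left).trans (C.W_inf h1 h2).le)
        (inf_le_left.trans inf_le_right)) (L.theta_inf_le C B h1 h2 h3)
  · have hn : ∀ x ∈ S, x ∈ normalizer ((oc K ⊓ 𝐌 : Subgroup G) : Set G) := fun x hx =>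
      Signalizer.le_normalizer_inf (A := zpowers x) (zpowers_le.2 (le_normalizer_oc K (L.le hx)))
        (zpowers_le.2 (le_normalizer (C.set.norm hx))) (mem_zpowers x)
    exact C.le_W B hwS hw2 hwz' (not_dvd_of_le inf_le_left (oc_odd K)) inf_le_right (hn z C.hzS)
      (hn w hwS) (((inf_le_inf_right _ inf_le_left).trans (L.core_z C B)).trans C.R_le)
      (L.supN C B (Signalizer.le_normalizer_inf (inf_le_left.trans (le_normalizer_oc K))
        (inf_le_right.trans le_normalizer)) hwS hw2 hwz')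

end LocSub

namespace Ctx

variable (C : Ctx S W z) {p : ℕ} (B : Bad S W z p)
include C B

/-- The local subgroup of a `C(z)`-invariant odd subgroup. -/
theorem locSub {U : Subgroup G} (hU : U ≠ ⊥) (hodd : ¬ 2 ∣ Nat.card U)
    (hCU : 𝐂 ≤ normalizer (U : Set G)) : LocSub S W z (normalizer (U : Set G)) where
  le := C.S_le_C.trans hCU
  iso := by
    intro k hk hkS
    by_contra hne
    have hx2 : orderOf (k * z * k⁻¹) = 2 := by rw [Involution.orderOf_conj, C.z2]
    refine C.false_of_transitive hU hodd (C.S_le_C.trans hCU) hCU fun x hxS hx hxz => ?_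
    obtain ⟨h, hh, hhx⟩ := C.trans hkS hx2 hne hxS hx hxz
    refine ⟨h * k, mul_mem (hCU hh.2) hk, ?_⟩
    rw [← hhx]; group
  coreM := (le_core_z inf_le_right (not_dvd_of_le inf_le_left (oc_odd _))
    (Signalizer.le_normalizer_inf (hCU.trans (le_normalizer_oc _)) le_normalizer)).trans C.R_le_M
  sup := fun v _ _ _ g hg => ⟨1, one_mem _, Commute.one_left v, by rw [one_mul]; exact hCU hg.1⟩

end Ctx

/-- The largest subgroup of `W` normalised by `C(z)`. -/
def yc (W : Subgroup G) (z : G) : Subgroup G :=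
  ⨆ X : {X : Subgroup G // X ≤ W ∧ centralizer ({z} : Set G) ≤ normalizer (X : Set G)}, (X : Subgroup G)

theorem yc_le (W : Subgroup G) (z : G) : yc W z ≤ W := iSup_le fun X => X.2.1

theorem le_normalizer_yc (W : Subgroup G) (z : G) :
    centralizer ({z} : Set G) ≤ normalizer (yc W z : Set G) :=
  Signalizer.le_normalizer_iSup fun X => X.2.2

theorem le_yc {X : Subgroup G} (hX : X ≤ W) (hn : 𝐂 ≤ normalizer (X : Set G)) : X ≤ yc W z :=
  le_iSup (fun X : {X : Subgroup G // X ≤ W ∧ centralizer ({z} : Set G) ≤ normalizer (X : Set G)} =>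
    (X : Subgroup G)) ⟨X, hX, hn⟩

namespace Ctx

variable (C : Ctx S W z) {p : ℕ} (B : Bad S W z p)
include C B

/-- Odd `C(z)`-invariant subgroups of `N(W)` lie in `yc`. -/
theorem le_yc_of_le_M {X : Subgroup G} (hX : ¬ 2 ∣ Nat.card X) (hXM : X ≤ 𝐌)
    (hn : 𝐂 ≤ normalizer (X : Set G)) : X ≤ yc W z := by
  obtain ⟨w, hw, hwz⟩ := C.facts.ex
  have hw2 : orderOf (w : G) = 2 := by rw [Subgroup.orderOf_coe]; exact hw
  refine le_yc (C.le_W B w.2 hw2 (fun e => hwz (Subtype.ext e)) hX hXM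
    (hn (C.S_le_C C.hzS)) (hn (C.S_le_C w.2)) ?_ (SupN.of_le (inf_le_left.trans hn))) hn
  exact (le_core_z inf_le_right (not_dvd_of_le inf_le_left hX)
    (Signalizer.le_normalizer_inf hn le_normalizer)).trans C.R_le

omit B in
theorem R_le_yc : 𝐑 ≤ yc W z :=
  le_yc C.R_le (le_normalizer.trans (Cores.normalizer_le_normalizer_map _))

end Ctx

end Cfsg.Agent.CoreKilling.RankTwo
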