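import Cfsg.Agent.Lib.CoreKilling.RankTwo.Ctx
import Cfsg.Agent.Lib.CoreKilling.RankTwo.Easy
import Cfsg.Agent.Lib.CoreKilling.WeakMain
import Cfsg.Agent.S0516
import Cfsg.Agent.S1221

/-!
# Core killing, everything but the ascent (owner: helper55, for helper44's S1290)

* `core_bot_of_ascent` : S1290 given that the bad configuration of 2-rank two does not exist
-/

set_option autoImplicit false
set_option linter.style.haveILetI false

namespace Cfsg.Agent.CoreKilling.RankTwo

open Subgroup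
open scoped Pointwise

universe u

variable {G : Type u} [Group G] [Finite G]

/-- The join of the cores over `S` satisfies `Setting`. -/
theorem setting_iSup (S : Sylow 2 G)
    (hodd : Odd (Nat.card ↥(⨆ x : {x : G // x ∈ S ∧ orderOf x = 2},
      Cfsg.centralizerPPrimeCore 2 (x : G))))
    (hfix : ∀ x : G, x ∈ S → orderOf x = 2 →
      (⨆ y : {y : G // y ∈ S ∧ orderOf y = 2}, Cfsg.centralizerPPrimeCore 2 (y : G)) ⊓
        centralizer {x} = Cfsg.centralizerPPrimeCore 2 x) :
    Setting S (⨆ x : {x : G // x ∈ S ∧ orderOf x = 2}, Cfsg.centralizerPPrimeCore 2 (x : G)) where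
  odd := fun h => Nat.not_even_iff_odd.2 hodd (even_iff_two_dvd.2 h)
  fix := hfix
  norm := by
    intro s hs
    set W := ⨆ x : {x : G // x ∈ S ∧ orderOf x = 2}, Cfsg.centralizerPPrimeCore 2 (x : G) with hW
    refine Signalizer.mem_normalizer_of_conj_mem fun w hw => ?_
    have hle : W ≤ W.comap (MulAut.conj s).toMonoidHom := iSup_le fun ⟨x, hx, hx2⟩ => by
      rw [← map_le_iff_le_comap, Signalizer.map_conj_centralizerPPrimeCore]
      exact le_iSup (fun y : {y : G // y ∈ S ∧ orderOf y = 2} =>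
        Cfsg.centralizerPPrimeCore 2 (y : G))
        ⟨s * x * s⁻¹, (S : Subgroup G).mul_mem ((S : Subgroup G).mul_mem hs hx)
          ((S : Subgroup G).inv_mem hs), (Involution.orderOf_conj s x).trans hx2⟩
    exact hle hw

/-- If `C(z) ≤ N(W)` for the central involution, the same holds for all involutions of `S`. -/
theorem centralizer_le_of_central [IsSimpleGroup G] (hna : ¬ IsMulCommutative G) {S : Sylow 2 G}
    {W : Subgroup G} (h : Setting S W) {z : G} (hzS : z ∈ S)
    (hf : TwoFacts (S : Subgroup G) ⟨z, hzS⟩)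
    (hgood : centralizer ({z} : Set G) ≤ normalizer (W : Set G)) :
    ∀ x ∈ S, orderOf x = 2 → centralizer ({x} : Set G) ≤ normalizer (W : Set G) := by
  intro x hxS hx
  have hz : orderOf z = 2 := by have := hf.z2; rwa [Subgroup.orderOf_mk] at this
  have hzc : ∀ s ∈ S, Commute s z := fun s hs =>
    congrArg Subtype.val (mem_center_iff.1 hf.zc ⟨s, hs⟩)
  by_cases hxz : x = z
  · exact hxz ▸ hgood
  obtain ⟨g, hg⟩ := one_class hna S hzS hf hx
  obtain ⟨m, -, hmx, hm⟩ := exists_move S hzc le_top (mem_top g) hg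
  obtain ⟨h4, hle⟩ := isFour_with hzc hz hzS hxS hx hxz
  have h1 : MulAut.conj m⁻¹ • (zpowers z ⊔ zpowers x) ≤ (S : Subgroup G) := by
    rintro _ ⟨y, hy, rfl⟩
    have hsx : Commute y x :=
      Signalizer.commute_of_isMulCommutative h4.1.1 hy (mem_sup_right (mem_zpowers x))
    show m⁻¹ * y * m⁻¹⁻¹ ∈ (S : Subgroup G)
    rw [inv_inv]
    exact hm y (hle hy) hsx
  have hmM : m ∈ normalizer (W : Set G) := by
    have := inv_mem (h.mem_normalizer h4 hle h1)
    rwa [inv_inv] at this
  intro c hc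
  have h2 : m⁻¹ * c * m ∈ normalizer (W : Set G) := hgood (mem_centralizer_singleton_iff.2 (by
    have e : c * x = x * c := mem_centralizer_singleton_iff.1 hc
    calc m⁻¹ * c * m * z = m⁻¹ * (c * (m * z * m⁻¹)) * m := by group
      _ = m⁻¹ * ((m * z * m⁻¹) * c) * m := by rw [hmx, e]
      _ = z * (m⁻¹ * c * m) := by group))
  simpa [mul_assoc] using mul_mem (mul_mem hmM h2) (inv_mem hmM)

/-- **S1290 given the ascent.** -/
theorem core_bot_of_ascent [IsSimpleGroup G] (hna : ¬ IsMulCommutative G) (S : Sylow 2 G)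
    (hodd : Odd (Nat.card ↥(⨆ x : {x : G // x ∈ S ∧ orderOf x = 2},
      Cfsg.centralizerPPrimeCore 2 (x : G))))
    (hfix : ∀ x : G, x ∈ S → orderOf x = 2 →
      (⨆ y : {y : G // y ∈ S ∧ orderOf y = 2}, Cfsg.centralizerPPrimeCore 2 (y : G)) ⊓
        centralizer {x} = Cfsg.centralizerPPrimeCore 2 x)
    (hAsc : ∀ (S : Sylow 2 G) (W : Subgroup G) (z : G), Ctx S W z → False)
    (t : G) (ht : orderOf t = 2) : Cfsg.centralizerPPrimeCore 2 t = ⊥ := by
  haveI : Fact (Nat.Prime 2) := ⟨Nat.prime_two⟩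
  have h := setting_iSup S hodd hfix
  set W := ⨆ x : {x : G // x ∈ S ∧ orderOf x = 2}, Cfsg.centralizerPPrimeCore 2 (x : G)
  by_cases hr : Cfsg.PRankLE 2 2 G
  swap
  · exact core_bot_of_rank_three hna h hr ht
  have hO : Cfsg.oddCore G = ⊥ := oddCore_eq_bot_of_even (ht ▸ orderOf_dvd_natCard t)
  have hSE : ∀ H : Subgroup G, Cfsg.IsStronglyEmbedded H →
      (Cfsg.oddCore ↥H).map H.subtype ≤ Cfsg.oddCore G := fun H hH => S1221.result H hH
  haveI : Fintype (GaloisField 2 4) := Fintype.ofFinite _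
  have hK : Fintype.card (GaloisField 2 4) = 16 := by
    rw [← Nat.card_eq_fintype_card, GaloisField.card 2 4 (by norm_num)]
    norm_num
  obtain ⟨P⟩ : Nonempty (Sylow 2 (Cfsg.PSU 3 (GaloisField 2 4) 4)) := inferInstance
  refine h.core_eq_bot hSE hO ?_ t ht
  have hqw : Cfsg.IsQuasiDihedral (S : Subgroup G) ∨ Cfsg.IsWreathed (S : Subgroup G) →
      ∀ x ∈ S, orderOf x = 2 → centralizer ({x} : Set G) ≤ normalizer (W : Set G) := by
    intro hq
    obtain ⟨⟨z, hzS⟩, hf⟩ := exists_twoFacts hq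
    by_cases hgood : centralizer ({z} : Set G) ≤ normalizer (W : Set G)
    · exact centralizer_le_of_central hna h hzS hf hgood
    refine (hAsc S W z ⟨h, hO, fun e => hgood ?_, hSE, index_ne_two hna, hq, hzS, hf,
      fun a ha => one_class hna S hzS hf ha, hgood⟩).elim
    rw [e]
    intro g _
    exact mem_normalizer_iff.2 fun a => by simp only [mem_bot, conj_eq_one_iff]
  rcases S0516.result hna hr S hK P with ⟨n, hn, he⟩ | hq | hw | hP
  · exact centralizer_le_of_dihedral h hn he
  · exact hqw (Or.inl hq)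
  · exact hqw (Or.inr hw)
  · obtain ⟨e⟩ := hP
    exact centralizer_le_of_psu_shape h ((TwoNilCent.shape_psu hK P).congr e.symm)

end Cfsg.Agent.CoreKilling.RankTwo
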