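import Cfsg.Agent.Lib.QDWreath.Wreathed
import Cfsg.Agent.Lib.QDWreath.SemidihedralStructure

/-!
# Quasi-dihedral and wreathed 2-groups, as used by core killing in 2-rank two (owner: helper44)

* `TwoFacts S z` : `z` is the one central involution, every other involution is moved to its product
  with `z`, two anticommuting roots of `z` have central centraliser, and either the other involutions
  are conjugate or `z` is a square of a central element and the square involutions lie in a four group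
* `exists_twoFacts`
-/

set_option autoImplicit false

namespace Cfsg.Agent.CoreKilling.RankTwo

open Subgroup
open Cfsg.Agent.QDWreath

/-- What core killing uses about a Sylow 2-subgroup. -/
structure TwoFacts (S : Type*) [Group S] (z : S) : Prop where
  z2 : orderOf z = 2
  zc : z ∈ center S
  uniq : ∀ x ∈ center S, orderOf x = 2 → x = z
  cyc : IsCyclic (center S)
  card : 8 * Nat.card (center S) ≤ Nat.card S
  swap : ∀ x : S, orderOf x = 2 → x ≠ z → ∃ s, s * x * s⁻¹ = x * z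
  cent : ∀ u w c : S, u * u = z → w * w = z → w * u * w⁻¹ = u⁻¹ → Commute c u → Commute c w →
    c ∈ center S
  cab : ∀ x a : S, orderOf x = 2 → x ≠ z → Commute a x → a * a ∈ center S →
    a ∈ center S ∨ a * x ∈ center S
  fus : (∀ x y : S, orderOf x = 2 → x ≠ z → orderOf y = 2 → y ≠ z → IsConj x y) ∨
    ((∃ c ∈ center S, c * c = z) ∧
      ∃ e : S, (∀ c : S, orderOf (c * c) = 2 → c * c = z ∨ c * c = e ∨ c * c = e * z) ∧
        ∃ H : Subgroup S, H.index = 2 ∧ ∀ x ∈ H, orderOf x = 2 → x = z ∨ x = e ∨ x = e * z)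
  ex : ∃ v : S, orderOf v = 2 ∧ v ≠ z

variable {S : Type*} [Group S]

theorem qd_facts {n : ℕ} (d : QDData S n) : TwoFacts S (d.a (tp n (n - 1))) := by
  haveI := d.finite
  have hn := d.hn
  have h0 : tp n (n - 1) ≠ 0 := tp_ne_zero n (n - 1) (by omega)
  refine ⟨d.orderOf_a_half, d.mem_center.2 (Or.inr rfl), ?_, ?_, ?_, ?_, ?_, ?_, Or.inl ?_, ?_⟩
  · intro x hx hx2
    rcases d.mem_center.1 hx with rfl | rfl
    · rw [orderOf_one] at hx2; omega
    · rfl
  · exact isCyclic_of_prime_card (p := 2) (hp := ⟨Nat.prime_two⟩) d.card_center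
  · rw [d.card_center, d.card, show n + 1 = (n - 3) + 4 by omega, pow_add]
    have := Nat.one_le_pow (n - 3) 2 two_pos
    omega
  · intro x hx hxz
    obtain ⟨k, rfl⟩ := (d.orderOf_eq_two_cases hx).resolve_left hxz
    obtain ⟨j, hj⟩ := d.exists_conj_b (2 * k) (tp n (n - 2))
    refine ⟨d.a j, ?_⟩
    rw [hj, d.b_mul_a, ← d.half_eq_two_mul]
    congr 1
    unfold QDData.rexp
    linear_combination -d.half_sq + half_mul_two d.one_le
  · intro u w c hu hw hinv hcu hcw
    have hzz : d.a (tp n (n - 1)) * d.a (tp n (n - 1)) = 1 := d.a_sq_eq_one.2 (Or.inr rfl)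
    -- one of `u`, `w`, `u * w` is a rotation `r` moved by one of the others, and `c` commutes with it
    have huu : u⁻¹ ≠ u := fun e => d.a_half_ne_one (by rw [← hu]; nth_rw 1 [← e]; rw [inv_mul_cancel])
    have hww : w⁻¹ ≠ w := fun e => d.a_half_ne_one (by rw [← hw]; nth_rw 1 [← e]; rw [inv_mul_cancel])
    have key : ∀ i : ZMod (2 ^ n), ∀ t : S, Commute c (d.a i) → Commute c t →
        t * d.a i * t⁻¹ ≠ d.a i → c ∈ center S := by
      intro i t hci hct hti
      rcases d.cases c with ⟨j, rfl⟩ | ⟨j, rfl⟩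
      · rcases d.cases t with ⟨l, rfl⟩ | ⟨l, rfl⟩
        · exact absurd (d.conj_a_a l i) hti
        · have h1 : d.b l * d.a j * (d.b l)⁻¹ = d.a j := mul_inv_eq_iff_eq_mul.2 hct.symm.eq
          rw [d.conj_b_a] at h1
          have h2 := d.a_injective h1
          have h3 : (2 * j) * (tp n (n - 2) - 1) = 0 := by
            have := d.half_eq_two_mul
            unfold QDData.rexp at h2
            linear_combination h2 - j * this
          have hu' : IsUnit (tp n (n - 2) - 1) := by simpa using d.isUnit_moveFactor.neg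
          rcases (two_mul_eq_zero d.one_le).1 (hu'.mul_left_eq_zero.1 h3) with rfl | rfl
          · rw [d.a_zero]; exact one_mem _
          · exact d.mem_center.2 (Or.inr rfl)
      · -- a reflection commutes only with central rotations
        exfalso
        have h1 : d.b j * d.a i * (d.b j)⁻¹ = d.a i := mul_inv_eq_iff_eq_mul.2 hci.eq
        rw [d.conj_b_a] at h1
        rcases d.cases t with ⟨l, rfl⟩ | ⟨l, rfl⟩
        · exact hti (d.conj_a_a l i)
        · exact hti (by rw [d.conj_b_a, h1])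
    rcases d.cases u with ⟨i, rfl⟩ | ⟨i, rfl⟩
    · exact key i w hcu hcw (by rw [hinv]; exact huu)
    rcases d.cases w with ⟨j, rfl⟩ | ⟨j, rfl⟩
    · refine key j (d.b i) hcw hcu fun e => ?_
      have h1 : d.a j * d.b i * (d.a j)⁻¹ = d.b i := by
        rw [mul_inv_eq_iff_eq_mul] at e ⊢; exact e.symm
      exact huu (hinv.symm.trans h1)
    · obtain ⟨l, hl⟩ : ∃ l, d.b i * d.b j = d.a l := ⟨_, d.b_mul_b i j⟩
      refine key l (d.b i) (hl ▸ hcu.mul_right hcw) hcu fun e => ?_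
      rw [← hl] at e
      have h1 : d.b j * d.b i = d.b i * d.b j := by
        rw [mul_inv_eq_iff_eq_mul] at e
        exact (mul_left_cancel (a := d.b i) (by rw [e, mul_assoc])).symm
      exact huu (hinv.symm.trans (mul_inv_eq_iff_eq_mul.2 h1))
  · intro x a hx hxz hax _
    obtain ⟨k, rfl⟩ := (d.orderOf_eq_two_cases hx).resolve_left hxz
    have hrot : ∀ i, Commute (d.a i) (d.b (2 * k)) → d.a i ∈ center S := fun i hi => by
      have h1 : d.b (2 * k) * d.a i * (d.b (2 * k))⁻¹ = d.a i := mul_inv_eq_iff_eq_mul.2 hi.symm.eq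
      rw [d.conj_b_a] at h1
      have h2 := d.a_injective h1
      have h3 : (2 * i) * (tp n (n - 2) - 1) = 0 := by
        have := d.half_eq_two_mul
        unfold QDData.rexp at h2
        linear_combination h2 - i * this
      have hu' : IsUnit (tp n (n - 2) - 1) := by simpa using d.isUnit_moveFactor.neg
      rcases (two_mul_eq_zero d.one_le).1 (hu'.mul_left_eq_zero.1 h3) with rfl | rfl
      · rw [d.a_zero]; exact one_mem _
      · exact d.mem_center.2 (Or.inr rfl)
    rcases d.cases a with ⟨i, rfl⟩ | ⟨i, rfl⟩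
    · exact Or.inl (hrot i hax)
    · obtain ⟨l, hl⟩ : ∃ l, d.b i * d.b (2 * k) = d.a l := ⟨_, d.b_mul_b i _⟩
      refine Or.inr ?_
      rw [hl]
      exact hrot l (hl ▸ hax.mul_left (Commute.refl _))
  · intro x y hx hxz hy hyz
    obtain ⟨k, rfl⟩ := (d.orderOf_eq_two_cases hx).resolve_left hxz
    obtain ⟨l, rfl⟩ := (d.orderOf_eq_two_cases hy).resolve_left hyz
    obtain ⟨j, hj⟩ := d.exists_conj_b (2 * k) (l - k)
    exact isConj_iff.2 ⟨d.a j, by rw [hj]; congr 1; ring⟩
  · exact ⟨d.b (2 * 0), orderOf_eq_prime (by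
      rw [sq, mul_zero, d.b_mul_b, mul_zero, add_zero, d.a_zero]) (fun e => d.a_ne_b 0 _ (d.a_zero.trans e.symm)),
      fun e => d.a_ne_b _ _ e.symm⟩

/-- The parity subgroup of a wreathed group: its involutions lie in the base. -/
def paritySub {n : ℕ} (d : WrData S n) : Subgroup S where
  carrier := {g | (∃ i j k, g = d.a i j ∧ i + j = 2 * k) ∨ ∃ i j k, g = d.b i j ∧ i + j = 2 * k + 1}
  one_mem' := Or.inl ⟨0, 0, 0, d.a_zero.symm, by ring⟩
  mul_mem' := by
    rintro g h (⟨i, j, k, rfl, hk⟩ | ⟨i, j, k, rfl, hk⟩) (⟨i', j', k', rfl, hk'⟩ | ⟨i', j', k', rfl, hk'⟩)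
    · exact Or.inl ⟨_, _, k + k', d.a_mul_a .., by linear_combination hk + hk'⟩
    · exact Or.inr ⟨_, _, k + k', d.a_mul_b .., by linear_combination hk + hk'⟩
    · exact Or.inr ⟨_, _, k + k', d.b_mul_a .., by linear_combination hk + hk'⟩
    · exact Or.inl ⟨_, _, k + k' + 1, d.b_mul_b .., by linear_combination hk + hk'⟩
  inv_mem' := by
    rintro g (⟨i, j, k, rfl, hk⟩ | ⟨i, j, k, rfl, hk⟩)
    · exact Or.inl ⟨_, _, -k, d.a_inv .., by linear_combination -hk⟩
    · exact Or.inr ⟨_, _, -k - 1, d.b_inv .., by linear_combination -hk⟩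

theorem parity_ne {n : ℕ} (hn : 1 ≤ n) (k : ZMod (2 ^ n)) : 2 * k ≠ 1 := fun e => by
  refine tp_ne_zero n (n - 1) (by omega) ?_
  have h1 : 2 * tp n (n - 1) = 0 := (two_mul_eq_zero hn).2 (Or.inr rfl)
  linear_combination k * h1 - tp n (n - 1) * e

theorem parity_cases {n : ℕ} (i : ZMod (2 ^ n)) : ∃ k, i = 2 * k ∨ i = 2 * k + 1 := by
  obtain ⟨m, rfl⟩ := ZMod.natCast_zmod_surjective i
  refine ⟨(m / 2 : ℕ), ?_⟩
  rcases Nat.mod_two_eq_zero_or_one m with h | h
  · exact Or.inl (by nth_rw 1 [← Nat.div_add_mod m 2, h]; push_cast; ring)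
  · exact Or.inr (by nth_rw 1 [← Nat.div_add_mod m 2, h]; push_cast; ring)

theorem index_paritySub {n : ℕ} (d : WrData S n) : (paritySub d).index = 2 := by
  rw [Subgroup.index_eq_two_iff]
  refine ⟨d.a 1 0, fun g => ?_⟩
  rcases d.cases g with ⟨i, j, rfl⟩ | ⟨i, j, rfl⟩
  · rw [d.a_mul_a]
    obtain ⟨k, hk | hk⟩ := parity_cases (i + j)
    · refine Or.inr ⟨Or.inl ⟨i, j, k, rfl, hk⟩, ?_⟩
      rintro (⟨i', j', k', e, hk'⟩ | ⟨i', j', k', e, -⟩)
      · obtain ⟨rfl, rfl⟩ := d.a_inj.1 e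
        exact parity_ne d.one_le (k' - k) (by linear_combination hk - hk')
      · exact d.a_ne_b _ _ _ _ e
    · refine Or.inl ⟨Or.inl ⟨_, _, k + 1, rfl, by linear_combination hk⟩, ?_⟩
      rintro (⟨i', j', k', e, hk'⟩ | ⟨i', j', k', e, -⟩)
      · obtain ⟨rfl, rfl⟩ := d.a_inj.1 e
        exact parity_ne d.one_le (k' - k) (by linear_combination hk - hk')
      · exact d.a_ne_b _ _ _ _ e
  · rw [d.b_mul_a]
    obtain ⟨k, hk | hk⟩ := parity_cases (i + j)
    · refine Or.inl ⟨Or.inr ⟨_, _, k, rfl, by linear_combination hk⟩, ?_⟩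
      rintro (⟨i', j', k', e, -⟩ | ⟨i', j', k', e, hk'⟩)
      · exact d.a_ne_b _ _ _ _ e.symm
      · obtain ⟨rfl, rfl⟩ := d.b_inj.1 e
        exact parity_ne d.one_le (k - k') (by linear_combination hk' - hk)
    · refine Or.inr ⟨Or.inr ⟨i, j, k, rfl, hk⟩, ?_⟩
      rintro (⟨i', j', k', e, -⟩ | ⟨i', j', k', e, hk'⟩)
      · exact d.a_ne_b _ _ _ _ e.symm
      · obtain ⟨rfl, rfl⟩ := d.b_inj.1 e
        exact parity_ne d.one_le (k' - k) (by linear_combination hk - hk')

theorem wr_facts {n : ℕ} (d : WrData S n) :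
    TwoFacts S (d.a (tp n (n - 1)) (tp n (n - 1))) := by
  haveI := d.finite
  have hn := d.hn
  set h := tp n (n - 1) with hh
  have h0 : h ≠ 0 := tp_ne_zero n (n - 1) (by omega)
  have hhh : h + h = 0 := by rw [← two_mul]; exact (two_mul_eq_zero d.one_le).2 (Or.inr rfl)
  have hhalf : h = 2 * tp n (n - 2) := (two_mul_tp n (n - 2) (n - 1) (by omega)).symm
  have hz1 : d.a h h ≠ 1 := fun e => h0 (d.a_inj.1 (e.trans d.a_zero.symm)).1
  refine ⟨WrData.orderOf_eq_two.2 ⟨by rw [d.a_mul_a, hhh, d.a_zero], hz1⟩, d.mem_center.2 ⟨h, rfl⟩,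
    ?_, ?_, ?_, ?_, ?_, ?_, Or.inr ⟨⟨d.a (tp n (n - 2)) (tp n (n - 2)), d.mem_center.2 ⟨_, rfl⟩,
      by rw [d.a_mul_a, ← two_mul, ← hhalf]⟩, d.a h 0, ?_, paritySub d, index_paritySub d, ?_⟩, ?_⟩
  · intro x hx hx2
    obtain ⟨i, rfl⟩ := d.mem_center.1 hx
    obtain ⟨h1, h2⟩ := WrData.orderOf_eq_two.1 hx2
    rw [d.a_mul_a, ← d.a_zero, d.a_inj, ← two_mul, two_mul_eq_zero d.one_le] at h1
    rcases h1.1 with rfl | rfl
    · exact absurd d.a_zero h2
    · rfl
  · rw [d.center_eq]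
    exact isCyclic_of_surjective _ d.diagHom.rangeRestrict_surjective
  · rw [d.center_eq, ← Nat.card_congr (MonoidHom.ofInjective d.diagHom_injective).toEquiv,
      Nat.card_congr Multiplicative.toAdd, Nat.card_zmod, d.card,
      show 2 * n + 1 = n + (n - 2) + 3 by omega, pow_add, pow_add]
    have := Nat.one_le_pow (n - 2) 2 two_pos
    have := Nat.one_le_pow n 2 two_pos
    nlinarith
  · intro x hx hxz
    obtain ⟨h1, h2⟩ := WrData.orderOf_eq_two.1 hx
    rcases d.sq_eq_one.1 h1 with ⟨i, j, rfl, hi, hj⟩ | ⟨i, rfl⟩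
    · refine ⟨d.b 0 0, ?_⟩
      rw [d.conj_b_a, d.a_mul_a, d.a_inj]
      rcases hi with rfl | rfl <;> rcases hj with rfl | rfl
      · exact absurd d.a_zero h2
      · exact ⟨by rw [zero_add], by rw [hhh]⟩
      · exact ⟨by rw [hhh], by rw [zero_add]⟩
      · exact absurd rfl hxz
    · refine ⟨d.a h 0, ?_⟩
      rw [d.conj_a_b, d.b_mul_a, d.b_inj]
      exact ⟨by ring, by linear_combination -hhh⟩
  · intro u w c hu hw hinv hcu hcw
    have huu : u⁻¹ ≠ u := fun e => hz1 (by rw [← hu]; nth_rw 1 [← e]; rw [inv_mul_cancel])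
    have key : ∀ i j : ZMod (2 ^ n), ∀ t : S, Commute c (d.a i j) → Commute c t →
        t * d.a i j * t⁻¹ ≠ d.a i j → c ∈ center S := by
      intro i j t hci hct hti
      rcases d.cases t with ⟨k, l, rfl⟩ | ⟨k, l, rfl⟩
      · exact absurd (d.conj_a_a k l i j) hti
      rw [d.conj_b_a, Ne, d.a_inj] at hti
      rcases d.cases c with ⟨p, q, rfl⟩ | ⟨p, q, rfl⟩
      · have h1 : d.b k l * d.a p q * (d.b k l)⁻¹ = d.a p q := mul_inv_eq_iff_eq_mul.2 hct.symm.eq
        rw [d.conj_b_a, d.a_inj] at h1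
        exact d.mem_center.2 ⟨q, by rw [h1.1]⟩
      · have h1 : d.b p q * d.a i j * (d.b p q)⁻¹ = d.a i j := mul_inv_eq_iff_eq_mul.2 hci.eq
        rw [d.conj_b_a, d.a_inj] at h1
        exact absurd h1 hti
    rcases d.cases u with ⟨i, j, rfl⟩ | ⟨i, j, rfl⟩
    · exact key i j w hcu hcw (by rw [hinv]; exact huu)
    rcases d.cases w with ⟨k, l, rfl⟩ | ⟨k, l, rfl⟩
    · refine key k l (d.b i j) hcw hcu fun e => ?_
      have h1 : d.a k l * d.b i j * (d.a k l)⁻¹ = d.b i j := by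
        rw [mul_inv_eq_iff_eq_mul] at e ⊢; exact e.symm
      exact huu (hinv.symm.trans h1)
    · obtain ⟨p, q, hl⟩ : ∃ p q, d.b i j * d.b k l = d.a p q := ⟨_, _, d.b_mul_b i j k l⟩
      refine key p q (d.b i j) (hl ▸ hcu.mul_right hcw) hcu fun e => ?_
      rw [← hl] at e
      have h1 : d.b k l * d.b i j = d.b i j * d.b k l := by
        rw [mul_inv_eq_iff_eq_mul] at e
        exact (mul_left_cancel (a := d.b i j) (by rw [e, mul_assoc])).symm
      exact huu (hinv.symm.trans (mul_inv_eq_iff_eq_mul.2 h1))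
  · intro x a hx hxz hax haa
    obtain ⟨h1, h2⟩ := WrData.orderOf_eq_two.1 hx
    have hc : ∀ k l p q, Commute (d.a p q) (d.b k l) → d.a p q ∈ center S := fun k l p q hpq => by
      have e : d.b k l * d.a p q * (d.b k l)⁻¹ = d.a p q := mul_inv_eq_iff_eq_mul.2 hpq.symm.eq
      rw [d.conj_b_a, d.a_inj] at e
      exact d.mem_center.2 ⟨q, by rw [e.1]⟩
    rcases d.cases x with ⟨i, j, rfl⟩ | ⟨k, l, rfl⟩
    · rw [d.a_mul_a, ← d.a_zero, d.a_inj] at h1
      have hij : i ≠ j := fun e => by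
        subst e
        rcases (two_mul_eq_zero d.one_le).1 (show 2 * i = 0 by rw [two_mul]; exact h1.1) with rfl | rfl
        · exact h2 d.a_zero
        · exact hxz rfl
      rcases d.cases a with ⟨p, q, rfl⟩ | ⟨p, q, rfl⟩
      · rw [d.a_mul_a] at haa
        obtain ⟨t, ht⟩ := d.mem_center.1 haa
        have ht' := d.a_inj.1 ht
        have hpq : 2 * (p - q) = 0 := by linear_combination ht'.1 - ht'.2
        rcases (two_mul_eq_zero d.one_le).1 hpq with e | e
        · exact Or.inl (d.mem_center.2 ⟨q, by rw [sub_eq_zero.1 e]⟩)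
        · refine Or.inr (d.mem_center.2 ⟨q + j, ?_⟩)
          have hij2 : 2 * (i - j) = 0 := by linear_combination h1.1 - h1.2
          rcases (two_mul_eq_zero d.one_le).1 hij2 with e' | e'
          · exact absurd (sub_eq_zero.1 e') hij
          · rw [d.a_mul_a]
            congr 1
            linear_combination e + e' + hhh
      · exfalso
        have e : d.b p q * d.a i j * (d.b p q)⁻¹ = d.a i j := mul_inv_eq_iff_eq_mul.2 hax.eq
        rw [d.conj_b_a, d.a_inj] at e
        exact hij e.1.symm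
    · rcases d.cases a with ⟨p, q, rfl⟩ | ⟨p, q, rfl⟩
      · exact Or.inl (hc k l p q hax)
      · obtain ⟨u, w, hl⟩ : ∃ u w, d.b p q * d.b k l = d.a u w := ⟨_, _, d.b_mul_b p q k l⟩
        refine Or.inr ?_
        rw [hl]
        exact hc k l u w (hl ▸ hax.mul_left (Commute.refl _))
  · intro c hc
    obtain ⟨h1, h2⟩ := WrData.orderOf_eq_two.1 hc
    rcases d.cases c with ⟨i, j, rfl⟩ | ⟨i, j, rfl⟩
    · rw [d.a_mul_a] at h1 h2 ⊢
      rw [d.a_mul_a, ← d.a_zero, d.a_inj] at h1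
      have hi := (two_mul_eq_zero d.one_le).1 (show 2 * (i + i) = 0 by rw [two_mul]; exact h1.1)
      have hj := (two_mul_eq_zero d.one_le).1 (show 2 * (j + j) = 0 by rw [two_mul]; exact h1.2)
      rcases hi with e | e <;> rcases hj with e' | e' <;> rw [e, e'] at h2 ⊢
      · exact absurd d.a_zero h2
      · exact Or.inr (Or.inr (by rw [d.a_mul_a, ← hh, hhh, zero_add]))
      · exact Or.inr (Or.inl rfl)
      · exact Or.inl rfl
    · rw [d.b_mul_b] at h1 h2 ⊢
      rw [d.a_mul_a, ← d.a_zero, d.a_inj] at h1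
      have hij := (two_mul_eq_zero d.one_le).1 (show 2 * (i + j) = 0 by rw [two_mul]; exact h1.1)
      rw [add_comm j i] at h2 ⊢
      rcases hij with e | e <;> rw [e] at h2 ⊢
      · exact absurd d.a_zero h2
      · exact Or.inl rfl
  · intro x hx hx2
    obtain ⟨h1, h2⟩ := WrData.orderOf_eq_two.1 hx2
    rcases hx with ⟨i, j, k, rfl, -⟩ | ⟨i, j, k, rfl, hk⟩
    · rw [d.a_mul_a, ← d.a_zero, d.a_inj] at h1
      rcases (two_mul_eq_zero d.one_le).1 (show 2 * i = 0 by rw [two_mul]; exact h1.1) with rfl | rfl <;>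
        rcases (two_mul_eq_zero d.one_le).1 (show 2 * j = 0 by rw [two_mul]; exact h1.2) with rfl | rfl
      · exact absurd d.a_zero h2
      · exact Or.inr (Or.inr (by rw [d.a_mul_a, ← hh, hhh, zero_add]))
      · exact Or.inr (Or.inl rfl)
      · exact Or.inl rfl
    · rw [d.b_mul_b, ← d.a_zero, d.a_inj] at h1
      exact absurd (show 2 * -k = 1 by linear_combination -h1.1 + hk) (parity_ne d.one_le _)
  · exact ⟨d.a h 0, WrData.orderOf_eq_two.2 ⟨by rw [d.a_mul_a, hhh, add_zero, d.a_zero],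
      fun e => h0 (d.a_inj.1 (e.trans d.a_zero.symm)).1⟩, fun e => h0 (d.a_inj.1 e).2.symm⟩

/-- The facts hold in both types. -/
theorem exists_twoFacts (h : Cfsg.IsQuasiDihedral S ∨ Cfsg.IsWreathed S) :
    ∃ z : S, TwoFacts S z := by
  rcases h with h | h
  · obtain ⟨n, ⟨d⟩⟩ := nonempty_qdData h
    exact ⟨_, qd_facts d⟩
  · obtain ⟨n, ⟨d⟩⟩ := nonempty_wrData h
    exact ⟨_, wr_facts d⟩

end Cfsg.Agent.CoreKilling.RankTwo
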